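import Mathlib
import Cfsg.Prelude.Def_Sporadic_a

set_option autoImplicit false

/-!
Abstract facts on Steiner systems: transport along bijections, the number of blocks, and
the fact that a Steiner system mapped into another one is mapped onto it.
-/

namespace Cfsg.Agent.Helper9.Steiner

open Cfsg

/-- the image of a family of finite sets under a bijection of the points. -/
def mapSys {α β : Type*} [DecidableEq β] (e : α ≃ β) (B : Set (Finset α)) : Set (Finset β) :=
  (fun b => b.image e) '' B

theorem mem_mapSys {α β : Type*} [DecidableEq α] [DecidableEq β] (e : α ≃ β)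
    (B : Set (Finset α)) (c : Finset β) : c ∈ mapSys e B ↔ c.image e.symm ∈ B := by
  constructor
  · rintro ⟨b, hb, rfl⟩
    have : (b.image e).image e.symm = b := by
      rw [Finset.image_image]; simp
    simpa [this] using hb
  · intro h
    refine ⟨c.image e.symm, h, ?_⟩
    simp only
    rw [Finset.image_image]; simp

theorem mapSys_trans {α β γ : Type*} [DecidableEq β] [DecidableEq γ] (e : α ≃ β) (f : β ≃ γ)
    (B : Set (Finset α)) : mapSys (e.trans f) B = mapSys f (mapSys e B) := by
  unfold mapSys
  rw [Set.image_image]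
  congr 1
  funext b
  rw [Finset.image_image]
  rfl

theorem mapSys_symm_mapSys {α β : Type*} [DecidableEq α] [DecidableEq β] (e : α ≃ β)
    (B : Set (Finset α)) : mapSys e.symm (mapSys e B) = B := by
  rw [← mapSys_trans]
  unfold mapSys
  simp

theorem steiner_mapSys {α β : Type*} [DecidableEq α] [DecidableEq β] (e : α ≃ β) {t k : ℕ}
    {B : Set (Finset α)} (hB : IsSteinerSystem t k B) : IsSteinerSystem t k (mapSys e B) := by
  refine ⟨?_, ?_⟩
  · rintro c ⟨b, hb, rfl⟩
    simp only
    rw [Finset.card_image_of_injective _ e.injective]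
    exact hB.1 b hb
  · intro s hs
    have hs' : (s.image e.symm).card = t := by
      rw [Finset.card_image_of_injective _ e.symm.injective]; exact hs
    obtain ⟨b, ⟨hbB, hsb⟩, huniq⟩ := hB.2 _ hs'
    refine ⟨b.image e, ⟨⟨b, hbB, rfl⟩, ?_⟩, ?_⟩
    · intro x hx
      rw [Finset.mem_image]
      refine ⟨e.symm x, hsb (Finset.mem_image_of_mem _ hx), by simp⟩
    · rintro c ⟨⟨b', hb', rfl⟩, hsc⟩
      simp only at hsc ⊢
      have : b' = b := by
        apply huniq
        refine ⟨hb', ?_⟩
        intro x hx
        rw [Finset.mem_image] at hx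
        obtain ⟨y, hy, rfl⟩ := hx
        have := hsc hy
        rw [Finset.mem_image] at this
        obtain ⟨z, hz, hzy⟩ := this
        have : z = e.symm y := by rw [← hzy]; simp
        rw [← this]; exact hz
      rw [this]

/-- the number of blocks of a Steiner system. -/
theorem steiner_card {α : Type*} [Fintype α] [DecidableEq α] {t k : ℕ} {B : Set (Finset α)}
    (hB : IsSteinerSystem t k B) :
    Nat.card B * Nat.choose k t = Nat.choose (Fintype.card α) t := by
  classical
  have hfin : B.Finite := Set.toFinite B
  set Bf : Finset (Finset α) := hfin.toFinset with hBf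
  have hmem : ∀ b, b ∈ Bf ↔ b ∈ B := fun b => by rw [hBf]; exact Set.Finite.mem_toFinset hfin
  have hcard : Nat.card B = Bf.card := by
    rw [Nat.card_coe_set_eq, Set.ncard_eq_toFinset_card B hfin]
  have hU : (Finset.univ : Finset α).powersetCard t = Bf.biUnion (fun b => b.powersetCard t) := by
    ext s
    rw [Finset.mem_powersetCard, Finset.mem_biUnion]
    constructor
    · rintro ⟨-, hs⟩
      obtain ⟨b, ⟨hbB, hsb⟩, -⟩ := hB.2 s hs
      exact ⟨b, (hmem b).2 hbB, Finset.mem_powersetCard.2 ⟨hsb, hs⟩⟩
    · rintro ⟨b, -, hb⟩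
      exact ⟨Finset.subset_univ _, (Finset.mem_powersetCard.1 hb).2⟩
  have hdisj : (Bf : Set (Finset α)).PairwiseDisjoint (fun b => b.powersetCard t) := by
    intro b hb b' hb' hne
    rw [Function.onFun, Finset.disjoint_left]
    intro s hs hs'
    rw [Finset.mem_powersetCard] at hs hs'
    obtain ⟨c, -, huniq⟩ := hB.2 s hs.2
    have h1 := huniq b ⟨(hmem b).1 hb, hs.1⟩
    have h2 := huniq b' ⟨(hmem b').1 hb', hs'.1⟩
    exact hne (h1.trans h2.symm)
  have := congrArg Finset.card hU
  rw [Finset.card_powersetCard, Finset.card_biUnion hdisj, Finset.card_univ] at this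
  rw [this, hcard]
  rw [Finset.sum_congr rfl (fun b hb => by
    rw [Finset.card_powersetCard, hB.1 b ((hmem b).1 hb)] : ∀ b ∈ Bf, (b.powersetCard t).card = k.choose t)]
  rw [Finset.sum_const, smul_eq_mul]

/-- a family of the right size inside a Steiner system is the whole system. -/
theorem eq_of_subset_of_card {α : Type*} [Fintype α] [DecidableEq α] {t k : ℕ}
    {B : Set (Finset α)} (hB : IsSteinerSystem t k B) (S : Finset (Finset α))
    (hS : ∀ s ∈ S, s ∈ B) (hcard : S.card * Nat.choose k t = Nat.choose (Fintype.card α) t)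
    (hpos : 0 < Nat.choose k t) : B = (S : Set (Finset α)) := by
  classical
  have hfin : B.Finite := Set.toFinite B
  have h1 := steiner_card hB
  rw [← hcard] at h1
  have h2 : Nat.card B = S.card := Nat.eq_of_mul_eq_mul_right hpos h1
  have hsub : (S : Set (Finset α)) ⊆ B := fun s hs => hS s hs
  symm
  apply Set.eq_of_subset_of_ncard_le hsub _ hfin
  rw [Set.ncard_coe_finset, ← h2, Nat.card_coe_set_eq]

theorem setSystemIso_of_mapSys {α β : Type*} [DecidableEq β] {B : Set (Finset α)}
    {B' : Set (Finset β)} (e : α ≃ β) (h : mapSys e B = B') : SetSystemIso B B' := ⟨e, h⟩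

end Cfsg.Agent.Helper9.Steiner
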