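import Mathlib
import Cfsg.Prelude.Def_Sporadic_a
import Cfsg.Agent.Helper9.Steiner.Basic

set_option autoImplicit false

/-!
Automorphism groups of isomorphic set systems: the isomorphism of the groups and the transport of
multiple transitivity.
-/

namespace Cfsg.Agent.Helper9.Steiner

open Cfsg
open scoped Pointwise

theorem perm_smul_sys {α : Type*} [DecidableEq α] (g : Equiv.Perm α) (B : Set (Finset α)) :
    g • B = mapSys g B := by
  ext c
  rw [Set.mem_smul_set]
  unfold mapSys
  rw [Set.mem_image]
  constructor
  · rintro ⟨b, hb, rfl⟩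
    exact ⟨b, hb, rfl⟩
  · rintro ⟨b, hb, rfl⟩
    exact ⟨b, hb, rfl⟩

theorem mem_aut_iff {α : Type*} [DecidableEq α] (g : Equiv.Perm α) (B : Set (Finset α)) :
    g ∈ setSystemAut B ↔ mapSys g B = B := by
  rw [MulAction.mem_stabilizer_iff, perm_smul_sys]

theorem permCongrHom_mapSys {α β : Type*} [DecidableEq α] [DecidableEq β] (e : α ≃ β)
    (g : Equiv.Perm α) (B : Set (Finset α)) :
    mapSys (e.permCongrHom g) (mapSys e B) = mapSys e (mapSys g B) := by
  rw [← mapSys_trans, ← mapSys_trans]
  congr 1
  ext x
  simp [Equiv.permCongrHom, Equiv.permCongr]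

theorem mapSys_injective {α β : Type*} [DecidableEq α] [DecidableEq β] (e : α ≃ β) :
    Function.Injective (mapSys e : Set (Finset α) → Set (Finset β)) := by
  intro B B' h
  rw [← mapSys_symm_mapSys e B, ← mapSys_symm_mapSys e B', h]

theorem map_aut {α β : Type*} [DecidableEq α] [DecidableEq β] (e : α ≃ β)
    (B : Set (Finset α)) :
    (setSystemAut B).map e.permCongrHom.toMonoidHom = setSystemAut (mapSys e B) := by
  ext g'
  rw [Subgroup.mem_map]
  constructor
  · rintro ⟨g, hg, rfl⟩
    rw [mem_aut_iff] at hg ⊢
    change mapSys (e.permCongrHom g) (mapSys e B) = mapSys e B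
    rw [permCongrHom_mapSys, hg]
  · intro hg'
    refine ⟨e.permCongrHom.symm g', ?_, MulEquiv.apply_symm_apply _ _⟩
    rw [mem_aut_iff] at hg' ⊢
    apply mapSys_injective e
    have := permCongrHom_mapSys e (e.permCongrHom.symm g') B
    rw [MulEquiv.apply_symm_apply] at this
    rw [← this]
    exact hg'

/-- the automorphism groups of isomorphic set systems are isomorphic. -/
noncomputable def autCongr {α β : Type*} [DecidableEq α] [DecidableEq β] (e : α ≃ β)
    (B : Set (Finset α)) (B' : Set (Finset β)) (h : mapSys e B = B') :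
    setSystemAut B ≃* setSystemAut B' :=
  (e.permCongrHom.subgroupMap (setSystemAut B)).trans
    (MulEquiv.subgroupCongr (by rw [← h]; exact map_aut e B))

theorem autCongr_coe {α β : Type*} [DecidableEq α] [DecidableEq β] (e : α ≃ β)
    (B : Set (Finset α)) (B' : Set (Finset β)) (h : mapSys e B = B') (g : setSystemAut B) :
    ((autCongr e B B' h g : setSystemAut B') : Equiv.Perm β) = e.permCongrHom (g : Equiv.Perm α) :=
  rfl

theorem autCongr_apply {α β : Type*} [DecidableEq α] [DecidableEq β] (e : α ≃ β)
    (B : Set (Finset α)) (B' : Set (Finset β)) (h : mapSys e B = B') (g : setSystemAut B)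
    (a : α) :
    ((autCongr e B B' h g : setSystemAut B') : Equiv.Perm β) (e a) =
      e ((g : Equiv.Perm α) a) := by
  rw [autCongr_coe, Equiv.permCongrHom_coe, Equiv.permCongr_apply, Equiv.symm_apply_apply]

/-- multiple transitivity is transported. -/
theorem pretransitive_congr {α β : Type*} [DecidableEq α] [DecidableEq β] (e : α ≃ β)
    (B : Set (Finset α)) (B' : Set (Finset β)) (h : mapSys e B = B') (n : ℕ)
    (hT : MulAction.IsMultiplyPretransitive (setSystemAut B') β n) :
    MulAction.IsMultiplyPretransitive (setSystemAut B) α n := by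
  rw [MulAction.isMultiplyPretransitive_iff] at hT ⊢
  intro x y
  obtain ⟨g', hg'⟩ := hT (x.trans e.toEmbedding) (y.trans e.toEmbedding)
  refine ⟨(autCongr e B B' h).symm g', ?_⟩
  apply Function.Embedding.ext
  intro i
  have h1 := congrArg (fun f : Fin n ↪ β => f i) hg'
  simp only [Function.Embedding.smul_apply, Function.Embedding.trans_apply,
    Equiv.coe_toEmbedding] at h1
  change (((autCongr e B B' h).symm g' : setSystemAut B) : Equiv.Perm α) (x i) = y i
  apply e.injective
  rw [← autCongr_apply e B B' h, MulEquiv.apply_symm_apply]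
  exact h1

end Cfsg.Agent.Helper9.Steiner
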