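import Mathlib

set_option autoImplicit false

/-!
Subsets of `Fin n` as bit masks: dictionary between masks and finsets, a popcount, the list
of all `r`-subsets, and the image of a mask under a permutation given by a function on indices.
-/

namespace Cfsg.Agent.Helper9.Steiner

/-- the subset of `Fin n` coded by the low `n` bits of `m`. -/
def finOf (n : ℕ) (m : ℕ) : Finset (Fin n) :=
  Finset.univ.filter (fun i : Fin n => m.testBit i.val = true)

/-- the mask of a subset of `Fin n`. -/
def maskOf {n : ℕ} (s : Finset (Fin n)) : ℕ := Nat.ofBits (fun i : Fin n => decide (i ∈ s))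

theorem mem_finOf {n m : ℕ} {i : Fin n} : i ∈ finOf n m ↔ m.testBit i.val = true := by
  simp [finOf]

theorem testBit_maskOf {n : ℕ} (s : Finset (Fin n)) (i : Fin n) :
    (maskOf s).testBit i.val = decide (i ∈ s) := by
  unfold maskOf
  rw [Nat.testBit_ofBits, dif_pos i.isLt]

theorem testBit_maskOf_ge {n : ℕ} (s : Finset (Fin n)) (i : ℕ) (hi : n ≤ i) :
    (maskOf s).testBit i = false := by
  unfold maskOf
  rw [Nat.testBit_ofBits, dif_neg (by omega)]

theorem maskOf_lt {n : ℕ} (s : Finset (Fin n)) : maskOf s < 2 ^ n :=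
  Nat.lt_pow_two_of_testBit _ (fun i hi => testBit_maskOf_ge s i hi)

theorem finOf_maskOf {n : ℕ} (s : Finset (Fin n)) : finOf n (maskOf s) = s := by
  ext i
  rw [mem_finOf, testBit_maskOf]
  simp

theorem testBit_ge_of_lt {n m : ℕ} (hm : m < 2 ^ n) (i : ℕ) (hi : n ≤ i) :
    m.testBit i = false :=
  Nat.testBit_lt_two_pow (lt_of_lt_of_le hm (Nat.pow_le_pow_right (by decide) hi))

theorem maskOf_finOf {n m : ℕ} (hm : m < 2 ^ n) : maskOf (finOf n m) = m := by
  apply Nat.eq_of_testBit_eq
  intro i
  by_cases hi : i < n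
  · have := testBit_maskOf (finOf n m) ⟨i, hi⟩
    simp only at this
    rw [this]
    by_cases h : m.testBit i = true
    · rw [h]; exact decide_eq_true (mem_finOf.2 h)
    · have h' : m.testBit i = false := by simpa using h
      rw [h']
      exact decide_eq_false (fun hh => h (mem_finOf.1 hh))
  · rw [testBit_maskOf_ge _ i (by omega), testBit_ge_of_lt hm i (by omega)]

theorem finOf_and (n a b : ℕ) : finOf n (a &&& b) = finOf n a ∩ finOf n b := by
  ext i
  simp [mem_finOf, Nat.testBit_and]

theorem finOf_or (n a b : ℕ) : finOf n (a ||| b) = finOf n a ∪ finOf n b := by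
  ext i
  simp [mem_finOf, Nat.testBit_or]

theorem and_eq_of_subset {n T b : ℕ} (hT : T < 2 ^ n) (h : finOf n T ⊆ finOf n b) :
    T &&& b = T := by
  apply Nat.eq_of_testBit_eq
  intro i
  rw [Nat.testBit_and]
  by_cases hi : i < n
  · by_cases hTi : T.testBit i = true
    · have : (⟨i, hi⟩ : Fin n) ∈ finOf n b := h (mem_finOf.2 hTi)
      have hb : b.testBit i = true := mem_finOf.1 this
      rw [hTi, hb]; rfl
    · have : T.testBit i = false := by simpa using hTi
      rw [this]; rfl
  · rw [testBit_ge_of_lt hT i (by omega)]; rfl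

theorem or_lt {n a b : ℕ} (ha : a < 2 ^ n) (hb : b < 2 ^ n) : a ||| b < 2 ^ n :=
  Nat.or_lt_two_pow ha hb

theorem maskOf_union {n : ℕ} (s u : Finset (Fin n)) : maskOf (s ∪ u) = maskOf s ||| maskOf u := by
  have h := finOf_or n (maskOf s) (maskOf u)
  rw [finOf_maskOf, finOf_maskOf] at h
  rw [← h, maskOf_finOf (or_lt (maskOf_lt s) (maskOf_lt u))]

theorem maskOf_inter {n : ℕ} (s u : Finset (Fin n)) : maskOf (s ∩ u) = maskOf s &&& maskOf u := by
  have h := finOf_and n (maskOf s) (maskOf u)
  rw [finOf_maskOf, finOf_maskOf] at h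
  rw [← h, maskOf_finOf]
  exact lt_of_le_of_lt Nat.and_le_left (maskOf_lt s)

/-! ### popcount -/

/-- number of set bits among the low `n` bits. -/
def popc : ℕ → ℕ → ℕ
  | 0, _ => 0
  | n + 1, m => m % 2 + popc n (m / 2)

/-- specification of the popcount. -/
def cnt (n m : ℕ) : ℕ := ∑ i : Fin n, if m.testBit i.val = true then 1 else 0

theorem card_finOf (n m : ℕ) : (finOf n m).card = cnt n m := by
  unfold finOf cnt
  rw [Finset.card_filter]

theorem popc_eq_cnt : ∀ n m : ℕ, popc n m = cnt n m := by
  intro n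
  induction n with
  | zero => intro m; simp [popc, cnt]
  | succ n ih =>
    intro m
    unfold cnt
    rw [Fin.sum_univ_succ]
    simp only [Fin.val_zero, Fin.val_succ, Nat.testBit_succ]
    rw [popc, ih (m / 2)]
    unfold cnt
    congr 1
    rcases Nat.mod_two_eq_zero_or_one m with h | h <;> simp [Nat.testBit_zero, h]

theorem popc_eq_card (n m : ℕ) : popc n m = (finOf n m).card := by
  rw [popc_eq_cnt, card_finOf]

theorem cnt_succ_top (n m : ℕ) :
    cnt (n + 1) m = cnt n m + if m.testBit n = true then 1 else 0 := by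
  unfold cnt
  rw [Fin.sum_univ_castSucc]
  simp

theorem cnt_congr {n a b : ℕ} (h : ∀ i < n, a.testBit i = b.testBit i) : cnt n a = cnt n b := by
  unfold cnt
  apply Finset.sum_congr rfl
  intro i _
  rw [h i.val i.isLt]

theorem eq_zero_of_cnt {n m : ℕ} (hm : m < 2 ^ n) (h : cnt n m = 0) : m = 0 := by
  apply Nat.eq_of_testBit_eq
  intro i
  rw [Nat.zero_testBit]
  by_cases hi : i < n
  · rw [← card_finOf, Finset.card_eq_zero] at h
    by_contra hne
    have : m.testBit i = true := by simpa using hne
    have hmem : (⟨i, hi⟩ : Fin n) ∈ finOf n m := mem_finOf.2 this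
    rw [h] at hmem
    simp at hmem
  · exact testBit_ge_of_lt hm i (by omega)

/-! ### all `r`-subsets -/

/-- masks of all the `r`-subsets of `{0, …, n-1}`. -/
def subsK : ℕ → ℕ → List ℕ
  | _, 0 => [0]
  | 0, _ + 1 => []
  | n + 1, r + 1 => subsK n (r + 1) ++ (subsK n r).map (· + 2 ^ n)

theorem mem_subsK : ∀ (n r m : ℕ), m < 2 ^ n → cnt n m = r → m ∈ subsK n r := by
  intro n
  induction n with
  | zero =>
    intro r m hm hc
    have hm0 : m = 0 := by simpa using hm
    subst hm0
    have : r = 0 := by rw [← hc]; simp [cnt]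
    subst this
    simp [subsK]
  | succ n ih =>
    intro r m hm hc
    cases r with
    | zero =>
      have := eq_zero_of_cnt hm hc
      subst this
      simp [subsK]
    | succ r =>
      rw [subsK, List.mem_append]
      rw [cnt_succ_top] at hc
      by_cases htop : m.testBit n = true
      · right
        rw [if_pos htop] at hc
        rw [List.mem_map]
        have hge : 2 ^ n ≤ m := Nat.ge_two_pow_of_testBit htop
        refine ⟨m - 2 ^ n, ?_, by omega⟩
        have hlt : m - 2 ^ n < 2 ^ n := by
          rw [pow_succ] at hm; omega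
        apply ih r _ hlt
        have hcong : cnt n (m - 2 ^ n) = cnt n m := by
          apply cnt_congr
          intro i hi
          have : m = 2 ^ n + (m - 2 ^ n) := by omega
          conv_rhs => rw [this]
          rw [Nat.testBit_two_pow_add_gt hi]
        rw [hcong]; omega
      · left
        rw [if_neg htop] at hc
        have htop' : m.testBit n = false := by simpa using htop
        apply ih (r + 1) m _ (by omega)
        apply Nat.lt_pow_two_of_testBit
        intro i hi
        rcases Nat.eq_or_lt_of_le hi with h | h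
        · rw [← h]; exact htop'
        · exact testBit_ge_of_lt hm i (by omega)

theorem maskOf_mem_subsK {n : ℕ} (s : Finset (Fin n)) : maskOf s ∈ subsK n s.card := by
  apply mem_subsK n _ _ (maskOf_lt s)
  rw [← card_finOf, finOf_maskOf]

/-! ### images under permutations -/

/-- image of the mask `b` (low `n` bits) under the map `ρ` on indices. -/
def pm (ρ : ℕ → ℕ) (b : ℕ) : ℕ → ℕ
  | 0 => 0
  | i + 1 => (if b.testBit i = true then 2 ^ ρ i else 0) ||| pm ρ b i

theorem testBit_pm (ρ : ℕ → ℕ) (b : ℕ) (j : ℕ) : ∀ n : ℕ,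
    ((pm ρ b n).testBit j = true ↔ ∃ i < n, b.testBit i = true ∧ ρ i = j) := by
  intro n
  induction n with
  | zero => simp [pm]
  | succ n ih =>
    rw [pm, Nat.testBit_or, Bool.or_eq_true, ih]
    constructor
    · rintro (h | ⟨i, hi, hb, hr⟩)
      · by_cases hb : b.testBit n = true
        · rw [if_pos hb, Nat.testBit_two_pow] at h
          refine ⟨n, by omega, hb, ?_⟩
          simpa using h
        · rw [if_neg hb] at h
          simp at h
      · exact ⟨i, by omega, hb, hr⟩
    · rintro ⟨i, hi, hb, hr⟩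
      rcases Nat.eq_or_lt_of_le (Nat.lt_succ_iff.1 hi) with h | h
      · left
        subst h
        rw [if_pos hb, Nat.testBit_two_pow]
        simpa using hr
      · right
        exact ⟨i, h, hb, hr⟩

theorem finOf_pm {n : ℕ} (ρ : ℕ → ℕ) (σ : Equiv.Perm (Fin n)) (hσ : ∀ i : Fin n, ρ i.val = (σ i).val)
    (b : ℕ) : finOf n (pm ρ b n) = (finOf n b).image σ := by
  ext j
  rw [mem_finOf, testBit_pm, Finset.mem_image]
  constructor
  · rintro ⟨i, hi, hb, hr⟩
    refine ⟨⟨i, hi⟩, mem_finOf.2 hb, ?_⟩
    apply Fin.ext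
    rw [← hσ]; exact hr
  · rintro ⟨i, hi, rfl⟩
    exact ⟨i.val, i.isLt, mem_finOf.1 hi, hσ i⟩

/-! ### permutations from packed tables -/

/-- entry `i` of a table packed with 5 bits per entry. -/
def pget (code i : ℕ) : ℕ := (code >>> (5 * i)) &&& 31

/-- `pm (pget code)` written with primitive operations only. -/
def pmF (code b : ℕ) : ℕ → ℕ
  | 0 => 0
  | i + 1 =>
    Nat.lor (cond (Nat.beq (Nat.land (Nat.shiftRight b i) 1) 1)
      (Nat.pow 2 (Nat.land (Nat.shiftRight code (Nat.mul 5 i)) 31)) 0) (pmF code b i)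

theorem beq_land_one (b i : ℕ) : Nat.beq (Nat.land (Nat.shiftRight b i) 1) 1 = b.testBit i := by
  change Nat.beq ((b >>> i) &&& 1) 1 = b.testBit i
  rw [Nat.testBit, Nat.and_comm]
  rcases Nat.mod_two_eq_zero_or_one (b >>> i) with h | h
  · have : 1 &&& (b >>> i) = 0 := by rw [Nat.and_comm, Nat.and_one_is_mod]; exact h
    rw [this]; rfl
  · have : 1 &&& (b >>> i) = 1 := by rw [Nat.and_comm, Nat.and_one_is_mod]; exact h
    rw [this]; rfl

theorem pmF_eq (code b : ℕ) : ∀ n : ℕ, pmF code b n = pm (pget code) b n := by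
  intro n
  induction n with
  | zero => rfl
  | succ n ih =>
    rw [pmF, pm, ih, beq_land_one]
    change (cond (b.testBit n) (2 ^ pget code n) 0) ||| pm (pget code) b n = _
    cases b.testBit n <;> simp



/-- membership in a list of numbers as a boolean. -/
def memB (a : ℕ) : List ℕ → Bool
  | [] => false
  | b :: l => Nat.beq a b || memB a l

theorem memB_iff (a : ℕ) : ∀ l : List ℕ, memB a l = true ↔ a ∈ l := by
  intro l
  induction l with
  | nil => simp [memB]
  | cons b l ih =>
    rw [memB, Bool.or_eq_true, ih, List.mem_cons, Nat.beq_eq]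

/-- duplicate-freeness as a boolean. -/
def nd : List ℕ → Bool
  | [] => true
  | a :: l => !memB a l && nd l

theorem nodup_of_nd : ∀ l : List ℕ, nd l = true → l.Nodup := by
  intro l
  induction l with
  | nil => intro _; exact List.nodup_nil
  | cons a l ih =>
    intro h
    rw [nd, Bool.and_eq_true] at h
    rw [List.nodup_cons]
    refine ⟨?_, ih h.2⟩
    intro hmem
    have : memB a l = true := (memB_iff a l).2 hmem
    rw [this] at h
    simp at h

/-- the packed table is a permutation of `{0, …, n-1}`: the image of the full mask is full. -/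
def okPerm (n code : ℕ) : Bool := Nat.beq (pmF code (2 ^ n - 1) n) (2 ^ n - 1)

theorem okPerm_lt {n code : ℕ} (h : okPerm n code = true) (i : Fin n) : pget code i.val < n := by
  rw [okPerm, Nat.beq_eq, pmF_eq] at h
  have h1 : (pm (pget code) (2 ^ n - 1) n).testBit (pget code i.val) = true := by
    rw [testBit_pm]
    exact ⟨i.val, i.isLt, by rw [Nat.testBit_two_pow_sub_one]; exact decide_eq_true i.isLt, rfl⟩
  rw [h, Nat.testBit_two_pow_sub_one] at h1
  exact of_decide_eq_true h1

theorem okPerm_surj {n code : ℕ} (h : okPerm n code = true) :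
    Function.Surjective (fun i : Fin n => (⟨pget code i.val, okPerm_lt h i⟩ : Fin n)) := by
  intro j
  have h' := h
  rw [okPerm, Nat.beq_eq, pmF_eq] at h'
  have h1 : (pm (pget code) (2 ^ n - 1) n).testBit j.val = true := by
    rw [h', Nat.testBit_two_pow_sub_one]; exact decide_eq_true j.isLt
  rw [testBit_pm] at h1
  obtain ⟨i, hi, -, hij⟩ := h1
  exact ⟨⟨i, hi⟩, Fin.ext hij⟩

/-- the permutation of `Fin n` given by a valid packed table. -/
noncomputable def permOf {n code : ℕ} (h : okPerm n code = true) : Equiv.Perm (Fin n) :=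
  Equiv.ofBijective _ ⟨Finite.injective_iff_surjective.2 (okPerm_surj h), okPerm_surj h⟩

theorem permOf_apply {n code : ℕ} (h : okPerm n code = true) (i : Fin n) :
    ((permOf h) i).val = pget code i.val := rfl

theorem finOf_pm_permOf {n code : ℕ} (h : okPerm n code = true) (b : ℕ) :
    finOf n (pm (pget code) b n) = (finOf n b).image (permOf h) :=
  finOf_pm _ _ (fun i => (permOf_apply h i).symm) b

/-! ### a fast popcount for masks below `2 ^ 24` -/

/-- the popcounts of the bytes, 4 bits each. -/
def pc8tab : ℕ := 95125173855764218123276304889944061997689682402263585766959741291920687686033329201817409157123347502415384089435969498586180241031507595463600295898153685276653211633572815512294064538494957912327413386667662218713394765509704508661031522276467630197481635010039778342554499416459730172574551513689147646224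

/-- popcount of a byte. -/
def pc8 (x : ℕ) : ℕ := Nat.land (Nat.shiftRight pc8tab (4 * x)) 15

/-- popcount of the low 24 bits. -/
def popc24 (m : ℕ) : ℕ :=
  pc8 (Nat.land m 255) + (pc8 (Nat.land (Nat.shiftRight m 8) 255)
    + pc8 (Nat.land (Nat.shiftRight m 16) 255))

theorem pc8_eq : ∀ x < 256, pc8 x = popc 8 x := by decide +kernel

theorem cnt_add (a b m : ℕ) : cnt (a + b) m = cnt a m + cnt b (m >>> a) := by
  unfold cnt
  rw [Fin.sum_univ_add]
  congr 1
  apply Finset.sum_congr rfl
  intro i _
  simp [Nat.testBit_shiftRight]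

theorem cnt_and_mask (a m : ℕ) : cnt a (m &&& (2 ^ a - 1)) = cnt a m := by
  apply cnt_congr
  intro i hi
  rw [Nat.testBit_and, Nat.testBit_two_pow_sub_one, decide_eq_true hi, Bool.and_true]

theorem pc8_and (m : ℕ) : pc8 (Nat.land m 255) = cnt 8 m := by
  have hlt : m &&& 255 < 256 := Nat.lt_succ_of_le Nat.and_le_right
  change pc8 (m &&& 255) = cnt 8 m
  rw [pc8_eq _ hlt, popc_eq_cnt]
  exact cnt_and_mask 8 m

theorem popc24_eq_cnt (m : ℕ) : popc24 m = cnt 24 m := by
  unfold popc24
  rw [pc8_and, pc8_and, pc8_and]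
  have h1 := cnt_add 8 16 m
  have h2 := cnt_add 8 8 (m >>> 8)
  rw [show (8 : ℕ) + 16 = 24 from rfl] at h1
  rw [show (8 : ℕ) + 8 = 16 from rfl, ← Nat.shiftRight_add] at h2
  rw [h1, h2]
  rfl

theorem cnt_zero_right (a : ℕ) : cnt a 0 = 0 := by
  unfold cnt
  simp

theorem popc24_eq_card {n m : ℕ} (hn : n ≤ 24) (hm : m < 2 ^ n) :
    popc24 m = (finOf n m).card := by
  rw [popc24_eq_cnt, card_finOf]
  obtain ⟨d, hd⟩ := Nat.exists_eq_add_of_le hn
  rw [hd, cnt_add, Nat.shiftRight_eq_div_pow, Nat.div_eq_of_lt hm, cnt_zero_right, add_zero]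

end Cfsg.Agent.Helper9.Steiner
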