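import Mathlib
import Cfsg.Prelude.Def_Sporadic_a
import Cfsg.Agent.Helper9.Steiner.Basic
import Cfsg.Agent.Helper9.Steiner.Mask

set_option autoImplicit false

/-!
A checker for exhaustive searches classifying the Steiner systems `S(t, k, n)` on `Fin n`.

Blocks are bit masks.  A state of the search is the list `L` of the blocks chosen so far.  A
certificate is a stream of entries: `node T` says that the `t`-set `T` is not yet covered and
that the search branches over all the blocks through `T` compatible with `L`; for each such block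
either the subtree follows, or an entry `sym ρ c'` saying that the point permutation `ρ` carries
the new state onto a superset of the state of the earlier sibling `c'`; `leaf π` says that the
permutation `π` carries the standard system into `L`.
-/

namespace Cfsg.Agent.Helper9.Steiner

open Cfsg

theorem finOf_injOn' {n a b : ℕ} (ha : a < 2 ^ n) (hb : b < 2 ^ n) (h : finOf n a = finOf n b) :
    a = b := by
  rw [← maskOf_finOf ha, ← maskOf_finOf hb, h]

/-- parameters of a search. -/
structure Params where
  n : ℕ
  t : ℕ
  k : ℕ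
  extras : List ℕ
  std : List ℕ
  marks : ℕ := 0
  mmask : ℕ := 0

/-- entries of a certificate. -/
inductive Entry
  | node (T : ℕ)
  | fnode (T : ℕ) (gaps : List ℕ)
  | sym (ρ : ℕ) (c' : ℕ)
  | leaf (π : ℕ)
  | leafA (π : ℕ)
  | viol

variable (P : Params)

/-- the block `c` meets every block of the list in fewer than `t` points. -/
def compat (t c : ℕ) : List ℕ → Bool
  | [] => true
  | b :: L => Nat.blt (popc24 (Nat.land c b)) t && compat t c L

/-- points that cannot be added to `T`. -/
def forb (t T : ℕ) : List ℕ → ℕ → ℕ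
  | [], acc => acc
  | b :: L, acc => forb t T L (cond (Nat.beq (popc24 (Nat.land b T) + 1) t) (Nat.lor acc b) acc)

/-- `T` is contained in no block of the list. -/
def uncov (T : ℕ) : List ℕ → Bool
  | [] => true
  | b :: L => !(Nat.beq (Nat.land T b) T) && uncov T L

/-- auxiliary function for `cands`. -/
def candsAux (t T : ℕ) (L : List ℕ) (f : ℕ) : List ℕ → List ℕ
  | [] => []
  | x :: xs =>
    cond (Nat.beq (Nat.land x f) 0 && compat t (Nat.lor T x) L)
      (Nat.lor T x :: candsAux t T L f xs) (candsAux t T L f xs)

/-- the blocks through `T` compatible with `L`. -/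
def cands (T : ℕ) (L : List ℕ) : List ℕ := candsAux P.t T L (forb P.t T L T) P.extras

/-- the sublist of `L` obtained by skipping `g` entries before each pick. -/
def pick : List ℕ → List ℕ → List ℕ
  | [], _ => []
  | g :: gs, L =>
    match L.drop g with
    | [] => []
    | b :: L' => b :: pick gs L'

/-- auxiliary function for `fcands`. -/
def candsAux0 (T f : ℕ) : List ℕ → List ℕ
  | [] => []
  | x :: xs => cond (Nat.beq (Nat.land x f) 0) (Nat.lor T x :: candsAux0 T f xs) (candsAux0 T f xs)

/-- a list containing every block through `T` of a system containing the blocks `Lp`. -/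
def fcands (T : ℕ) (Lp : List ℕ) : List ℕ :=
  let f := forb P.t T Lp T
  let E := Nat.land (Nat.xor f (2 ^ P.n - 1)) (2 ^ P.n - 1)
  cond (Nat.beq (popc24 E) (P.k - P.t)) [Nat.lor T E] (candsAux0 T f P.extras)

/-- the images under `ρ` of the masks of `src` all lie in `tgt`. -/
def allIn (n ρ : ℕ) (tgt : List ℕ) : List ℕ → Bool
  | [] => true
  | b :: src => memB (pmF ρ b n) tgt && allIn n ρ tgt src

/-- the images under `π` of the masks of the first list are the entries of the second list. -/
def eqMap (n π : ℕ) : List ℕ → List ℕ → Bool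
  | [], _ => true
  | _ :: _, [] => false
  | s :: ss, b :: bs => Nat.beq (pmF π s n) b && eqMap n π ss bs

/-- the packed table fixes the points below `r`. -/
def fixM (r code : ℕ) : Bool := (List.range r).all (fun i => Nat.beq (pget code i) i)

/-- the packed table fixes the points of the mask `m`. -/
def fixK (n m code : ℕ) : Bool :=
  (List.range n).all (fun i => !(Nat.testBit m i) || Nat.beq (pget code i) i)

/-- some block of the list has three points in the mask `m`. -/
def violB (m : ℕ) : List ℕ → Bool
  | [] => false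
  | b :: L => Nat.ble 3 (popc24 (Nat.land b m)) || violB m L

/-- `ρ` maps `c' :: L` into `c :: L`. -/
def symOK (ρ c c' : ℕ) (L : List ℕ) : Bool := allIn P.n ρ (c :: L) (c' :: L)

/-- `π` maps the standard system into `L`. -/
def leafOK (π : ℕ) (L : List ℕ) : Bool :=
  okPerm P.n π && fixM P.marks π && fixK P.n P.mmask π && allIn P.n π L P.std

/-- `π` maps the standard system onto an initial segment of `L`, in order. -/
def leafAOK (π : ℕ) (L : List ℕ) : Bool :=
  okPerm P.n π && fixM P.marks π && fixK P.n P.mmask π && eqMap P.n π P.std L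

/-- is the next entry a symmetry entry? -/
def isSym : List Entry → Option (ℕ × ℕ × List Entry)
  | Entry.sym ρ c' :: s => some (ρ, c', s)
  | _ => none

/-- process the candidates `C` at a node with state `L`; `V` are the candidates explored. -/
def kids (rec : List ℕ → List Entry → Option (List Entry)) (L : List ℕ) :
    List ℕ → List ℕ → List Entry → Option (List Entry)
  | [], _, s => some s
  | c :: C, V, s =>
    match isSym s with
    | some (ρ, c', s') =>
      if memB c' V && okPerm P.n ρ && fixM P.marks ρ && fixK P.n P.mmask ρ && symOK P ρ c c' L then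
        kids rec L C V s'
      else none
    | none =>
      match rec (c :: L) s with
      | some s' => kids rec L C (c :: V) s'
      | none => none

/-- the checker. -/
def go : ℕ → List ℕ → List Entry → Option (List Entry)
  | 0, _, _ => none
  | fuel + 1, L, s =>
    match s with
    | Entry.leaf π :: s' => if leafOK P π L then some s' else none
    | Entry.leafA π :: s' => if leafAOK P π L then some s' else none
    | Entry.viol :: s' => if violB P.mmask L then some s' else none
    | Entry.node T :: s' =>
      if Nat.blt T (2 ^ P.n) && Nat.beq (popc24 T) P.t && uncov T L then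
        kids P (go fuel) L (cands P T L) [] s'
      else none
    | Entry.fnode T gs :: s' =>
      if Nat.blt T (2 ^ P.n) && Nat.beq (popc24 T) P.t then
        kids P (go fuel) L (fcands P T (pick gs L)) [] s'
      else none
    | _ => none

/-- the conclusion for a system: some permutation maps the standard system into it. -/
def Good (B : Set (Finset (Fin P.n))) : Prop :=
  ∃ π : Equiv.Perm (Fin P.n), (∀ i : Fin P.n, i.val < P.marks → π i = i) ∧
    (∀ i : Fin P.n, P.mmask.testBit i.val = true → π i = i) ∧
    ∀ s ∈ P.std, (finOf P.n s).image π ∈ B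

/-- the constraint on the systems: no block has three points in the mask `mmask`. -/
def ArcOK (B : Set (Finset (Fin P.n))) : Prop :=
  ∀ b ∈ B, (b ∩ finOf P.n P.mmask).card ≤ 2

/-- the claim for a state. -/
def Claim (L : List ℕ) : Prop :=
  ∀ B : Set (Finset (Fin P.n)), IsSteinerSystem P.t P.k B → (∀ b ∈ L, finOf P.n b ∈ B) →
    ArcOK P B → Good P B

variable {P}

theorem allIn_iff (n ρ : ℕ) (tgt : List ℕ) : ∀ src : List ℕ,
    allIn n ρ tgt src = true ↔ ∀ b ∈ src, pm (pget ρ) b n ∈ tgt := by
  intro src
  induction src with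
  | nil => simp [allIn]
  | cons b src ih =>
    rw [allIn, Bool.and_eq_true, ih, memB_iff, pmF_eq]
    simp

theorem eqMap_imp (n π : ℕ) : ∀ (src L : List ℕ), eqMap n π src L = true →
    ∀ s ∈ src, pm (pget π) s n ∈ L := by
  intro src
  induction src with
  | nil => intro L _ s hs; simp at hs
  | cons a src ih =>
    intro L h s hs
    cases L with
    | nil => simp [eqMap] at h
    | cons b bs =>
      rw [eqMap, Bool.and_eq_true, Nat.beq_eq, pmF_eq] at h
      rw [List.mem_cons] at hs
      rcases hs with rfl | hs
      · rw [h.1]; exact List.mem_cons_self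
      · exact List.mem_cons_of_mem _ (ih bs h.2 s hs)

theorem compat_iff (t c : ℕ) : ∀ L : List ℕ,
    compat t c L = true ↔ ∀ b ∈ L, popc24 (c &&& b) < t := by
  intro L
  induction L with
  | nil => simp [compat]
  | cons b L ih =>
    rw [compat, Bool.and_eq_true, ih]
    have : Nat.blt (popc24 (Nat.land c b)) t = true ↔ popc24 (c &&& b) < t := by
      rw [Nat.blt_eq]; rfl
    rw [this]
    simp

theorem uncov_iff (T : ℕ) : ∀ L : List ℕ, uncov T L = true ↔ ∀ b ∈ L, T &&& b ≠ T := by
  intro L
  induction L with
  | nil => simp [uncov]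
  | cons b L ih =>
    rw [uncov, Bool.and_eq_true, ih]
    have : (!(Nat.beq (Nat.land T b) T)) = true ↔ T &&& b ≠ T := by
      rw [Bool.not_eq_true', ← Bool.not_eq_true, Nat.beq_eq]; rfl
    rw [this]
    simp

theorem mem_of_mem_pick : ∀ (gs L : List ℕ) (b : ℕ), b ∈ pick gs L → b ∈ L := by
  intro gs
  induction gs with
  | nil => intro L b h; simp [pick] at h
  | cons g gs ih =>
    intro L b h
    rw [pick] at h
    cases hd : L.drop g with
    | nil => rw [hd] at h; simp at h
    | cons a L' =>
      rw [hd] at h
      simp only [List.mem_cons] at h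
      have hsub : ∀ y ∈ a :: L', y ∈ L := by
        intro y hy
        rw [← hd] at hy
        exact List.mem_of_mem_drop hy
      rcases h with rfl | h
      · exact hsub _ List.mem_cons_self
      · exact hsub _ (List.mem_cons_of_mem _ (ih L' b h))

theorem fixM_permOf {n r code : ℕ} (h : okPerm n code = true) (hf : fixM r code = true)
    (i : Fin n) (hi : i.val < r) : permOf h i = i := by
  apply Fin.ext
  rw [permOf_apply]
  rw [fixM, List.all_eq_true] at hf
  have := hf i.val (List.mem_range.2 hi)
  rw [Nat.beq_eq] at this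
  exact this

theorem fixK_permOf {n m code : ℕ} (h : okPerm n code = true) (hf : fixK n m code = true)
    (i : Fin n) (hi : m.testBit i.val = true) : permOf h i = i := by
  apply Fin.ext
  rw [permOf_apply]
  rw [fixK, List.all_eq_true] at hf
  have := hf i.val (List.mem_range.2 i.isLt)
  rw [Bool.or_eq_true, Nat.beq_eq] at this
  rcases this with h1 | h1
  · rw [hi] at h1; simp at h1
  · exact h1

theorem leaf_step {π : ℕ} {L : List ℕ} (h : leafOK P π L = true) : Claim P L := by
  intro B _ hL _
  rw [leafOK, Bool.and_eq_true, Bool.and_eq_true, Bool.and_eq_true, allIn_iff] at h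
  refine ⟨permOf h.1.1.1, fixM_permOf h.1.1.1 h.1.1.2, fixK_permOf h.1.1.1 h.1.2, fun s hs => ?_⟩
  have := h.2 s hs
  rw [← finOf_pm_permOf h.1.1.1]
  exact hL _ this

theorem leafA_step {π : ℕ} {L : List ℕ} (h : leafAOK P π L = true) : Claim P L := by
  intro B _ hL _
  rw [leafAOK, Bool.and_eq_true, Bool.and_eq_true, Bool.and_eq_true] at h
  refine ⟨permOf h.1.1.1, fixM_permOf h.1.1.1 h.1.1.2, fixK_permOf h.1.1.1 h.1.2, fun s hs => ?_⟩
  have := eqMap_imp _ _ _ _ h.2 s hs
  rw [← finOf_pm_permOf h.1.1.1]
  exact hL _ this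

theorem violB_iff (m : ℕ) : ∀ L : List ℕ, violB m L = true ↔ ∃ b ∈ L, 3 ≤ popc24 (b &&& m) := by
  intro L
  induction L with
  | nil => simp [violB]
  | cons b L ih =>
    rw [violB, Bool.or_eq_true, ih, Nat.ble_eq]
    constructor
    · rintro (h | ⟨b', hb', h⟩)
      · exact ⟨b, List.mem_cons_self, h⟩
      · exact ⟨b', List.mem_cons_of_mem _ hb', h⟩
    · rintro ⟨b', hb', h⟩
      rw [List.mem_cons] at hb'
      rcases hb' with rfl | hb'
      · exact Or.inl h
      · exact Or.inr ⟨b', hb', h⟩

theorem viol_step (hn : P.n ≤ 24) (hm : P.mmask < 2 ^ P.n) {L : List ℕ}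
    (h : violB P.mmask L = true) : Claim P L := by
  intro B _ hL hA
  exfalso
  rw [violB_iff] at h
  obtain ⟨b, hb, h3⟩ := h
  have hlt : b &&& P.mmask < 2 ^ P.n := lt_of_le_of_lt Nat.and_le_right hm
  rw [popc24_eq_card hn hlt, finOf_and] at h3
  have := hA _ (hL b hb)
  omega

theorem sym_step {ρ c c' : ℕ} {L : List ℕ} (hρ : okPerm P.n ρ = true)
    (hf : fixM P.marks ρ = true) (hk : fixK P.n P.mmask ρ = true)
    (h : symOK P ρ c c' L = true) (hV : Claim P (c' :: L)) : Claim P (c :: L) := by
  intro B hB hL hA
  set σ := permOf hρ with hσ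
  have hB' := steiner_mapSys σ.symm hB
  have hsub : ∀ b ∈ c' :: L, finOf P.n b ∈ mapSys σ.symm B := by
    intro b hb
    rw [symOK, allIn_iff] at h
    have := h b hb
    rw [mem_mapSys, Equiv.symm_symm, ← finOf_pm_permOf hρ]
    exact hL _ this
  have hA' : ArcOK P (mapSys σ.symm B) := by
    intro b' hb'
    rw [mem_mapSys, Equiv.symm_symm] at hb'
    have h1 := hA _ hb'
    have himg : (finOf P.n P.mmask).image σ = finOf P.n P.mmask := by
      ext j
      rw [Finset.mem_image]
      constructor
      · rintro ⟨i, hi, rfl⟩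
        rw [hσ, fixK_permOf hρ hk i (mem_finOf.1 hi)]
        exact hi
      · intro hj
        exact ⟨j, hj, by rw [hσ, fixK_permOf hρ hk j (mem_finOf.1 hj)]⟩
    have h2 : ((b' ∩ finOf P.n P.mmask).image σ).card = (b' ∩ finOf P.n P.mmask).card :=
      Finset.card_image_of_injective _ σ.injective
    rw [Finset.image_inter _ _ σ.injective, himg] at h2
    omega
  obtain ⟨π, hπf, hπk, hπ⟩ := hV _ hB' hsub hA'
  refine ⟨π.trans σ, ?_, ?_, fun s hs => ?_⟩
  · intro i hi
    rw [Equiv.trans_apply, hπf i hi, hσ, fixM_permOf hρ hf i hi]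
  · intro i hi
    rw [Equiv.trans_apply, hπk i hi, hσ, fixK_permOf hρ hk i hi]
  have := (mem_mapSys σ.symm B _).1 (hπ s hs)
  rw [Equiv.symm_symm, Finset.image_image] at this
  exact this

theorem testBit_forb (t T : ℕ) (i : ℕ) : ∀ (L : List ℕ) (acc : ℕ),
    (forb t T L acc).testBit i = true →
    acc.testBit i = true ∨ ∃ b ∈ L, popc24 (b &&& T) + 1 = t ∧ b.testBit i = true := by
  intro L
  induction L with
  | nil => intro acc h; exact Or.inl h
  | cons b L ih =>
    intro acc h
    rw [forb] at h
    rcases ih _ h with h1 | ⟨b', hb', h2⟩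
    · by_cases hc : popc24 (b &&& T) + 1 = t
      · have hc' : Nat.beq (popc24 (Nat.land b T) + 1) t = true := by
          rw [Nat.beq_eq]; exact hc
        rw [hc', cond_true] at h1
        change (acc ||| b).testBit i = true at h1
        rw [Nat.testBit_or, Bool.or_eq_true] at h1
        rcases h1 with h1 | h1
        · exact Or.inl h1
        · exact Or.inr ⟨b, List.mem_cons_self, hc, h1⟩
      · have hc' : Nat.beq (popc24 (Nat.land b T) + 1) t = false := by
          rw [← Bool.not_eq_true, Nat.beq_eq]; exact hc
        rw [hc', cond_false] at h1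
        exact Or.inl h1
    · exact Or.inr ⟨b', List.mem_cons_of_mem _ hb', h2⟩

theorem and_eq_zero_of {a f : ℕ} (h : ∀ i, a.testBit i = true → f.testBit i = false) :
    a &&& f = 0 := by
  apply Nat.eq_of_testBit_eq
  intro i
  rw [Nat.testBit_and, Nat.zero_testBit]
  by_cases ha : a.testBit i = true
  · rw [h i ha]; simp
  · have : a.testBit i = false := by simpa using ha
    rw [this]; rfl

theorem mem_candsAux (t T : ℕ) (L : List ℕ) (f : ℕ) (x : ℕ) : ∀ xs : List ℕ, x ∈ xs →
    x &&& f = 0 → compat t (T ||| x) L = true → (T ||| x) ∈ candsAux t T L f xs := by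
  intro xs
  induction xs with
  | nil => intro h; simp at h
  | cons y ys ih =>
    intro hx h1 h2
    rw [candsAux]
    rw [List.mem_cons] at hx
    rcases hx with rfl | hx
    · have : (Nat.beq (Nat.land x f) 0 && compat t (Nat.lor T x) L) = true := by
        rw [Bool.and_eq_true, Nat.beq_eq]
        exact ⟨h1, h2⟩
      rw [this, cond_true]
      exact List.mem_cons_self
    · cases hc : (Nat.beq (Nat.land y f) 0 && compat t (Nat.lor T y) L) with
      | true => rw [cond_true]; exact List.mem_cons_of_mem _ (ih hx h1 h2)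
      | false => rw [cond_false]; exact ih hx h1 h2

theorem mem_candsAux0 (T f : ℕ) (x : ℕ) : ∀ xs : List ℕ, x ∈ xs →
    x &&& f = 0 → (T ||| x) ∈ candsAux0 T f xs := by
  intro xs
  induction xs with
  | nil => intro h; simp at h
  | cons y ys ih =>
    intro hx h1
    rw [candsAux0]
    rw [List.mem_cons] at hx
    rcases hx with rfl | hx
    · have : Nat.beq (Nat.land x f) 0 = true := by
        rw [Nat.beq_eq]; exact h1
      rw [this, cond_true]
      exact List.mem_cons_self
    · cases hc : Nat.beq (Nat.land y f) 0 with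
      | true => rw [cond_true]; exact List.mem_cons_of_mem _ (ih hx h1)
      | false => rw [cond_false]; exact ih hx h1

/-- the facts on the block through `T`. -/
theorem true_block (hn : P.n ≤ 24) {T : ℕ} (hT : T < 2 ^ P.n) (hpop : popc24 T = P.t)
    {B : Set (Finset (Fin P.n))} (hB : IsSteinerSystem P.t P.k B) :
    ∃ b ∈ B, finOf P.n T ⊆ b ∧ T ||| maskOf (b \ finOf P.n T) = maskOf b ∧
      maskOf (b \ finOf P.n T) ∈ subsK P.n (P.k - P.t) ∧
      (∀ Lp : List ℕ, (∀ b' ∈ Lp, finOf P.n b' ∈ B) →
        maskOf (b \ finOf P.n T) &&& forb P.t T Lp T = 0) ∧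
      (∀ b' : ℕ, finOf P.n b' ∈ B → T &&& b' ≠ T → popc24 (maskOf b &&& b') < P.t) := by
  have hcardT : (finOf P.n T).card = P.t := by rw [← popc24_eq_card hn hT]; exact hpop
  obtain ⟨b, ⟨hbB, hTb⟩, -⟩ := hB.2 _ hcardT
  have hbk : b.card = P.k := hB.1 b hbB
  have hand_lt : ∀ b' : ℕ, maskOf b &&& b' < 2 ^ P.n :=
    fun b' => lt_of_le_of_lt Nat.and_le_left (maskOf_lt b)
  -- two blocks with `t` common points are equal
  have heq : ∀ b' : ℕ, finOf P.n b' ∈ B → P.t ≤ (b ∩ finOf P.n b').card → b = finOf P.n b' := by
    intro b' hb' hge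
    obtain ⟨s, hs, hst⟩ := Finset.exists_subset_card_eq hge
    obtain ⟨b0, -, huniq⟩ := hB.2 s hst
    have h1 := huniq b ⟨hbB, hs.trans Finset.inter_subset_left⟩
    have h2 := huniq _ ⟨hb', hs.trans Finset.inter_subset_right⟩
    exact h1.trans h2.symm
  refine ⟨b, hbB, hTb, ?_, ?_, ?_, ?_⟩
  · rw [← maskOf_finOf hT, ← maskOf_union, maskOf_finOf hT]
    congr 1
    exact Finset.union_sdiff_of_subset hTb
  · have : (b \ finOf P.n T).card = P.k - P.t := by
      rw [Finset.card_sdiff_of_subset hTb, hbk, hcardT]
    rw [← this]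
    exact maskOf_mem_subsK _
  · intro Lp hLp
    apply and_eq_zero_of
    intro i hi
    by_contra hf
    have hf' : (forb P.t T Lp T).testBit i = true := by simpa using hf
    have hin : i < P.n := by
      by_contra hge
      rw [testBit_maskOf_ge _ i (by omega)] at hi
      exact Bool.false_ne_true hi
    have hp : (⟨i, hin⟩ : Fin P.n) ∈ b \ finOf P.n T := by
      have := testBit_maskOf (b \ finOf P.n T) ⟨i, hin⟩
      simp only at this
      rw [hi] at this
      exact of_decide_eq_true this.symm
    rw [Finset.mem_sdiff] at hp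
    rcases testBit_forb P.t T i Lp T hf' with h1 | ⟨b', hb', hc, hbi⟩
    · exact hp.2 (mem_finOf.2 h1)
    · have hbT : b' &&& T < 2 ^ P.n := lt_of_le_of_lt Nat.and_le_right hT
      rw [popc24_eq_card hn hbT, finOf_and] at hc
      have hsub : insert (⟨i, hin⟩ : Fin P.n) (finOf P.n b' ∩ finOf P.n T)
          ⊆ b ∩ finOf P.n b' := by
        intro q hq
        rw [Finset.mem_insert] at hq
        rcases hq with rfl | hq
        · exact Finset.mem_inter.2 ⟨hp.1, mem_finOf.2 hbi⟩
        · rw [Finset.mem_inter] at hq
          exact Finset.mem_inter.2 ⟨hTb hq.2, hq.1⟩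
      have hnot : (⟨i, hin⟩ : Fin P.n) ∉ finOf P.n b' ∩ finOf P.n T := by
        intro hq
        exact hp.2 (Finset.mem_inter.1 hq).2
      have hle := Finset.card_le_card hsub
      rw [Finset.card_insert_of_notMem hnot] at hle
      have hbb := heq b' (hLp b' hb') (by omega)
      -- then `T ⊆ b'`, so the intersection has `t` elements
      have : finOf P.n b' ∩ finOf P.n T = finOf P.n T := by
        rw [← hbb]; exact Finset.inter_eq_right.2 hTb
      rw [this, hcardT] at hc
      omega
  · intro b' hb' hne
    rw [popc24_eq_card hn (hand_lt b'), finOf_and, finOf_maskOf]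
    by_contra hge
    rw [not_lt] at hge
    have := heq b' hb' hge
    rw [this] at hTb
    exact hne (and_eq_of_subset hT hTb)

theorem node_step (hn : P.n ≤ 24) (hext : P.extras = subsK P.n (P.k - P.t)) {T : ℕ} {L : List ℕ}
    (hT : T < 2 ^ P.n) (hpop : popc24 T = P.t) (hunc : ∀ b ∈ L, T &&& b ≠ T)
    {B : Set (Finset (Fin P.n))} (hB : IsSteinerSystem P.t P.k B)
    (hL : ∀ b ∈ L, finOf P.n b ∈ B) :
    ∃ c ∈ cands P T L, ∀ b ∈ c :: L, finOf P.n b ∈ B := by
  obtain ⟨b, hbB, -, hTx, hxs, hforb, hcompat⟩ := true_block hn hT hpop hB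
  refine ⟨maskOf b, ?_, ?_⟩
  · rw [cands, ← hTx]
    apply mem_candsAux
    · rw [hext]; exact hxs
    · exact hforb L hL
    · rw [hTx, compat_iff]
      exact fun b' hb' => hcompat b' (hL b' hb') (hunc b' hb')
  · intro b' hb'
    rw [List.mem_cons] at hb'
    rcases hb' with rfl | hb'
    · rw [finOf_maskOf]; exact hbB
    · exact hL b' hb'

theorem fnode_step (hn : P.n ≤ 24) (hext : P.extras = subsK P.n (P.k - P.t)) {T : ℕ}
    {L : List ℕ} (gs : List ℕ)
    (hT : T < 2 ^ P.n) (hpop : popc24 T = P.t)
    {B : Set (Finset (Fin P.n))} (hB : IsSteinerSystem P.t P.k B)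
    (hL : ∀ b ∈ L, finOf P.n b ∈ B) :
    ∃ c ∈ fcands P T (pick gs L), ∀ b ∈ c :: L, finOf P.n b ∈ B := by
  obtain ⟨b, hbB, hTb, hTx, hxs, hforb, -⟩ := true_block hn hT hpop hB
  have hLp : ∀ b' ∈ pick gs L, finOf P.n b' ∈ B :=
    fun b' hb' => hL b' (mem_of_mem_pick gs L b' hb')
  have hx0 := hforb _ hLp
  set x := maskOf (b \ finOf P.n T) with hx
  set f := forb P.t T (pick gs L) T with hf
  refine ⟨maskOf b, ?_, ?_⟩
  · rw [fcands, ← hf]
    set E := Nat.land (Nat.xor f (2 ^ P.n - 1)) (2 ^ P.n - 1) with hE
    cases hc : Nat.beq (popc24 E) (P.k - P.t) with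
    | false =>
      rw [cond_false, ← hTx]
      apply mem_candsAux0
      · rw [hext]; exact hxs
      · exact hx0
    | true =>
      rw [cond_true, List.mem_singleton, ← hTx]
      rw [Nat.beq_eq] at hc
      have hElt : E < 2 ^ P.n := by
        have : E ≤ 2 ^ P.n - 1 := Nat.and_le_right
        have hpos : 0 < 2 ^ P.n := Nat.two_pow_pos _
        omega
      rw [popc24_eq_card hn hElt] at hc
      have hxE : finOf P.n x ⊆ finOf P.n E := by
        intro i hi
        rw [mem_finOf] at hi ⊢
        have h0 : (x &&& f).testBit i.val = false := by rw [hx0]; exact Nat.zero_testBit _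
        rw [Nat.testBit_and, hi, Bool.true_and] at h0
        change ((f ^^^ (2 ^ P.n - 1)) &&& (2 ^ P.n - 1)).testBit i.val = true
        rw [Nat.testBit_and, Nat.testBit_xor, Nat.testBit_two_pow_sub_one, h0,
          decide_eq_true i.isLt]
        rfl
      have hxcard : (finOf P.n x).card = P.k - P.t := by
        rw [hx, finOf_maskOf, Finset.card_sdiff_of_subset hTb, hB.1 b hbB,
          ← popc24_eq_card hn hT, hpop]
      have hfin : finOf P.n x = finOf P.n E :=
        Finset.eq_of_subset_of_card_le hxE (by rw [hc, hxcard])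
      have : x = E := finOf_injOn' (maskOf_lt _) hElt hfin
      rw [this]
      rfl
  · intro b' hb'
    rw [List.mem_cons] at hb'
    rcases hb' with rfl | hb'
    · rw [finOf_maskOf]; exact hbB
    · exact hL b' hb'

theorem kids_sound (rec : List ℕ → List Entry → Option (List Entry))
    (hrec : ∀ L s rest, rec L s = some rest → Claim P L) (L : List ℕ) :
    ∀ (C V : List ℕ) (s rest : List Entry), kids P rec L C V s = some rest →
      (∀ c' ∈ V, Claim P (c' :: L)) → ∀ c ∈ C, Claim P (c :: L) := by
  intro C
  induction C with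
  | nil => intro V s rest _ _ c hc; simp at hc
  | cons c0 C ih =>
    intro V s rest h hV c hc
    rw [kids] at h
    cases hsym : isSym s with
    | some val =>
      obtain ⟨ρ, c', s'⟩ := val
      rw [hsym] at h
      simp only at h
      by_cases hcond : (memB c' V && okPerm P.n ρ && fixM P.marks ρ && fixK P.n P.mmask ρ &&
          symOK P ρ c0 c' L) = true
      · rw [if_pos hcond] at h
        rw [Bool.and_eq_true, Bool.and_eq_true, Bool.and_eq_true, Bool.and_eq_true,
          memB_iff] at hcond
        have hc0 : Claim P (c0 :: L) :=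
          sym_step hcond.1.1.1.2 hcond.1.1.2 hcond.1.2 hcond.2 (hV c' hcond.1.1.1.1)
        rw [List.mem_cons] at hc
        rcases hc with rfl | hc
        · exact hc0
        · exact ih V s' rest h hV c hc
      · rw [if_neg hcond] at h
        exact absurd h (by simp)
    | none =>
      rw [hsym] at h
      simp only at h
      cases hr : rec (c0 :: L) s with
      | none => rw [hr] at h; exact absurd h (by simp)
      | some s' =>
        rw [hr] at h
        simp only at h
        have hc0 : Claim P (c0 :: L) := hrec _ _ _ hr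
        rw [List.mem_cons] at hc
        rcases hc with rfl | hc
        · exact hc0
        · refine ih (c0 :: V) s' rest h ?_ c hc
          intro v hv
          rw [List.mem_cons] at hv
          rcases hv with rfl | hv
          · exact hc0
          · exact hV v hv

theorem go_sound (hn : P.n ≤ 24) (hm : P.mmask < 2 ^ P.n)
    (hext : P.extras = subsK P.n (P.k - P.t)) :
    ∀ (fuel : ℕ) (L : List ℕ) (s rest : List Entry), go P fuel L s = some rest → Claim P L := by
  intro fuel
  induction fuel with
  | zero => intro L s rest h; simp [go] at h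
  | succ fuel ih =>
    intro L s rest h
    cases s with
    | nil => simp [go] at h
    | cons e s' =>
      cases e with
      | leaf π =>
        simp only [go] at h
        by_cases hl : leafOK P π L = true
        · exact leaf_step hl
        · rw [if_neg hl] at h; exact absurd h (by simp)
      | leafA π =>
        simp only [go] at h
        by_cases hl : leafAOK P π L = true
        · exact leafA_step hl
        · rw [if_neg hl] at h; exact absurd h (by simp)
      | sym ρ c' => simp [go] at h
      | viol =>
        simp only [go] at h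
        by_cases hl : violB P.mmask L = true
        · exact viol_step hn hm hl
        · rw [if_neg hl] at h; exact absurd h (by simp)
      | node T =>
        simp only [go] at h
        by_cases hc : (Nat.blt T (2 ^ P.n) && Nat.beq (popc24 T) P.t && uncov T L) = true
        · rw [if_pos hc] at h
          rw [Bool.and_eq_true, Bool.and_eq_true, Nat.blt_eq, Nat.beq_eq, uncov_iff] at hc
          intro B hB hL hA
          obtain ⟨c, hcC, hcL⟩ := node_step hn hext hc.1.1 hc.1.2 hc.2 hB hL
          exact kids_sound (go P fuel) ih L _ [] s' rest h (by simp) c hcC B hB hcL hA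
        · rw [if_neg hc] at h; exact absurd h (by simp)
      | fnode T gs =>
        simp only [go] at h
        by_cases hc : (Nat.blt T (2 ^ P.n) && Nat.beq (popc24 T) P.t) = true
        · rw [if_pos hc] at h
          rw [Bool.and_eq_true, Nat.blt_eq, Nat.beq_eq] at hc
          intro B hB hL hA
          obtain ⟨c, hcC, hcL⟩ := fnode_step hn hext gs hc.1 hc.2 hB hL
          exact kids_sound (go P fuel) ih L _ [] s' rest h (by simp) c hcC B hB hcL hA
        · rw [if_neg hc] at h; exact absurd h (by simp)

/-! ### the final statements -/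

/-- the standard system as a set of finsets. -/
def stdSet (P : Params) : Set (Finset (Fin P.n)) := {b | ∃ s ∈ P.std, finOf P.n s = b}

/-- what has to be checked by evaluation. -/
structure Checked (P : Params) (fuel : ℕ) (stream : List Entry) : Prop where
  le : P.n ≤ 24
  ext : P.extras = subsK P.n (P.k - P.t)
  run : (go P fuel [] stream).isSome = true
  nodup : nd P.std = true
  lt : P.std.all (fun s => decide (s < 2 ^ P.n)) = true
  card : P.std.length * Nat.choose P.k P.t = Nat.choose P.n P.t
  pos : 0 < Nat.choose P.k P.t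
  mlt : P.mmask < 2 ^ P.n := by decide

theorem finOf_injOn {n a b : ℕ} (ha : a < 2 ^ n) (hb : b < 2 ^ n) (h : finOf n a = finOf n b) :
    a = b := by
  rw [← maskOf_finOf ha, ← maskOf_finOf hb, h]

theorem exists_perm_fix_of_checked {P : Params} {fuel : ℕ} {stream : List Entry}
    (hP : Checked P fuel stream) {B : Set (Finset (Fin P.n))} (hB : IsSteinerSystem P.t P.k B)
    (hA : ArcOK P B) :
    ∃ π : Equiv.Perm (Fin P.n), (∀ i : Fin P.n, i.val < P.marks → π i = i) ∧
      (∀ i : Fin P.n, P.mmask.testBit i.val = true → π i = i) ∧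
      mapSys π (stdSet P) = B := by
  classical
  obtain ⟨rest, hrest⟩ := Option.isSome_iff_exists.1 hP.run
  obtain ⟨π, hπf, hπk, hπ⟩ :=
    go_sound hP.le hP.mlt hP.ext fuel [] stream rest hrest B hB (by simp) hA
  refine ⟨π, hπf, hπk, ?_⟩
  have hlt : ∀ s ∈ P.std, s < 2 ^ P.n := by
    intro s hs
    have := List.all_eq_true.1 hP.lt s hs
    simpa using this
  set S : Finset (Finset (Fin P.n)) := (P.std.map (fun s => (finOf P.n s).image π)).toFinset
    with hS
  have hinj : ∀ a ∈ P.std, ∀ b ∈ P.std,
      (finOf P.n a).image π = (finOf P.n b).image π → a = b := by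
    intro a ha b hb hab
    have := Finset.image_injective π.injective hab
    exact finOf_injOn (hlt a ha) (hlt b hb) this
  have hScard : S.card = P.std.length := by
    rw [hS, List.toFinset_card_of_nodup, List.length_map]
    exact (List.nodup_map_iff_inj_on (nodup_of_nd _ hP.nodup)).2 hinj
  have hSB : ∀ s ∈ S, s ∈ B := by
    intro s hs
    rw [hS, List.mem_toFinset, List.mem_map] at hs
    obtain ⟨a, ha, rfl⟩ := hs
    exact hπ a ha
  have hcard : S.card * Nat.choose P.k P.t = Nat.choose (Fintype.card (Fin P.n)) P.t := by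
    rw [hScard, Fintype.card_fin]; exact hP.card
  have := eq_of_subset_of_card hB S hSB hcard hP.pos
  rw [this]
  ext b
  constructor
  · rintro ⟨b0, ⟨s, hs, rfl⟩, rfl⟩
    rw [Finset.mem_coe, hS, List.mem_toFinset, List.mem_map]
    exact ⟨s, hs, rfl⟩
  · intro hb
    rw [Finset.mem_coe, hS, List.mem_toFinset, List.mem_map] at hb
    obtain ⟨s, hs, rfl⟩ := hb
    exact ⟨finOf P.n s, ⟨s, hs, rfl⟩, rfl⟩

theorem arcOK_of_mmask_eq_zero {P : Params} (hmask : P.mmask = 0)
    (B : Set (Finset (Fin P.n))) : ArcOK P B := by
  intro b _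
  rw [hmask]
  have : finOf P.n 0 = ∅ := by
    ext i; simp [mem_finOf]
  rw [this]
  simp

theorem exists_perm_of_checked {P : Params} {fuel : ℕ} {stream : List Entry}
    (hP : Checked P fuel stream) {B : Set (Finset (Fin P.n))} (hB : IsSteinerSystem P.t P.k B)
    (hmask : P.mmask = 0 := by rfl) :
    ∃ π : Equiv.Perm (Fin P.n), mapSys π (stdSet P) = B := by
  obtain ⟨π, -, -, hπ⟩ := exists_perm_fix_of_checked hP hB (arcOK_of_mmask_eq_zero hmask B)
  exact ⟨π, hπ⟩

/-- every Steiner system with the parameters of a checked search is isomorphic to the standard one. -/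
theorem iso_std_of_checked {P : Params} {fuel : ℕ} {stream : List Entry}
    (hP : Checked P fuel stream) {α : Type*} [Fintype α] [DecidableEq α]
    (hα : Fintype.card α = P.n) {B : Set (Finset α)} (hB : IsSteinerSystem P.t P.k B)
    (hmask : P.mmask = 0 := by rfl) :
    ∃ e : α ≃ Fin P.n, mapSys e B = stdSet P := by
  set e := Fintype.equivFinOfCardEq hα with he
  obtain ⟨π, hπ⟩ := exists_perm_of_checked hP (steiner_mapSys e hB) hmask
  refine ⟨e.trans π.symm, ?_⟩
  rw [mapSys_trans, ← hπ]
  exact mapSys_symm_mapSys π _

/-- uniqueness up to isomorphism. -/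
theorem unique_of_checked {P : Params} {fuel : ℕ} {stream : List Entry}
    (hP : Checked P fuel stream) {α β : Type*} [Fintype α] [DecidableEq α] [Fintype β]
    [DecidableEq β] (hα : Fintype.card α = P.n) (hβ : Fintype.card β = P.n)
    {B : Set (Finset α)} {B' : Set (Finset β)} (hB : IsSteinerSystem P.t P.k B)
    (hB' : IsSteinerSystem P.t P.k B') (hmask : P.mmask = 0 := by rfl) : SetSystemIso B B' := by
  obtain ⟨e, he⟩ := iso_std_of_checked hP hα hB hmask
  obtain ⟨e', he'⟩ := iso_std_of_checked hP hβ hB' hmask
  refine ⟨e.trans e'.symm, ?_⟩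
  change mapSys (e.trans e'.symm) B = B'
  rw [mapSys_trans, he, ← he']
  exact mapSys_symm_mapSys e' _

end Cfsg.Agent.Helper9.Steiner
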