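import Mathlib
import Cfsg.Prelude.Def_Sporadic_a
import Cfsg.Agent.Helper9.Steiner.Basic
import Cfsg.Agent.Helper9.Steiner.Mask
import Cfsg.Agent.Helper9.Steiner.Search
import Cfsg.Agent.Helper9.Steiner.AutTransport

set_option autoImplicit false

/-!
A checker for exhaustive searches proving that an automorphism of the standard Steiner system
fixing the first `r` points is the identity.

The state is a function `ρ` giving the images of the points below `i`.  For each possible image `q`
of the point `i` the certificate contains either `go` (the search goes on) or `dead b b'`: the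
blocks `b` and `b'` are such that the images of the points of `b` below `i + 1` contain `t` points
of `b'`, so that `b` is mapped onto `b'`, but either some point of `b` is mapped outside `b'`
or some point outside `b` is mapped into `b'`.
-/

namespace Cfsg.Agent.Helper9.Steiner

open Cfsg

/-- entries of a certificate. -/
inductive AEntry
  | dead (b b' : ℕ)
  | go

/-- the function `ρ` with the value at `i` replaced by `q`. -/
def upd (ρ : ℕ → ℕ) (i q : ℕ) : ℕ → ℕ := fun j => cond (Nat.beq j i) q (ρ j)

variable (P : Params)

/-- the check for a dead branch; `asg` is the mask of the points with a known image. -/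
def deadOK (ρ : ℕ → ℕ) (asg b b' : ℕ) : Bool :=
  memB b P.std && memB b' P.std &&
    Nat.ble P.t (popc24 (Nat.land (pm ρ (Nat.land b asg) P.n) b')) &&
    (!(Nat.beq (Nat.land (pm ρ (Nat.land b asg) P.n) b') (pm ρ (Nat.land b asg) P.n)) ||
      !(Nat.beq (Nat.land (pm ρ (Nat.land (Nat.xor b (2 ^ P.n - 1)) asg) P.n) b') 0))

/-- process the possible images `q` of the point `p`. -/
def autKids (rec : (ℕ → ℕ) → ℕ → List AEntry → Option (List AEntry)) (ρ : ℕ → ℕ)
    (p asg used : ℕ) : List ℕ → List AEntry → Option (List AEntry)
  | [], s => some s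
  | q :: qs, s =>
    cond (Nat.testBit used q) (autKids rec ρ p asg used qs s)
      (match s with
        | AEntry.dead b b' :: s' =>
          cond (deadOK P (upd ρ p q) (Nat.lor asg (2 ^ p)) b b') (autKids rec ρ p asg used qs s')
            none
        | AEntry.go :: s' =>
          match rec (upd ρ p q) (Nat.lor used (2 ^ q)) s' with
          | some s'' => autKids rec ρ p asg used qs s''
          | none => none
        | [] => none)

/-- the checker: `todo` is the list of the points still to be given an image. -/
def autGo : List ℕ → (ℕ → ℕ) → ℕ → ℕ → List AEntry → Option (List AEntry)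
  | [], ρ, asg, _, s =>
    cond (Nat.beq asg (2 ^ P.n - 1) && (List.range P.n).all (fun j => Nat.beq (ρ j) j))
      (some s) none
  | p :: todo, ρ, asg, used, s =>
    cond (Nat.blt p P.n && !(Nat.testBit asg p))
      (autKids P (fun ρ' used' s' => autGo todo ρ' (Nat.lor asg (2 ^ p)) used' s') ρ p asg used
        (List.range P.n) s) none

/-- the claim for a state. -/
def AClaim (asg : ℕ) (ρ : ℕ → ℕ) : Prop :=
  ∀ g : Equiv.Perm (Fin P.n), g ∈ setSystemAut (stdSet P) →
    (∀ j : Fin P.n, asg.testBit j.val = true → (g j).val = ρ j.val) → g = 1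

variable {P}

theorem std_lt (hlt : P.std.all (fun s => decide (s < 2 ^ P.n)) = true) {s : ℕ}
    (hs : s ∈ P.std) : s < 2 ^ P.n := by
  have := List.all_eq_true.1 hlt s hs
  simpa using this

theorem dead_sound (hn : P.n ≤ 24) (hlt : P.std.all (fun s => decide (s < 2 ^ P.n)) = true)
    (hstd : IsSteinerSystem P.t P.k (stdSet P)) {ρ : ℕ → ℕ} {asg b b' : ℕ}
    (h : deadOK P ρ asg b b' = true) (g : Equiv.Perm (Fin P.n))
    (hg : g ∈ setSystemAut (stdSet P))
    (hag : ∀ j : Fin P.n, asg.testBit j.val = true → (g j).val = ρ j.val) : False := by
  rw [deadOK, Bool.and_eq_true, Bool.and_eq_true, Bool.and_eq_true, memB_iff, memB_iff,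
    Nat.ble_eq] at h
  obtain ⟨⟨⟨hb, hb'⟩, hpop⟩, hor⟩ := h
  have hbS : finOf P.n b ∈ stdSet P := ⟨b, hb, rfl⟩
  have hb'S : finOf P.n b' ∈ stdSet P := ⟨b', hb', rfl⟩
  have hgb : (finOf P.n b).image g ∈ stdSet P := by
    rw [mem_aut_iff] at hg
    rw [← hg]
    exact ⟨finOf P.n b, hbS, rfl⟩
  -- bits of the image of a mask
  have hbits : ∀ (m j : ℕ), (pm ρ (Nat.land m asg) P.n).testBit j = true →
      ∃ p : Fin P.n, m.testBit p.val = true ∧ (g p).val = j := by
    intro m j hj
    rw [testBit_pm] at hj
    obtain ⟨p, hp, hm, hr⟩ := hj
    change (m &&& asg).testBit p = true at hm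
    rw [Nat.testBit_and, Bool.and_eq_true] at hm
    refine ⟨⟨p, hp⟩, hm.1, ?_⟩
    rw [hag ⟨p, hp⟩ hm.2]
    exact hr
  set I := pm ρ (Nat.land b asg) P.n with hI
  have hb'lt := std_lt hlt hb'
  have hIb'lt : I &&& b' < 2 ^ P.n := lt_of_le_of_lt Nat.and_le_right hb'lt
  have hsubI : finOf P.n (I &&& b') ⊆ (finOf P.n b).image g ∩ finOf P.n b' := by
    intro j hj
    rw [mem_finOf, Nat.testBit_and, Bool.and_eq_true] at hj
    obtain ⟨p, hm, hgp⟩ := hbits b j.val hj.1
    rw [Finset.mem_inter]
    refine ⟨?_, mem_finOf.2 hj.2⟩
    rw [Finset.mem_image]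
    exact ⟨p, mem_finOf.2 hm, Fin.ext hgp⟩
  have hcard : P.t ≤ ((finOf P.n b).image g ∩ finOf P.n b').card := by
    have h1 : popc24 (I &&& b') = (finOf P.n (I &&& b')).card := popc24_eq_card hn hIb'lt
    have h2 := Finset.card_le_card hsubI
    have h3 : P.t ≤ popc24 (I &&& b') := hpop
    omega
  obtain ⟨s, hs, hst⟩ := Finset.exists_subset_card_eq hcard
  obtain ⟨b0, -, huniq⟩ := hstd.2 s hst
  have h1 := huniq _ ⟨hgb, hs.trans Finset.inter_subset_left⟩
  have h2 := huniq _ ⟨hb'S, hs.trans Finset.inter_subset_right⟩
  have himg : (finOf P.n b).image g = finOf P.n b' := h1.trans h2.symm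
  rw [Bool.or_eq_true] at hor
  rcases hor with hor | hor
  · -- every bit of `I` is a bit of `b'`
    have : Nat.land I b' = I := by
      change I &&& b' = I
      apply Nat.eq_of_testBit_eq
      intro j
      rw [Nat.testBit_and]
      by_cases hj : I.testBit j = true
      · obtain ⟨p, hm, hgp⟩ := hbits b j hj
        have : g p ∈ finOf P.n b' := by
          rw [← himg, Finset.mem_image]
          exact ⟨p, mem_finOf.2 hm, rfl⟩
        rw [mem_finOf, hgp] at this
        rw [hj, this]; rfl
      · have : I.testBit j = false := by simpa using hj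
        rw [this]; rfl
    rw [this] at hor
    simp at hor
  · have : Nat.land (pm ρ (Nat.land (Nat.xor b (2 ^ P.n - 1)) asg) P.n) b' = 0 := by
      change (pm ρ (Nat.land (Nat.xor b (2 ^ P.n - 1)) asg) P.n) &&& b' = 0
      apply and_eq_zero_of
      intro j hj
      obtain ⟨p, hm, hgp⟩ := hbits _ j hj
      change (b ^^^ (2 ^ P.n - 1)).testBit p.val = true at hm
      rw [Nat.testBit_xor, Nat.testBit_two_pow_sub_one, decide_eq_true p.isLt] at hm
      have hbp : b.testBit p.val = false := by
        cases hbb : b.testBit p.val
        · rfl
        · rw [hbb] at hm; simp at hm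
      by_contra hne
      have hb'j : b'.testBit j = true := by simpa using hne
      have : g p ∈ finOf P.n b' := by rw [mem_finOf, hgp]; exact hb'j
      rw [← himg, Finset.mem_image] at this
      obtain ⟨p', hp', hpp⟩ := this
      rw [g.injective hpp] at hp'
      rw [mem_finOf, hbp] at hp'
      exact Bool.false_ne_true hp'
    rw [this] at hor
    simp at hor

theorem upd_agree {ρ : ℕ → ℕ} {p asg : ℕ} {n : ℕ} (g : Equiv.Perm (Fin n)) (hp : p < n)
    (hag : ∀ j : Fin n, asg.testBit j.val = true → (g j).val = ρ j.val) :
    ∀ j : Fin n, (Nat.lor asg (2 ^ p)).testBit j.val = true →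
      (g j).val = upd ρ p (g ⟨p, hp⟩).val j.val := by
  intro j hj
  change (asg ||| 2 ^ p).testBit j.val = true at hj
  unfold upd
  by_cases hji : j.val = p
  · have : Nat.beq j.val p = true := by rw [Nat.beq_eq]; exact hji
    rw [this, cond_true]
    congr 2
    exact Fin.ext hji
  · have : Nat.beq j.val p = false := by rw [← Bool.not_eq_true, Nat.beq_eq]; exact hji
    rw [this, cond_false]
    rw [Nat.testBit_or, Bool.or_eq_true, Nat.testBit_two_pow] at hj
    rcases hj with hj | hj
    · exact hag j hj
    · exfalso; apply hji; have : p = j.val := by simpa using hj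
      exact this.symm

theorem autKids_sound (hn : P.n ≤ 24) (hlt : P.std.all (fun s => decide (s < 2 ^ P.n)) = true)
    (hstd : IsSteinerSystem P.t P.k (stdSet P))
    (rec : (ℕ → ℕ) → ℕ → List AEntry → Option (List AEntry)) (ρ : ℕ → ℕ) (p asg used : ℕ)
    (hrec : ∀ q s rest, rec (upd ρ p q) (Nat.lor used (2 ^ q)) s = some rest →
      AClaim P (Nat.lor asg (2 ^ p)) (upd ρ p q)) :
    ∀ (qs : List ℕ) (s rest : List AEntry), autKids P rec ρ p asg used qs s = some rest →
      ∀ q ∈ qs, used.testBit q = false →
        ∀ g : Equiv.Perm (Fin P.n), g ∈ setSystemAut (stdSet P) →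
          (∀ j : Fin P.n, (Nat.lor asg (2 ^ p)).testBit j.val = true →
            (g j).val = upd ρ p q j.val) → g = 1 := by
  intro qs
  induction qs with
  | nil => intro s rest _ q hq; simp at hq
  | cons q0 qs ih =>
    intro s rest h q hq hused g hg hag
    rw [autKids.eq_def] at h
    simp only at h
    cases hu : Nat.testBit used q0 with
    | true =>
      rw [hu, cond_true] at h
      rw [List.mem_cons] at hq
      rcases hq with rfl | hq
      · rw [hu] at hused; exact absurd hused (by simp)
      · exact ih s rest h q hq hused g hg hag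
    | false =>
      rw [hu, cond_false] at h
      cases s with
      | nil => simp at h
      | cons e s' =>
        cases e with
        | dead b b' =>
          simp only at h
          cases hd : deadOK P (upd ρ p q0) (Nat.lor asg (2 ^ p)) b b' with
          | false => rw [hd, cond_false] at h; exact absurd h (by simp)
          | true =>
            rw [hd, cond_true] at h
            rw [List.mem_cons] at hq
            rcases hq with rfl | hq
            · exact (dead_sound hn hlt hstd hd g hg hag).elim
            · exact ih s' rest h q hq hused g hg hag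
        | go =>
          simp only at h
          cases hr : rec (upd ρ p q0) (Nat.lor used (2 ^ q0)) s' with
          | none => rw [hr] at h; exact absurd h (by simp)
          | some s'' =>
            rw [hr] at h
            simp only at h
            rw [List.mem_cons] at hq
            rcases hq with rfl | hq
            · exact hrec _ _ _ hr g hg hag
            · exact ih s'' rest h q hq hused g hg hag

theorem autGo_sound (hn : P.n ≤ 24) (hlt : P.std.all (fun s => decide (s < 2 ^ P.n)) = true)
    (hstd : IsSteinerSystem P.t P.k (stdSet P)) :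
    ∀ (todo : List ℕ) (ρ : ℕ → ℕ) (asg used : ℕ) (s rest : List AEntry),
      autGo P todo ρ asg used s = some rest →
      (∀ j, asg.testBit j = true → j < P.n) →
      (∀ q, used.testBit q = true → ∃ j, asg.testBit j = true ∧ ρ j = q) → AClaim P asg ρ := by
  intro todo
  induction todo with
  | nil =>
    intro ρ asg used s rest h _ _ g hg hag
    rw [autGo] at h
    cases hc : (Nat.beq asg (2 ^ P.n - 1) && (List.range P.n).all (fun j => Nat.beq (ρ j) j)) with
    | false => rw [hc, cond_false] at h; exact absurd h (by simp)
    | true =>
      rw [Bool.and_eq_true, Nat.beq_eq, List.all_eq_true] at hc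
      ext j
      have hbit : asg.testBit j.val = true := by
        rw [hc.1, Nat.testBit_two_pow_sub_one]; exact decide_eq_true j.isLt
      have h1 := hag j hbit
      have h2 := hc.2 j.val (List.mem_range.2 j.isLt)
      rw [Nat.beq_eq] at h2
      rw [h1, h2]
      rfl
  | cons p todo ih =>
    intro ρ asg used s rest h hasg hused g hg hag
    rw [autGo] at h
    cases hc : (Nat.blt p P.n && !(Nat.testBit asg p)) with
    | false => rw [hc, cond_false] at h; exact absurd h (by simp)
    | true =>
      rw [hc, cond_true] at h
      rw [Bool.and_eq_true, Nat.blt_eq, Bool.not_eq_true'] at hc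
      obtain ⟨hp, hpa⟩ := hc
      set q := (g ⟨p, hp⟩).val with hq
      have hqn : q < P.n := (g ⟨p, hp⟩).isLt
      have hqu : used.testBit q = false := by
        cases hb : used.testBit q with
        | false => rfl
        | true =>
          exfalso
          obtain ⟨j, hj, hρ⟩ := hused q hb
          have hjn : j < P.n := hasg j hj
          have := hag ⟨j, hjn⟩ hj
          simp only at this
          rw [hρ, hq] at this
          have := g.injective (Fin.ext this)
          have := congrArg Fin.val this
          simp only at this
          rw [this] at hj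
          rw [hj] at hpa
          exact Bool.noConfusion hpa
      refine autKids_sound hn hlt hstd _ ρ p asg used ?_ (List.range P.n) s rest h q
        (List.mem_range.2 hqn) hqu g hg (upd_agree g hp hag)
      intro q' s1 rest1 hr
      refine ih (upd ρ p q') _ _ s1 rest1 hr ?_ ?_
      · intro j hj
        change (asg ||| 2 ^ p).testBit j = true at hj
        rw [Nat.testBit_or, Bool.or_eq_true, Nat.testBit_two_pow] at hj
        rcases hj with hj | hj
        · exact hasg j hj
        · have : p = j := by simpa using hj
          omega
      intro x hx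
      change (used ||| 2 ^ q').testBit x = true at hx
      rw [Nat.testBit_or, Bool.or_eq_true] at hx
      rcases hx with hx | hx
      · obtain ⟨j, hj, hρ⟩ := hused x hx
        refine ⟨j, ?_, ?_⟩
        · change (asg ||| 2 ^ p).testBit j = true
          rw [Nat.testBit_or, hj]; rfl
        · unfold upd
          have : Nat.beq j p = false := by
            rw [← Bool.not_eq_true, Nat.beq_eq]
            intro hjp
            rw [hjp, hpa] at hj
            exact Bool.false_ne_true hj
          rw [this, cond_false]
          exact hρ
      · rw [Nat.testBit_two_pow] at hx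
        have hx' : q' = x := by simpa using hx
        refine ⟨p, ?_, ?_⟩
        · change (asg ||| 2 ^ p).testBit p = true
          rw [Nat.testBit_or, Nat.testBit_two_pow_self]; simp
        · unfold upd
          have : Nat.beq p p = true := by rw [Nat.beq_eq]
          rw [this, cond_true]
          exact hx'

/-- an automorphism of the standard system fixing the points of the mask `m` is trivial. -/
theorem rigid_of_run (hn : P.n ≤ 24) (hlt : P.std.all (fun s => decide (s < 2 ^ P.n)) = true)
    (hstd : IsSteinerSystem P.t P.k (stdSet P)) {todo : List ℕ} {m : ℕ} {stream : List AEntry}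
    (hm : m < 2 ^ P.n)
    (hrun : (autGo P todo (fun j => j) m m stream).isSome = true)
    (g : Equiv.Perm (Fin P.n)) (hg : g ∈ setSystemAut (stdSet P))
    (hfix : ∀ j : Fin P.n, m.testBit j.val = true → g j = j) : g = 1 := by
  obtain ⟨rest, hrest⟩ := Option.isSome_iff_exists.1 hrun
  refine autGo_sound hn hlt hstd todo _ m m stream rest hrest ?_ ?_ g hg ?_
  · intro j hj
    by_contra hge
    rw [testBit_ge_of_lt hm j (by omega)] at hj
    exact Bool.false_ne_true hj
  · intro q hq
    exact ⟨q, hq, rfl⟩
  · intro j hj
    rw [hfix j hj]

end Cfsg.Agent.Helper9.Steiner
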