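import Mathlib
import Cfsg.Agent.Helper9.Steiner.AutSearch
import Cfsg.Agent.Helper9.Steiner.D4511M

set_option autoImplicit false

/-!
Certificate: an automorphism of the standard system of D4511M fixing the points of the mask 15 is trivial (generated).
-/

namespace Cfsg.Agent.Helper9.Steiner.A4511M

/-- a piece of the data. -/
def as0 : List AEntry := [
  .go, .go, .go, .go, .go, .go, .go, .dead 976 976, .dead 1480 744, .dead 976 1236, .dead 744 362, .dead 1250 626, .dead 744 1129, .dead 626 182, .dead 626 307, .dead 241 569, .dead 626 1082, .go, .go, .dead 1236 182, .dead 744 362, .dead 1250 626, .dead 744 1129, .dead 626 218, .dead 626 342, .dead 241 597, .dead 626 1107, .go, .dead 626 182, .dead 626 218, .dead 241 405, .dead 626 659, .dead 241 1177, .go, .dead 626 307, .dead 626 342, .dead 241 405, .dead 626 794, .dead 587 1291, .go, .dead 241 569, .dead 241 597, .dead 626 659, .dead 626 794, .dead 626 1558, .go, .dead 626 1082, .dead 626 1107, .dead 241 1177, .dead 587 1291, .dead 626 1558, .dead 31 31, .dead 31 31, .dead 31 31, .dead 31 31, .dead 31 31, .dead 31 31]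

/-- the certificate. -/
def astream : List AEntry := as0

/-- the order of the points. -/
def todo : List ℕ := [4, 5, 6, 7, 8, 9, 10]

set_option maxHeartbeats 0 in
set_option maxRecDepth 1000000 in
theorem a_run : (autGo D4511M.P todo (fun j => j) 15 15 astream).isSome = true := by decide +kernel

end Cfsg.Agent.Helper9.Steiner.A4511M
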