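import Mathlib
import Cfsg.Prelude.Def_Sporadic_a
import Cfsg.Agent.Helper9.Steiner.Search
import Cfsg.Agent.Helper9.Steiner.AutTransport

set_option autoImplicit false

/-!
Transitivity of the automorphism group of the standard system on tuples of distinct points, from a
checked search with marked points; and triviality of the stabilizers of tuples from rigidity.
-/

namespace Cfsg.Agent.Helper9.Steiner

open Cfsg

/-- if the image of the standard system under `τ` satisfies the constraint of the search, some
automorphism agrees with `τ` at the points mapped by `τ` to marked points. -/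
theorem aut_agree {P : Params} {fuel : ℕ} {stream : List Entry} (hP : Checked P fuel stream)
    (hstd : IsSteinerSystem P.t P.k (stdSet P)) (τ : Equiv.Perm (Fin P.n))
    (hA : ArcOK P (mapSys τ (stdSet P))) :
    ∃ g : Equiv.Perm (Fin P.n), g ∈ setSystemAut (stdSet P) ∧
      ∀ j : Fin P.n, ((τ j).val < P.marks ∨ P.mmask.testBit (τ j).val = true) → g j = τ j := by
  have hB := steiner_mapSys τ hstd
  obtain ⟨π, hπf, hπk, hπ⟩ := exists_perm_fix_of_checked hP hB hA
  refine ⟨τ.trans π.symm, ?_, ?_⟩
  · rw [mem_aut_iff, mapSys_trans, ← hπ]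
    exact mapSys_symm_mapSys π _
  · intro j hj
    rw [Equiv.trans_apply, Equiv.symm_apply_eq]
    rcases hj with hj | hj
    · exact (hπf _ hj).symm
    · exact (hπk _ hj).symm

/-- every tuple of `marks` distinct points is mapped to `(0, 1, …)` by an automorphism. -/
theorem aut_to_base {P : Params} {fuel : ℕ} {stream : List Entry} (hP : Checked P fuel stream)
    (hstd : IsSteinerSystem P.t P.k (stdSet P)) (hm : P.marks ≤ P.n)
    (x : Fin P.marks ↪ Fin P.n) (hmask : P.mmask = 0 := by rfl) :
    ∃ g : Equiv.Perm (Fin P.n), g ∈ setSystemAut (stdSet P) ∧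
      ∀ i : Fin P.marks, g (x i) = Fin.castLE hm i := by
  obtain ⟨τ, hτ⟩ := Equiv.Perm.exists_smul_eq_embedding x (Fin.castLEEmb hm)
  obtain ⟨g, hg, hgτ⟩ := aut_agree hP hstd τ (arcOK_of_mmask_eq_zero hmask _)
  refine ⟨g, hg, ?_⟩
  intro i
  have h1 : τ (x i) = Fin.castLE hm i := by
    have := congrArg (fun f : Fin P.marks ↪ Fin P.n => f i) hτ
    simpa [Function.Embedding.smul_apply] using this
  rw [hgτ (x i) (Or.inl (by rw [h1]; simp)), h1]

theorem aut_transitive {P : Params} {fuel : ℕ} {stream : List Entry} (hP : Checked P fuel stream)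
    (hstd : IsSteinerSystem P.t P.k (stdSet P)) (hm : P.marks ≤ P.n)
    (hmask : P.mmask = 0 := by rfl) :
    MulAction.IsMultiplyPretransitive (setSystemAut (stdSet P)) (Fin P.n) P.marks := by
  rw [MulAction.isMultiplyPretransitive_iff]
  intro x y
  obtain ⟨gx, hgx, hx⟩ := aut_to_base hP hstd hm x hmask
  obtain ⟨gy, hgy, hy⟩ := aut_to_base hP hstd hm y hmask
  refine ⟨⟨gy⁻¹ * gx, (setSystemAut (stdSet P)).mul_mem
    ((setSystemAut (stdSet P)).inv_mem hgy) hgx⟩, ?_⟩
  apply Function.Embedding.ext
  intro i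
  change (gy⁻¹ * gx) (x i) = y i
  rw [Equiv.Perm.mul_apply, hx i, ← hy i]
  simp

/-- the stabilizers of the tuples of `marks` distinct points are trivial. -/
theorem aut_stab_trivial {P : Params} {fuel : ℕ} {stream : List Entry}
    (hP : Checked P fuel stream)
    (hstd : IsSteinerSystem P.t P.k (stdSet P)) (hm : P.marks ≤ P.n)
    (hrig : ∀ g : Equiv.Perm (Fin P.n), g ∈ setSystemAut (stdSet P) →
      (∀ j : Fin P.n, j.val < P.marks → g j = j) → g = 1)
    (x : Fin P.marks ↪ Fin P.n) (hmask : P.mmask = 0 := by rfl) :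
    MulAction.stabilizer (setSystemAut (stdSet P)) x = ⊥ := by
  rw [eq_bot_iff]
  intro g hg
  rw [MulAction.mem_stabilizer_iff] at hg
  rw [Subgroup.mem_bot]
  obtain ⟨h, hh, hx⟩ := aut_to_base hP hstd hm x hmask
  have hgx : ∀ i, (g : Equiv.Perm (Fin P.n)) (x i) = x i := by
    intro i
    have := congrArg (fun f : Fin P.marks ↪ Fin P.n => f i) hg
    exact this
  have hconj : h * (g : Equiv.Perm (Fin P.n)) * h⁻¹ = 1 := by
    apply hrig
    · exact (setSystemAut (stdSet P)).mul_mem ((setSystemAut (stdSet P)).mul_mem hh g.2)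
        ((setSystemAut (stdSet P)).inv_mem hh)
    · intro j hj
      have hj' : j = Fin.castLE hm ⟨j.val, hj⟩ := by
        apply Fin.ext; simp
      rw [hj', ← hx ⟨j.val, hj⟩]
      simp only [Equiv.Perm.mul_apply]
      have : h⁻¹ (h (x ⟨j.val, hj⟩)) = x ⟨j.val, hj⟩ := by simp
      rw [this, hgx]
  have hg1 : (g : Equiv.Perm (Fin P.n)) = 1 := by
    have := congrArg (fun k => h⁻¹ * k * h) hconj
    simpa [mul_assoc] using this
  exact Subtype.ext hg1

/-- transport of the triviality of the stabilizers of tuples. -/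
theorem stab_trivial_congr {α β : Type*} [DecidableEq α] [DecidableEq β] (e : α ≃ β)
    (B : Set (Finset α)) (B' : Set (Finset β)) (h : mapSys e B = B') (n : ℕ)
    (hT : ∀ y : Fin n ↪ β, MulAction.stabilizer (setSystemAut B') y = ⊥)
    (x : Fin n ↪ α) : MulAction.stabilizer (setSystemAut B) x = ⊥ := by
  rw [eq_bot_iff]
  intro g hg
  rw [MulAction.mem_stabilizer_iff] at hg
  rw [Subgroup.mem_bot]
  have hgx : ∀ i, (g : Equiv.Perm α) (x i) = x i := by
    intro i
    have := congrArg (fun f : Fin n ↪ α => f i) hg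
    exact this
  have hmem : autCongr e B B' h g ∈ MulAction.stabilizer (setSystemAut B') (x.trans e.toEmbedding) := by
    rw [MulAction.mem_stabilizer_iff]
    apply Function.Embedding.ext
    intro i
    change ((autCongr e B B' h g : setSystemAut B') : Equiv.Perm β) (e (x i)) = e (x i)
    rw [autCongr_apply, hgx]
  rw [hT, Subgroup.mem_bot] at hmem
  exact (autCongr e B B' h).injective (by rw [hmem, map_one])

end Cfsg.Agent.Helper9.Steiner
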