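import Mathlib
import Cfsg.Agent.Helper9.Steiner.AutSearch
import Cfsg.Agent.Helper9.Steiner.D3622M

set_option autoImplicit false

/-!
Certificate: an automorphism of the standard system of D3622M fixing the points of the mask 95 is trivial (generated).
-/

namespace Cfsg.Agent.Helper9.Steiner.A3622M

/-- a piece of the data. -/
def as0 : List AEntry := [
  .go, .go, .go, .go, .go, .go, .go, .go, .go, .go, .go, .go, .go, .go, .go, .go, .dead 2204288 2204288, .dead 3201024 3201024, .dead 3201024 3201024, .dead 701440 701440, .dead 3201024 3201024, .dead 3201024 3201024, .dead 836352 836352, .dead 836352 836352, .dead 3201024 3201024, .dead 3201024 3201024, .dead 701440 701440, .dead 836352 836352, .dead 836352 836352, .dead 3201024 3201024, .dead 3201024 3201024, .dead 3201024 3201024, .dead 3201024 3201024, .dead 3201024 3201024, .dead 3201024 3201024, .dead 836352 836352, .dead 836352 836352, .dead 701440 701440, .dead 3201024 203520, .dead 3201024 203520, .dead 3201024 792624, .dead 3201024 792624, .dead 836352 3146544, .dead 836352 3146544, .dead 701440 21778, .dead 355328 36386, .dead 701440 2167848, .dead 355328 1182744, .dead 701440 1316480, .dead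 355328 2624896, .dead 701440 1316480, .dead 701440 2167848, .dead 610496 9456, .dead 2371904 18792, .dead 2371904 1148224, .dead 2371904 1148224, .dead 2371904 655700, .dead 610496 428224, .dead 2371904 655700, .dead 2371904 1148224, .dead 610496 3145932, .dead 1583680 37464, .dead 203520 9996, .dead 1583680 2246208, .dead 1583680 37464, .dead 1583680 328292, .dead 1583680 2246208, .dead 1583680 328292, .dead 2238500 1590308, .dead 203520 3146544, .dead 203520 3146544, .dead 1316480 19092, .dead 2246208 37464, .dead 36386 36386, .dead 1316480 19092, .dead 2246208 37464, .dead 2246208 328292, .dead 1316480 656040, .dead 2246208 328292, .dead 1316480 656040, .dead 36386 36386, .dead 36386 36386, .dead 29217 394529, .dead 29217 1116321, .dead 36386 1183842, .dead 36386 598306, .dead 36386 2375842, .dead 29217 2654305, .dead 36386 598306, .dead 36386 1183842, .dead 36386 2375842, .dead 36386 598306, .dead 36386 1183842, .dead 36386 2375842, .dead 656040 656040, .dead 3146544 9456, .dead 394529 1116321, .dead 598306 1183842, .dead 3146544 9456, .dead 598306 2375842]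

/-- a piece of the data. -/
def as1 : List AEntry := [
  .dead 394529 2654305, .dead 394529 1116321, .dead 598306 1183842, .dead 598306 2375842, .dead 394529 2654305, .dead 598306 1183842, .dead 598306 2375842, .dead 656040 18792, .dead 37284 328292, .dead 14474 787530, .dead 656040 18792, .dead 2375842 1183842, .dead 50313 204873, .dead 656040 18792, .dead 1116321 2654305, .dead 37284 328292, .dead 2375842 1183842, .dead 37284 328292, .dead 1116321 2654305, .dead 2375842 1183842, .dead 1116321 2654305, .dead 18792 3145932, .dead 9456 655700, .dead 9456 37464, .dead 18792 787530, .dead 9456 2164818, .dead 9456 37464, .dead 18792 204873, .dead 9456 1327185, .dead 9456 37464, .dead 9456 2164818, .dead 9456 655700, .dead 9456 1327185, .dead 9456 655700, .dead 9456 1327185, .dead 9456 2164818]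

/-- the certificate. -/
def astream : List AEntry := as0 ++ as1

/-- the order of the points. -/
def todo : List ℕ := [5, 7, 8, 9, 10, 11, 12, 13, 14, 15, 16, 17, 18, 19, 20, 21]

set_option maxHeartbeats 0 in
set_option maxRecDepth 1000000 in
theorem a_run : (autGo D3622M.P todo (fun j => j) 95 95 astream).isSome = true := by decide +kernel

end Cfsg.Agent.Helper9.Steiner.A3622M
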