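import Mathlib
import Cfsg.Prelude.Def_Sporadic_a
import Cfsg.Agent.Helper9.Steiner.Basic
import Cfsg.Agent.Helper9.Steiner.AutTransport

set_option autoImplicit false

/-!
Bounds for the order of a group of automorphisms: the orbit-stabilizer bound and the bound for a
group acting semiregularly on tuples of points.
-/

namespace Cfsg.Agent.Helper9.Steiner

open Cfsg
open scoped Pointwise

/-- an automorphism fixing the points of a `t`-subset of a block fixes the block. -/
theorem block_fixed {α : Type*} [DecidableEq α] {t k : ℕ} {B : Set (Finset α)}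
    (hB : IsSteinerSystem t k B) {g : Equiv.Perm α} (hg : g ∈ setSystemAut B) {b : Finset α}
    (hb : b ∈ B) (s : Finset α) (hs : s.card = t) (hsb : s ⊆ b) (hfix : ∀ a ∈ s, g a = a) :
    b.image g = b := by
  have hgB : mapSys g B = B := (mem_aut_iff _ _).1 hg
  have h1 : b.image g ∈ B := by
    rw [← hgB]; exact ⟨b, hb, rfl⟩
  obtain ⟨c, _, huniq⟩ := hB.2 s hs
  have h2 : b.image g = c := by
    apply huniq
    refine ⟨h1, ?_⟩
    intro a ha
    rw [Finset.mem_image]
    exact ⟨a, hsb ha, hfix a ha⟩
  have h3 : b = c := huniq b ⟨hb, hsb⟩
  rw [h2, ← h3]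

/-- the order of a finite group acting on a finite set is at most the number of points times
a bound for the order of a stabilizer. -/
theorem card_le_mul_of_stabilizer {G X : Type*} [Group G] [MulAction G X] [Finite X] (x : X)
    (c : ℕ) (h : Nat.card (MulAction.stabilizer G x) ≤ c) : Nat.card G ≤ Nat.card X * c := by
  rw [← Subgroup.index_mul_card (MulAction.stabilizer G x), MulAction.index_stabilizer]
  exact Nat.mul_le_mul (Set.ncard_le_card _) h

/-- a group mapped injectively into a finite set is at most as large as the set. -/
theorem card_le_of_inj {G Y : Type*} (f : G → Y) (T : Finset Y) (hT : ∀ g, f g ∈ T)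
    (hinj : Function.Injective f) : Nat.card G ≤ T.card := by
  have h1 : Function.Injective (fun g : G => (⟨f g, hT g⟩ : T)) := by
    intro g h hgh
    exact hinj (Subtype.ext_iff.1 hgh)
  calc Nat.card G ≤ Nat.card T := Nat.card_le_card_of_injective _ h1
    _ = T.card := by simp

end Cfsg.Agent.Helper9.Steiner
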