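import Mathlib
import Cfsg.Prelude.Def_Sporadic_a
import Cfsg.Agent.Helper9.Steiner.AutTrans
import Cfsg.Agent.Helper9.Steiner.AutSearch
import Cfsg.Agent.Helper9.Steiner.AutBound
import Cfsg.Agent.Helper9.Steiner.D3622M
import Cfsg.Agent.Helper9.Steiner.A3622M

set_option autoImplicit false

/-!
The automorphism group of the standard system S(3, 6, 22) of the search `D3622M` has at most
`22 · 21 · 20 · 96` elements.
-/

namespace Cfsg.Agent.Helper9.Steiner.Aut3622

open Cfsg Cfsg.Agent.Helper9.Steiner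

/-- the parameters. -/
abbrev P : Params := D3622M.P

theorem three_le : 3 ≤ P.n := by decide

/-- the standard tuple. -/
def x0 : Fin 3 ↪ Fin P.n := Fin.castLEEmb three_le

theorem x0_val (i : Fin 3) : (x0 i).val = i.val := rfl

/-- the point `3`. -/
def p3 : Fin P.n := ⟨3, by decide⟩

/-- the point `4`. -/
def p4 : Fin P.n := ⟨4, by decide⟩

/-- the point `6`. -/
def p6 : Fin P.n := ⟨6, by decide⟩

theorem mem_b0 : ∀ j : Fin P.n, (63 : ℕ).testBit j.val = true ↔ j.val < 6 := by decide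

theorem mem_s0 : ∀ j : Fin P.n, (7 : ℕ).testBit j.val = true ↔ j.val < 3 := by decide

theorem mem_m0 : ∀ j : Fin P.n, (95 : ℕ).testBit j.val = true →
    j.val < 3 ∨ j = p3 ∨ j = p4 ∨ j = p6 := by decide

set_option maxRecDepth 100000 in
theorem b0_mem_std : (63 : ℕ) ∈ P.std := by decide +kernel

theorem b0_mem : finOf P.n 63 ∈ stdSet P := ⟨63, b0_mem_std, rfl⟩

theorem s0_card : (finOf P.n 7).card = P.t := by decide +kernel

theorem s0_sub : finOf P.n 7 ⊆ finOf P.n 63 := by
  intro j hj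
  rw [mem_finOf] at hj ⊢
  rw [mem_s0] at hj
  rw [mem_b0]
  omega

/-- the possible images of the points `3`, `4` and `6`. -/
def T : Finset (Fin P.n × Fin P.n × Fin P.n) :=
  Finset.univ.filter (fun q => 3 ≤ q.1.val ∧ q.1.val < 6 ∧ 3 ≤ q.2.1.val ∧ q.2.1.val < 6 ∧
    q.1 ≠ q.2.1 ∧ 6 ≤ q.2.2.val)

set_option maxRecDepth 100000 in
theorem T_card : T.card = 96 := by decide +kernel

theorem fix_of_mem_stab (g : setSystemAut (stdSet P)) (hg : g ∈ MulAction.stabilizer _ x0)
    (j : Fin P.n) (hj : j.val < 3) : (g : Equiv.Perm (Fin P.n)) j = j := by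
  rw [MulAction.mem_stabilizer_iff] at hg
  have := congrArg (fun f : Fin 3 ↪ Fin P.n => f ⟨j.val, hj⟩) hg
  have hj' : j = x0 ⟨j.val, hj⟩ := Fin.ext rfl
  rw [hj']
  exact this

theorem image_in_block (g : Equiv.Perm (Fin P.n))
    (hfix : ∀ j : Fin P.n, j.val < 3 → g j = j)
    (hb : (finOf P.n 63).image g = finOf P.n 63) (q : Fin P.n) (hq3 : 3 ≤ q.val)
    (hq6 : q.val < 6) : 3 ≤ (g q).val ∧ (g q).val < 6 := by
  have h4 : g q ∈ finOf P.n 63 := by
    rw [← hb]
    apply Finset.mem_image_of_mem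
    rw [mem_finOf, mem_b0]
    exact hq6
  rw [mem_finOf, mem_b0] at h4
  refine ⟨?_, h4⟩
  by_contra hlt
  have hlt' : (g q).val < 3 := by omega
  have h1 := hfix _ hlt'
  have h2 : g q = q := g.injective h1
  rw [h2] at hlt'
  omega

theorem image_mem_T (hstd : IsSteinerSystem P.t P.k (stdSet P)) (g : setSystemAut (stdSet P))
    (hg : g ∈ MulAction.stabilizer _ x0) :
    ((g : Equiv.Perm (Fin P.n)) p3, (g : Equiv.Perm (Fin P.n)) p4,
      (g : Equiv.Perm (Fin P.n)) p6) ∈ T := by
  have hfix := fix_of_mem_stab g hg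
  have hb : (finOf P.n 63).image (g : Equiv.Perm (Fin P.n)) = finOf P.n 63 := by
    refine block_fixed hstd g.2 b0_mem (finOf P.n 7) s0_card s0_sub ?_
    intro a ha
    rw [mem_finOf, mem_s0] at ha
    exact hfix a ha
  have h3 := image_in_block _ hfix hb p3 (by decide) (by decide)
  have h4 := image_in_block _ hfix hb p4 (by decide) (by decide)
  have h34 : (g : Equiv.Perm (Fin P.n)) p3 ≠ (g : Equiv.Perm (Fin P.n)) p4 := by
    intro h
    exact absurd ((g : Equiv.Perm (Fin P.n)).injective h) (by decide)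
  have h6 : 6 ≤ ((g : Equiv.Perm (Fin P.n)) p6).val := by
    by_contra hlt
    have hlt' : ((g : Equiv.Perm (Fin P.n)) p6).val < 6 := by omega
    have h1 : (g : Equiv.Perm (Fin P.n)) p6 ∈ finOf P.n 63 := by
      rw [mem_finOf, mem_b0]; exact hlt'
    rw [← hb, Finset.mem_image] at h1
    obtain ⟨a, ha, hga⟩ := h1
    have : a = p6 := (g : Equiv.Perm (Fin P.n)).injective hga
    rw [this, mem_finOf, mem_b0] at ha
    exact absurd ha (by decide)
  unfold T
  rw [Finset.mem_filter]
  exact ⟨Finset.mem_univ _, h3.1, h3.2, h4.1, h4.2, h34, h6⟩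

theorem card_stab_le (hstd : IsSteinerSystem P.t P.k (stdSet P)) :
    Nat.card (MulAction.stabilizer (setSystemAut (stdSet P)) x0) ≤ 96 := by
  rw [← T_card]
  refine card_le_of_inj
    (fun g : MulAction.stabilizer (setSystemAut (stdSet P)) x0 =>
      (((g : setSystemAut (stdSet P)) : Equiv.Perm (Fin P.n)) p3,
        ((g : setSystemAut (stdSet P)) : Equiv.Perm (Fin P.n)) p4,
        ((g : setSystemAut (stdSet P)) : Equiv.Perm (Fin P.n)) p6)) T
    (fun g => image_mem_T hstd g.1 g.2) ?_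
  intro g h hgh
  have e3 : ((g : setSystemAut (stdSet P)) : Equiv.Perm (Fin P.n)) p3 =
      ((h : setSystemAut (stdSet P)) : Equiv.Perm (Fin P.n)) p3 := congrArg Prod.fst hgh
  have e4 : ((g : setSystemAut (stdSet P)) : Equiv.Perm (Fin P.n)) p4 =
      ((h : setSystemAut (stdSet P)) : Equiv.Perm (Fin P.n)) p4 :=
    congrArg (fun q => q.2.1) hgh
  have e6 : ((g : setSystemAut (stdSet P)) : Equiv.Perm (Fin P.n)) p6 =
      ((h : setSystemAut (stdSet P)) : Equiv.Perm (Fin P.n)) p6 :=
    congrArg (fun q => q.2.2) hgh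
  have hk : (((h : setSystemAut (stdSet P)) : Equiv.Perm (Fin P.n)))⁻¹ *
      ((g : setSystemAut (stdSet P)) : Equiv.Perm (Fin P.n)) = 1 := by
    refine rigid_of_run D3622M.checked.le D3622M.checked.lt hstd (by decide) A3622M.a_run _
      ((setSystemAut (stdSet P)).mul_mem ((setSystemAut (stdSet P)).inv_mem h.1.2) g.1.2) ?_
    intro j hj
    rw [Equiv.Perm.mul_apply, Equiv.Perm.inv_eq_iff_eq]
    rcases mem_m0 j hj with hj | hj | hj | hj
    · rw [fix_of_mem_stab g.1 g.2 j hj, fix_of_mem_stab h.1 h.2 j hj]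
    · rw [hj]; exact e3
    · rw [hj]; exact e4
    · rw [hj]; exact e6
  apply Subtype.ext
  apply Subtype.ext
  have := congrArg (fun k => ((h : setSystemAut (stdSet P)) : Equiv.Perm (Fin P.n)) * k) hk
  simpa using this

/-- the order of the automorphism group is at most `887040`. -/
theorem card_aut_le (hstd : IsSteinerSystem P.t P.k (stdSet P)) :
    Nat.card (setSystemAut (stdSet P)) ≤ 887040 := by
  have h := card_le_mul_of_stabilizer (G := setSystemAut (stdSet P)) x0 96 (card_stab_le hstd)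
  have hc : Nat.card (Fin 3 ↪ Fin P.n) = 9240 := by
    rw [Nat.card_eq_fintype_card, Fintype.card_embedding_eq]
    simp only [Fintype.card_fin]
    decide
  rw [hc] at h
  exact h

end Cfsg.Agent.Helper9.Steiner.Aut3622
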