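import Mathlib
import Cfsg.Prelude.Def_Sporadic_a
import Cfsg.Agent.Helper9.Steiner.Basic
import Cfsg.Agent.Helper9.Steiner.AutTransport

set_option autoImplicit false

/-!
The derived system of a set system at a finite set of points, and the restriction homomorphism from
a group of automorphisms stabilizing that set to the automorphism group of the derived system.
-/

namespace Cfsg.Agent.Helper9.Steiner

open Cfsg
open scoped Pointwise

/-- the derived system at a set of points: the blocks containing the set, with the set removed. -/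
def derivedAt {α : Type*} [DecidableEq α] (B : Set (Finset α)) (S : Finset α) :
    Set (Finset {a : α // a ∉ S}) :=
  {b' | ∃ b ∈ B, S ⊆ b ∧ b' = Finset.subtype (fun a => a ∉ S) b}

theorem steiner_derivedAt {α : Type*} [DecidableEq α] {t k m : ℕ} {B : Set (Finset α)}
    (hB : IsSteinerSystem (t + m) (k + m) B) (S : Finset α) (hS : S.card = m) :
    IsSteinerSystem t k (derivedAt B S) := by
  refine ⟨?_, ?_⟩
  · rintro b' ⟨b, hb, hSb, rfl⟩
    rw [Finset.card_subtype]
    have h1 : b.filter (fun a => a ∉ S) = b \ S := by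
      ext a; simp [Finset.mem_sdiff]
    rw [h1, Finset.card_sdiff_of_subset hSb, hB.1 b hb, hS]; omega
  · intro s hs
    have hdisj : Disjoint (s.map (Function.Embedding.subtype _)) S := by
      rw [Finset.disjoint_left]
      intro a ha haS
      rw [Finset.mem_map] at ha
      obtain ⟨⟨a', ha'⟩, _, rfl⟩ := ha
      exact ha' haS
    have hcard : (s.map (Function.Embedding.subtype _) ∪ S).card = t + m := by
      rw [Finset.card_union_of_disjoint hdisj, Finset.card_map, hs, hS]
    obtain ⟨b, ⟨hbB, hsb⟩, huniq⟩ := hB.2 _ hcard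
    have hSb : S ⊆ b := fun a ha => hsb (Finset.mem_union_right _ ha)
    refine ⟨Finset.subtype _ b, ⟨⟨b, hbB, hSb, rfl⟩, ?_⟩, ?_⟩
    · intro a ha
      rw [Finset.mem_subtype]
      exact hsb (Finset.mem_union_left _ (Finset.mem_map_of_mem _ ha))
    · rintro c' ⟨⟨c, hcB, hSc, rfl⟩, hsc⟩
      have : c = b := by
        apply huniq
        refine ⟨hcB, ?_⟩
        intro a ha
        rw [Finset.mem_union] at ha
        rcases ha with ha | ha
        · rw [Finset.mem_map] at ha
          obtain ⟨a', ha', rfl⟩ := ha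
          have := hsc ha'
          rwa [Finset.mem_subtype] at this
        · exact hSc ha
      rw [this]

theorem not_mem_iff_of_smul_eq {α : Type*} [DecidableEq α] {g : Equiv.Perm α} {S : Finset α}
    (h : g • S = S) (a : α) : g a ∉ S ↔ a ∉ S := by
  rw [not_iff_not]
  conv_lhs => rw [← h]
  rw [← Equiv.Perm.smul_def, Finset.smul_mem_smul_finset_iff]

/-- the restriction of the permutations stabilizing a set to the complement of the set. -/
def restrictHom0 {α : Type*} [DecidableEq α] (S : Finset α) :
    MulAction.stabilizer (Equiv.Perm α) S →* Equiv.Perm {a : α // a ∉ S} where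
  toFun g := (g : Equiv.Perm α).subtypePerm
    (not_mem_iff_of_smul_eq (MulAction.mem_stabilizer_iff.1 g.2))
  map_one' := by
    ext a
    simp
  map_mul' g h := by
    ext a
    rfl

theorem restrictHom0_apply {α : Type*} [DecidableEq α] (S : Finset α)
    (g : MulAction.stabilizer (Equiv.Perm α) S) (a : {a : α // a ∉ S}) :
    ((restrictHom0 S g) a : α) = (g : Equiv.Perm α) a := rfl

theorem restrictHom0_smul_subtype {α : Type*} [DecidableEq α] (S : Finset α)
    (g : MulAction.stabilizer (Equiv.Perm α) S) (b : Finset α) :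
    (Finset.subtype (fun a => a ∉ S) b).image (restrictHom0 S g) =
      Finset.subtype (fun a => a ∉ S) (b.image (g : Equiv.Perm α)) := by
  ext a
  rw [Finset.mem_image, Finset.mem_subtype, Finset.mem_image]
  constructor
  · rintro ⟨x, hx, rfl⟩
    rw [Finset.mem_subtype] at hx
    exact ⟨x, hx, rfl⟩
  · rintro ⟨x, hx, hxa⟩
    have hxS : x ∉ S := by
      rw [← not_mem_iff_of_smul_eq (MulAction.mem_stabilizer_iff.1 g.2), hxa]
      exact a.2
    refine ⟨⟨x, hxS⟩, ?_, ?_⟩
    · rw [Finset.mem_subtype]; exact hx
    · apply Subtype.ext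
      rw [restrictHom0_apply]; exact hxa

theorem restrictHom0_map_subset {α : Type*} [DecidableEq α] (B : Set (Finset α)) (S : Finset α)
    (g : MulAction.stabilizer (Equiv.Perm α) S) (hg : (g : Equiv.Perm α) ∈ setSystemAut B) :
    mapSys (restrictHom0 S g) (derivedAt B S) ⊆ derivedAt B S := by
  rintro c' ⟨b', ⟨b, hbB, hSb, rfl⟩, rfl⟩
  have hgB : mapSys (g : Equiv.Perm α) B = B := (mem_aut_iff _ _).1 hg
  refine ⟨b.image (g : Equiv.Perm α), ?_, ?_, ?_⟩
  · rw [← hgB]; exact ⟨b, hbB, rfl⟩
  · intro a ha
    have hgS : (g : Equiv.Perm α) • S = S := MulAction.mem_stabilizer_iff.1 g.2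
    rw [← hgS] at ha
    obtain ⟨x, hx, rfl⟩ := Finset.mem_smul_finset.1 ha
    exact Finset.mem_image_of_mem _ (hSb hx)
  · exact restrictHom0_smul_subtype S g b

theorem restrictHom0_mem_aut {α : Type*} [DecidableEq α] (B : Set (Finset α)) (S : Finset α)
    (g : MulAction.stabilizer (Equiv.Perm α) S) (hg : (g : Equiv.Perm α) ∈ setSystemAut B) :
    restrictHom0 S g ∈ setSystemAut (derivedAt B S) := by
  rw [mem_aut_iff]
  apply Set.Subset.antisymm (restrictHom0_map_subset B S g hg)
  intro b' hb'
  have hinv : ((g⁻¹ : MulAction.stabilizer (Equiv.Perm α) S) : Equiv.Perm α) ∈ setSystemAut B := by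
    rw [Subgroup.coe_inv]; exact (setSystemAut B).inv_mem hg
  have h1 := restrictHom0_map_subset B S g⁻¹ hinv
  have h2 : b'.image (restrictHom0 S g⁻¹) ∈ derivedAt B S := h1 ⟨b', hb', rfl⟩
  refine ⟨_, h2, ?_⟩
  simp only
  rw [Finset.image_image]
  have : (⇑(restrictHom0 S g) ∘ ⇑(restrictHom0 S g⁻¹)) = id := by
    funext x
    rw [Function.comp_apply, map_inv]
    simp
  rw [this, Finset.image_id]

/-- the restriction homomorphism from a group of automorphisms stabilizing a set to the
automorphism group of the derived system. -/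
def restrictHom {α : Type*} [DecidableEq α] (B : Set (Finset α)) (S : Finset α)
    (H : Subgroup (Equiv.Perm α)) (hH : H ≤ setSystemAut B)
    (hS : H ≤ MulAction.stabilizer (Equiv.Perm α) S) :
    H →* setSystemAut (derivedAt B S) :=
  ((restrictHom0 S).comp (Subgroup.inclusion hS)).codRestrict _
    (fun g => restrictHom0_mem_aut B S _ (hH g.2))

theorem restrictHom_apply {α : Type*} [DecidableEq α] (B : Set (Finset α)) (S : Finset α)
    (H : Subgroup (Equiv.Perm α)) (hH : H ≤ setSystemAut B)
    (hS : H ≤ MulAction.stabilizer (Equiv.Perm α) S) (g : H) (a : {a : α // a ∉ S}) :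
    (((restrictHom B S H hH hS g : setSystemAut (derivedAt B S)) :
      Equiv.Perm {a : α // a ∉ S}) a : α) = (g : Equiv.Perm α) a := rfl

theorem restrictHom_injective {α : Type*} [DecidableEq α] (B : Set (Finset α)) (S : Finset α)
    (H : Subgroup (Equiv.Perm α)) (hH : H ≤ setSystemAut B)
    (hS : H ≤ MulAction.stabilizer (Equiv.Perm α) S)
    (hfix : ∀ g ∈ H, (∀ a, a ∉ S → g a = a) → g = 1) :
    Function.Injective (restrictHom B S H hH hS) := by
  rw [injective_iff_map_eq_one]
  intro g hg
  apply Subtype.ext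
  apply hfix _ g.2
  intro a ha
  have := restrictHom_apply B S H hH hS g ⟨a, ha⟩
  rw [hg] at this
  exact this.symm

end Cfsg.Agent.Helper9.Steiner
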