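import Mathlib
import Cfsg.Prelude.Def_Sporadic_a
import Cfsg.Agent.Helper9.Steiner.Derived
import Cfsg.Agent.Helper9.Golay.Steiner
import Cfsg.Agent.Helper9.Golay.Aut
import Cfsg.Agent.Helper9.Golay.NoSwap
import Cfsg.Agent.S0372
import Cfsg.Agent.S0378
import Cfsg.Agent.S0379

set_option autoImplicit false

/-!
The stabilizer of a pair of points in the group of the length-24 code acts faithfully on the
derived system S(3, 6, 22) of the octads at the pair; it has order `887040` and contains the
pointwise stabilizer of the pair, simple of order `443520`, with index 2.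
-/

namespace Cfsg.Agent.Helper9.Steiner.GolayM22

open Cfsg Cfsg.Agent.Helper9.Steiner Cfsg.Agent.Helper9.Golay
open scoped Pointwise

/-- the two points. -/
def S : Finset GolayPt := {none, some 0}

theorem mem_S (a : GolayPt) : a ∈ S ↔ a = none ∨ a = some 0 := by simp [S]

/-- the setwise stabilizer of the pair in the group of the code. -/
def S22 : Subgroup (Equiv.Perm GolayPt) := M24 ⊓ MulAction.stabilizer (Equiv.Perm GolayPt) S

theorem smul_S {g : Equiv.Perm GolayPt} (hg : g ∈ S22) : g • S = S :=
  MulAction.mem_stabilizer_iff.1 (Subgroup.mem_inf.1 hg).2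

theorem mem_M24_of_mem {g : Equiv.Perm GolayPt} (hg : g ∈ S22) : g ∈ M24 :=
  (Subgroup.mem_inf.1 hg).1

theorem cases_S22 {g : Equiv.Perm GolayPt} (hg : g ∈ S22) :
    (g none = none ∧ g (some 0) = some 0) ∨ (g none = some 0 ∧ g (some 0) = none) := by
  have hgS := smul_S hg
  have h1 : g none ∈ S := by
    rw [← not_not (a := g none ∈ S), not_mem_iff_of_smul_eq hgS, not_not, mem_S]
    exact Or.inl rfl
  have h2 : g (some 0) ∈ S := by
    rw [← not_not (a := g (some 0) ∈ S), not_mem_iff_of_smul_eq hgS, not_not, mem_S]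
    exact Or.inr rfl
  rw [mem_S] at h1 h2
  have hne : g none ≠ g (some 0) := fun h => absurd (g.injective h) (by simp)
  rcases h1 with h1 | h1 <;> rcases h2 with h2 | h2
  · exact absurd (h1.trans h2.symm) hne
  · exact Or.inl ⟨h1, h2⟩
  · exact Or.inr ⟨h1, h2⟩
  · exact absurd (h1.trans h2.symm) hne

theorem S22_le_aut : S22 ≤ setSystemAut octads := by
  rw [← M24_eq_aut_octads]
  exact inf_le_left

theorem S22_le_stab : S22 ≤ MulAction.stabilizer (Equiv.Perm GolayPt) S := inf_le_right

/-- the restriction to the other 22 points. -/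
def res : S22 →* setSystemAut (derivedAt octads S) :=
  restrictHom octads S S22 S22_le_aut S22_le_stab

theorem res_injective : Function.Injective res := by
  apply restrictHom_injective
  intro g hg hfix
  rcases cases_S22 hg with ⟨h1, h2⟩ | ⟨h1, h2⟩
  · ext a
    by_cases ha : a ∈ S
    · rw [mem_S] at ha
      rcases ha with rfl | rfl
      · rw [h1]; rfl
      · rw [h2]; rfl
    · rw [hfix a ha]; rfl
  · exfalso
    have hsw : g = Equiv.swap (none : GolayPt) (some 0) := by
      ext a
      by_cases ha : a ∈ S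
      · rw [mem_S] at ha
        rcases ha with rfl | rfl
        · rw [h1, Equiv.swap_apply_left]
        · rw [h2, Equiv.swap_apply_right]
      · rw [hfix a ha]
        rw [mem_S, not_or] at ha
        rw [Equiv.swap_apply_of_ne_of_ne ha.1 ha.2]
    have := mem_M24_of_mem hg
    rw [hsw] at this
    exact swap_not_mem_M24 _ _ (by simp) this

/-- the pointwise stabilizer of the pair, inside the setwise stabilizer. -/
def M : Subgroup S22 := MulAction.stabilizer S22 (none : GolayPt)

theorem fix_of_mem_M {g : S22} (hg : g ∈ M) :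
    (g : Equiv.Perm GolayPt) none = none ∧ (g : Equiv.Perm GolayPt) (some 0) = some 0 := by
  have h0 : (g : Equiv.Perm GolayPt) none = none := MulAction.mem_stabilizer_iff.1 hg
  rcases cases_S22 g.2 with h | h
  · exact h
  · rw [h0] at h
    exact absurd h.1 (by simp)

theorem mem_S22_of_fix {g : Equiv.Perm GolayPt} (hg : g ∈ M24) (h1 : g none = none)
    (h2 : g (some 0) = some 0) : g ∈ S22 := by
  refine Subgroup.mem_inf.2 ⟨hg, ?_⟩
  rw [MulAction.mem_stabilizer_iff]
  ext a
  rw [Finset.mem_smul_finset]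
  constructor
  · rintro ⟨x, hx, rfl⟩
    rw [mem_S] at hx ⊢
    rcases hx with rfl | rfl
    · exact Or.inl h1
    · exact Or.inr h2
  · intro ha
    rw [mem_S] at ha
    rcases ha with rfl | rfl
    · exact ⟨none, (mem_S _).2 (Or.inl rfl), h1⟩
    · exact ⟨some 0, (mem_S _).2 (Or.inr rfl), h2⟩

/-- the pointwise stabilizer is the group of `S0378`. -/
def mEquiv : M ≃* ↥(MulAction.stabilizer M24 (none : GolayPt) ⊓
    MulAction.stabilizer M24 (some 0 : GolayPt)) where
  toFun x := ⟨⟨x.1.1, mem_M24_of_mem x.1.2⟩, Subgroup.mem_inf.2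
    ⟨MulAction.mem_stabilizer_iff.2 (fix_of_mem_M x.2).1,
      MulAction.mem_stabilizer_iff.2 (fix_of_mem_M x.2).2⟩⟩
  invFun y := ⟨⟨y.1.1, mem_S22_of_fix y.1.2
      (MulAction.mem_stabilizer_iff.1 (Subgroup.mem_inf.1 y.2).1)
      (MulAction.mem_stabilizer_iff.1 (Subgroup.mem_inf.1 y.2).2)⟩,
    MulAction.mem_stabilizer_iff.2
      (MulAction.mem_stabilizer_iff.1 (Subgroup.mem_inf.1 y.2).1)⟩
  left_inv _ := rfl
  right_inv _ := rfl
  map_mul' _ _ := rfl

theorem card_M : Nat.card M = 443520 := by
  rw [Nat.card_congr mEquiv.toEquiv]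
  exact Cfsg.Agent.S0378.result none (some 0) (by simp)

theorem M_simple : IsSimpleGroup M := by
  have := Cfsg.Agent.S0379.result none (some 0) (by simp)
  exact mEquiv.isSimpleGroup_congr.2 this

theorem projInv_mem : projInv ∈ S22 := by
  refine Subgroup.mem_inf.2 ⟨Cfsg.Agent.S0372.result, ?_⟩
  rw [MulAction.mem_stabilizer_iff]
  decide

theorem M_ne_top : M ≠ ⊤ := by
  intro h
  have h1 : (⟨projInv, projInv_mem⟩ : S22) ∈ M := by rw [h]; trivial
  have h2 := (fix_of_mem_M h1).1
  exact absurd h2 (by decide)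

theorem card_S22_ge : 887040 ≤ Nat.card S22 := by
  have h1 := Subgroup.index_mul_card M
  rw [card_M] at h1
  have h2 : M.index ≠ 1 := fun h => M_ne_top (Subgroup.index_eq_one.1 h)
  have h3 : M.index ≠ 0 := Subgroup.index_ne_zero_of_finite
  have h4 : 2 ≤ M.index := by omega
  calc 887040 = 2 * 443520 := by norm_num
    _ ≤ M.index * 443520 := Nat.mul_le_mul_right _ h4
    _ = Nat.card S22 := h1

theorem steiner : IsSteinerSystem 3 6 (derivedAt octads S) :=
  steiner_derivedAt (t := 3) (k := 6) (m := 2) octads_isSteinerSystem S (by decide)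

theorem card_pts : Fintype.card {a : GolayPt // a ∉ S} = 22 := by decide

end Cfsg.Agent.Helper9.Steiner.GolayM22
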