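import Mathlib
import Cfsg.Agent.Helper9.Steiner.AutSearch
import Cfsg.Agent.Helper9.Steiner.D2521H

set_option autoImplicit false

/-!
Certificate: an automorphism of the standard system of D2521H fixing the points of the mask 63 is trivial (generated).
-/

namespace Cfsg.Agent.Helper9.Steiner.A2521H

/-- a piece of the data. -/
def as0 : List AEntry := [
  .go, .go, .go, .go, .go, .go, .go, .go, .go, .go, .go, .go, .go, .go, .go, .dead 1185920 1185920, .dead 305216 305216, .dead 1185920 1185920, .dead 1185920 1185920, .dead 1185920 1185920, .dead 214080 214080, .dead 1185920 1185920, .dead 305216 305216, .dead 791808 791808, .dead 1185920 1185920, .dead 305216 305216, .dead 1185920 1185920, .dead 791808 791808, .dead 305216 305216, .dead 1185920 1185920, .dead 305216 305216, .dead 1123072 1123072, .dead 1185920 1185920, .dead 305216 305216, .dead 791808 791808, .dead 1185920 1185920, .dead 305216 305216, .dead 1123072 1123072, .dead 305216 305216, .dead 1185920 1185920, .dead 791808 791808, .dead 305216 305216, .dead 1185920 1185920, .dead 1185920 1185920, .dead 1185920 1185920, .dead 1185920 1185920, .dead 1185920 1185920, .dead 791808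 791808, .dead 1185920 1185920, .dead 1185920 1185920, .dead 791808 791808, .dead 305216 4720, .dead 1185920 9384, .dead 1185920 574080, .dead 1185920 574080, .dead 1185920 327828, .dead 305216 214080, .dead 1185920 327828, .dead 1185920 574080, .dead 305216 1572940, .dead 791808 18712, .dead 214080 4720, .dead 791808 1123072, .dead 791808 18712, .dead 791808 164132, .dead 791808 1123072, .dead 791808 164132, .dead 9384 9384, .dead 214080 1572940, .dead 791808 1123072, .dead 574080 9384, .dead 1123072 18712, .dead 393738 393738, .dead 574080 9384, .dead 1123072 18712, .dead 1123072 164132, .dead 574080 327828, .dead 1123072 164132, .dead 574080 327828, .dead 4720 4720, .dead 4720 4720, .dead 4720 4720, .dead 9384 9384, .dead 164132 164132, .dead 4720 4720, .dead 9384 9384, .dead 164132 164132, .dead 18712 18712, .dead 164132 164132, .dead 18712 18712, .dead 164132 164132, .dead 164132 164132, .dead 164132 164132, .dead 9384 9384, .dead 4720 4720, .dead 327828 327828, .dead 9384 9384, .dead 4720 4720, .dead 327828 327828, .dead 9384 9384]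

/-- a piece of the data. -/
def as1 : List AEntry := [
  .dead 9384 9384, .dead 9384 9384, .dead 9384 9384, .dead 9384 9384, .dead 9384 9384, .dead 9384 9384, .dead 4720 4720, .dead 4720 4720, .dead 1572940 1572940, .dead 4720 4720, .dead 4720 4720, .dead 1572940 1572940, .dead 4720 4720, .dead 4720 4720, .dead 4720 4720, .dead 4720 4720, .dead 4720 4720, .dead 4720 4720, .dead 4720 4720, .dead 4720 4720]

/-- the certificate. -/
def astream : List AEntry := as0 ++ as1

/-- the order of the points. -/
def todo : List ℕ := [6, 7, 8, 9, 10, 11, 12, 13, 14, 15, 16, 17, 18, 19, 20]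

set_option maxHeartbeats 0 in
set_option maxRecDepth 1000000 in
theorem a_run : (autGo D2521H.P todo (fun j => j) 63 63 astream).isSome = true := by decide +kernel

end Cfsg.Agent.Helper9.Steiner.A2521H
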