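import Mathlib
import Cfsg.Agent.Helper9.Steiner.Search

set_option autoImplicit false

/-!
Certificate of the exhaustive search for the Steiner systems S(5, 6, 12) (generated).
-/

namespace Cfsg.Agent.Helper9.Steiner.D5612M

/-- a piece of the data. -/
def ex0 : List ℕ := [
  1, 2, 4, 8, 16, 32, 64, 128, 256, 512, 1024, 2048]

/-- a piece of the data. -/
def sd0 : List ℕ := [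
  4032, 3888, 3850, 3845, 3752, 3729, 3718, 3684, 3666, 3657, 3619, 3612, 3492, 3480, 3459, 3426, 3409, 3404, 3369, 3350, 3297, 3284, 3274, 3250, 3213, 3192, 3143, 3125, 3118, 3099, 2978, 1953, 2964, 1938, 1932, 2953, 1896, 2913, 2904, 1876, 2886, 1859, 2860, 1830, 1817, 2835, 2800, 1762, 1752, 2764, 1733, 2755, 1716, 2725, 2714, 1675, 1649, 2666, 2645, 1614, 1594, 2617, 2614, 1581, 1559, 2575, 1520, 2536, 996, 2514, 977, 970, 1481, 1478, 2501, 952, 2481, 1450, 1429, 2446, 903, 2420, 882, 1381, 1370, 845, 2379, 1340, 2362, 821, 1331, 811, 2343, 798, 2333, 1295, 1260, 745, 2278, 483]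

/-- a piece of the data. -/
def sd1 : List ℕ := [
  476, 2265, 726, 1235, 2236, 1209, 438, 691, 686, 429, 2219, 1191, 1182, 669, 411, 2199, 636, 250, 377, 1142, 245, 2163, 366, 2157, 1131, 615, 2142, 1117, 603, 343, 207, 63]

/-- the parameters and the standard system. -/
def P : Params where
  n := 12
  t := 5
  k := 6
  extras := ex0
  std := sd0 ++ sd1
  marks := 5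

/-- a piece of the data. -/
def st0 : List Entry := [
  .node 31, .node 79, .node 87, .node 91, .node 93, .node 94, .node 103, .node 107, .fnode 109 [0, 0, 1, 2, 0], .fnode 110 [0, 0, 0, 0, 3, 0], .fnode 115 [2, 0, 2, 0, 1], .fnode 117 [0, 1, 1, 1, 1, 1], .fnode 117 [0, 1, 1, 1, 1, 1], .fnode 118 [0, 0, 0, 2, 0, 2, 1], .fnode 117 [0, 1, 1, 1, 1, 1], .fnode 118 [0, 0, 0, 2, 0, 2, 1], .fnode 109 [0, 0, 1, 2, 0], .fnode 110 [0, 0, 0, 0, 3, 0], .fnode 110 [0, 0, 0, 0, 3, 0], .fnode 115 [2, 0, 2, 0, 1], .fnode 117 [0, 1, 1, 1, 1, 1], .fnode 117 [0, 1, 1, 1, 1, 1], .fnode 118 [0, 0, 0, 2, 0, 2, 1], .fnode 121 [1, 0, 1, 0, 2, 0, 2], .fnode 122 [0, 0, 1, 0, 1, 1, 1, 2], .fnode 124 [0, 0, 0, 0, 1, 0, 2, 0, 3], .fnode 151 [4, 8,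 0, 0], .fnode 155 [0, 1, 10, 1, 0], .fnode 157 [0, 0, 4, 6, 2, 0], .fnode 158 [0, 0, 0, 1, 8, 3, 0], .fnode 167 [3, 4, 4, 4, 0], .fnode 171 [0, 2, 2, 6, 5, 0], .fnode 173 [0, 0, 1, 6, 2, 6, 0], .fnode 174 [0, 0, 0, 0, 4, 4, 7, 0], .fnode 179 [2, 0, 2, 0, 1, 2, 0, 9], .fnode 182 [0, 0, 2, 0, 2, 1, 1, 0, 10], .fnode 173 [0, 0, 1, 6, 2, 6, 0], .fnode 174 [0, 0, 0, 0, 4, 4, 7, 0], .fnode 174 [0, 0, 0, 0, 4, 4, 7, 0], .fnode 179 [2, 0, 2, 0, 1, 2, 0, 9], .fnode 182 [0, 0, 2, 0, 2, 1, 1, 0, 10], .fnode 185 [1, 1, 0, 2, 0, 2, 0, 1, 10], .fnode 188 [0, 0, 1, 0, 2, 0, 2, 0, 2, 10], .fnode 211 [3, 6, 0, 1, 2, 0, 6, 0, 0], .fnode 171 [0, 2, 2, 6, 5, 0], .fnode 173 [0, 0, 1, 6, 2, 6, 0], .fnode 174 [0, 0, 0, 0, 4, 4, 7, 0], .fnode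 179 [2, 0, 2, 0, 1, 2, 0, 9], .fnode 173 [0, 0, 1, 6, 2, 6, 0], .fnode 174 [0, 0, 0, 0, 4, 4, 7, 0], .fnode 179 [2, 0, 2, 0, 1, 2, 0, 9], .fnode 174 [0, 0, 0, 0, 4, 4, 7, 0], .fnode 171 [0, 2, 2, 6, 5, 0], .fnode 173 [0, 0, 1, 6, 2, 6, 0], .fnode 174 [0, 0, 0, 0, 4, 4, 7, 0], .fnode 174 [0, 0, 0, 0, 4, 4, 7, 0], .fnode 157 [0, 0, 4, 6, 2, 0], .fnode 158 [0, 0, 0, 1, 8, 3, 0], .fnode 158 [0, 0, 0, 1, 8, 3, 0], .fnode 167 [3, 4, 4, 4, 0], .fnode 171 [0, 2, 2, 6, 5, 0], .fnode 173 [0, 0, 1, 6, 2, 6, 0], .fnode 174 [0, 0, 0, 0, 4, 4, 7, 0], .fnode 179 [2, 0, 2, 0, 1, 2, 0, 9], .fnode 173 [0, 0, 1, 6, 2, 6, 0], .fnode 174 [0, 0, 0, 0, 4, 4, 7, 0], .fnode 179 [2, 0, 2, 0, 1, 2, 0, 9], .fnode 174 [0, 0, 0, 0, 4, 4, 7, 0], .fnode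 179 [2, 0, 2, 0, 1, 2, 0, 9], .fnode 171 [0, 2, 2, 6, 5, 0], .fnode 173 [0, 0, 1, 6, 2, 6, 0], .fnode 174 [0, 0, 0, 0, 4, 4, 7, 0], .fnode 179 [2, 0, 2, 0, 1, 2, 0, 9], .fnode 173 [0, 0, 1, 6, 2, 6, 0], .fnode 174 [0, 0, 0, 0, 4, 4, 7, 0], .fnode 179 [2, 0, 2, 0, 1, 2, 0, 9], .fnode 182 [0, 0, 2, 0, 2, 1, 1, 0, 10], .fnode 173 [0, 0, 1, 6, 2, 6, 0], .fnode 174 [0, 0, 0, 0, 4, 4, 7, 0], .fnode 179 [2, 0, 2, 0, 1, 2, 0, 9], .fnode 182 [0, 0, 2, 0, 2, 1, 1, 0, 10], .fnode 185 [1, 1, 0, 2, 0, 2, 0, 1, 10], .fnode 188 [0, 0, 1, 0, 2, 0, 2, 0, 2, 10], .fnode 211 [3, 6, 0, 1, 2, 0, 6, 0, 0], .fnode 174 [0, 0, 0, 0, 4, 4, 7, 0], .fnode 171 [0, 2, 2, 6, 5, 0], .fnode 173 [0, 0, 1, 6, 2, 6, 0], .fnode 174 [0, 0, 0, 0, 4, 4, 7, 0],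 .fnode 179 [2, 0, 2, 0, 1, 2, 0, 9], .fnode 174 [0, 0, 0, 0, 4, 4, 7, 0], .fnode 179 [2, 0, 2, 0, 1, 2, 0, 9],
  .fnode 173 [0, 0, 1, 6, 2, 6, 0], .fnode 174 [0, 0, 0, 0, 4, 4, 7, 0], .fnode 179 [2, 0, 2, 0, 1, 2, 0, 9], .fnode 182 [0, 0, 2, 0, 2, 1, 1, 0, 10], .fnode 174 [0, 0, 0, 0, 4, 4, 7, 0], .fnode 157 [0, 0, 4, 6, 2, 0], .fnode 158 [0, 0, 0, 1, 8, 3, 0], .fnode 167 [3, 4, 4, 4, 0], .fnode 171 [0, 2, 2, 6, 5, 0]]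

/-- a piece of the data. -/
def st1 : List Entry := [
  .fnode 173 [0, 0, 1, 6, 2, 6, 0], .fnode 174 [0, 0, 0, 0, 4, 4, 7, 0], .fnode 179 [2, 0, 2, 0, 1, 2, 0, 9], .fnode 182 [0, 0, 2, 0, 2, 1, 1, 0, 10], .fnode 171 [0, 2, 2, 6, 5, 0], .fnode 173 [0, 0, 1, 6, 2, 6, 0], .fnode 174 [0, 0, 0, 0, 4, 4, 7, 0], .fnode 179 [2, 0, 2, 0, 1, 2, 0, 9], .fnode 173 [0, 0, 1, 6, 2, 6, 0], .fnode 171 [0, 2, 2, 6, 5, 0], .fnode 173 [0, 0, 1, 6, 2, 6, 0], .fnode 174 [0, 0, 0, 0, 4, 4, 7, 0], .fnode 174 [0, 0, 0, 0, 4, 4, 7, 0], .fnode 179 [2, 0, 2, 0, 1, 2, 0, 9], .fnode 182 [0, 0, 2, 0, 2, 1, 1, 0, 10], .fnode 185 [1, 1, 0, 2, 0, 2, 0, 1, 10], .fnode 188 [0, 0, 1, 0, 2, 0, 2, 0, 2, 10], .fnode 211 [3, 6, 0, 1, 2, 0, 6, 0, 0], .fnode 173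 [0, 0, 1, 6, 2, 6, 0], .fnode 174 [0, 0, 0, 0, 4, 4, 7, 0], .fnode 155 [0, 1, 10, 1, 0], .fnode 157 [0, 0, 4, 6, 2, 0], .fnode 158 [0, 0, 0, 1, 8, 3, 0], .fnode 158 [0, 0, 0, 1, 8, 3, 0], .fnode 167 [3, 4, 4, 4, 0], .fnode 171 [0, 2, 2, 6, 5, 0], .fnode 173 [0, 0, 1, 6, 2, 6, 0], .fnode 174 [0, 0, 0, 0, 4, 4, 7, 0], .fnode 179 [2, 0, 2, 0, 1, 2, 0, 9], .fnode 173 [0, 0, 1, 6, 2, 6, 0], .fnode 174 [0, 0, 0, 0, 4, 4, 7, 0], .fnode 179 [2, 0, 2, 0, 1, 2, 0, 9], .fnode 182 [0, 0, 2, 0, 2, 1, 1, 0, 10], .fnode 185 [1, 1, 0, 2, 0, 2, 0, 1, 10], .fnode 188 [0, 0, 1, 0, 2, 0, 2, 0, 2, 10], .fnode 211 [3, 6, 0, 1, 2, 0, 6, 0, 0], .fnode 174 [0, 0, 0, 0, 4, 4, 7, 0], .fnode 171 [0, 2, 2, 6, 5, 0], .fnode 173 [0, 0, 1, 6, 2, 6, 0],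 .fnode 174 [0, 0, 0, 0, 4, 4, 7, 0], .fnode 179 [2, 0, 2, 0, 1, 2, 0, 9], .fnode 174 [0, 0, 0, 0, 4, 4, 7, 0], .fnode 157 [0, 0, 4, 6, 2, 0], .fnode 158 [0, 0, 0, 1, 8, 3, 0], .fnode 167 [3, 4, 4, 4, 0], .fnode 171 [0, 2, 2, 6, 5, 0], .fnode 173 [0, 0, 1, 6, 2, 6, 0], .fnode 174 [0, 0, 0, 0, 4, 4, 7, 0], .fnode 179 [2, 0, 2, 0, 1, 2, 0, 9], .fnode 171 [0, 2, 2, 6, 5, 0], .fnode 173 [0, 0, 1, 6, 2, 6, 0], .fnode 174 [0, 0, 0, 0, 4, 4, 7, 0], .fnode 179 [2, 0, 2, 0, 1, 2, 0, 9], .fnode 182 [0, 0, 2, 0, 2, 1, 1, 0, 10], .fnode 185 [1, 1, 0, 2, 0, 2, 0, 1, 10], .fnode 188 [0, 0, 1, 0, 2, 0, 2, 0, 2, 10], .fnode 211 [3, 6, 0, 1, 2, 0, 6, 0, 0], .fnode 174 [0, 0, 0, 0, 4, 4, 7, 0], .fnode 173 [0, 0, 1, 6, 2, 6, 0], .fnode 174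 [0, 0, 0, 0, 4, 4, 7, 0], .fnode 158 [0, 0, 0, 1, 8, 3, 0], .fnode 167 [3, 4, 4, 4, 0], .fnode 171 [0, 2, 2, 6, 5, 0], .fnode 173 [0, 0, 1, 6, 2, 6, 0], .fnode 174 [0, 0, 0, 0, 4, 4, 7, 0], .fnode 179 [2, 0, 2, 0, 1, 2, 0, 9], .fnode 171 [0, 2, 2, 6, 5, 0], .fnode 173 [0, 0, 1, 6, 2, 6, 0], .fnode 174 [0, 0, 0, 0, 4, 4, 7, 0], .fnode 179 [2, 0, 2, 0, 1, 2, 0, 9], .fnode 182 [0, 0, 2, 0, 2, 1, 1, 0, 10], .fnode 173 [0, 0, 1, 6, 2, 6, 0], .fnode 174 [0, 0, 0, 0, 4, 4, 7, 0], .fnode 179 [2, 0, 2, 0, 1, 2, 0, 9], .fnode 182 [0, 0, 2, 0, 2, 1, 1, 0, 10], .fnode 185 [1, 1, 0, 2, 0, 2, 0, 1, 10], .fnode 188 [0, 0, 1, 0, 2, 0, 2, 0, 2, 10], .fnode 211 [3, 6, 0, 1, 2, 0, 6, 0, 0], .fnode 174 [0, 0, 0, 0, 4, 4, 7, 0], .fnode 155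 [0, 1, 10, 1, 0], .fnode 157 [0, 0, 4, 6, 2, 0], .fnode 158 [0, 0, 0, 1, 8, 3, 0], .fnode 167 [3, 4, 4, 4, 0],
  .fnode 171 [0, 2, 2, 6, 5, 0], .fnode 173 [0, 0, 1, 6, 2, 6, 0], .fnode 174 [0, 0, 0, 0, 4, 4, 7, 0], .fnode 179 [2, 0, 2, 0, 1, 2, 0, 9], .fnode 182 [0, 0, 2, 0, 2, 1, 1, 0, 10], .fnode 185 [1, 1, 0, 2, 0, 2, 0, 1, 10], .fnode 188 [0, 0, 1, 0, 2, 0, 2, 0, 2, 10], .fnode 211 [3, 6, 0, 1, 2, 0, 6, 0, 0], .fnode 173 [0, 0, 1, 6, 2, 6, 0], .fnode 174 [0, 0, 0, 0, 4, 4, 7, 0], .fnode 179 [2, 0, 2, 0, 1, 2, 0, 9], .fnode 182 [0, 0, 2, 0, 2, 1, 1, 0, 10], .fnode 182 [0, 0, 2, 0, 2, 1, 1, 0, 10], .fnode 171 [0, 2, 2, 6, 5, 0], .fnode 173 [0, 0, 1, 6, 2, 6, 0], .fnode 174 [0, 0, 0, 0, 4, 4, 7, 0], .fnode 179 [2, 0, 2,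 0, 1, 2, 0, 9]]

/-- a piece of the data. -/
def st2 : List Entry := [
  .fnode 173 [0, 0, 1, 6, 2, 6, 0], .fnode 174 [0, 0, 0, 0, 4, 4, 7, 0], .fnode 179 [2, 0, 2, 0, 1, 2, 0, 9], .fnode 182 [0, 0, 2, 0, 2, 1, 1, 0, 10], .fnode 185 [1, 1, 0, 2, 0, 2, 0, 1, 10], .fnode 188 [0, 0, 1, 0, 2, 0, 2, 0, 2, 10], .fnode 211 [3, 6, 0, 1, 2, 0, 6, 0, 0], .fnode 214 [0, 2, 5, 2, 1, 1, 0, 5, 2, 0], .fnode 217 [1, 1, 7, 0, 2, 0, 1, 6, 0, 1], .fnode 220 [0, 0, 1, 7, 0, 2, 0, 2, 5, 0, 2], .fnode 227 [3, 3, 2, 0, 5, 2, 0, 2, 0, 4], .fnode 230 [0, 2, 3, 1, 2, 5, 1, 0, 1, 2, 4], .fnode 233 [1, 1, 3, 3, 0, 6, 0, 1, 2, 0, 5], .fnode 236 [0, 0, 1, 3, 3, 0, 6, 0, 2, 1, 0, 6], .fnode 271 [13, 4, 7, 6, 0, 0], .fnode 285 [0, 4, 8, 3, 0, 3, 8, 1,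 1], .fnode 286 [0, 0, 4, 5, 5, 1, 7, 3, 2, 1], .fnode 285 [0, 4, 8, 3, 0, 3, 8, 1, 1], .fnode 286 [0, 0, 4, 5, 5, 1, 7, 3, 2, 1], .fnode 295 [2, 3, 6, 2, 1, 10, 2, 3, 1], .fnode 299 [0, 2, 3, 9, 0, 3, 3, 3, 1, 6], .fnode 307 [0, 0, 6, 6, 0, 6, 3, 2, 7, 1], .fnode 309 [0, 1, 1, 11, 2, 8, 1, 8, 1], .fnode 314 [1, 0, 1, 12, 7, 2, 0, 3, 8], .fnode 316 [0, 0, 3, 0, 5, 3, 1, 2, 6, 1, 3, 8], .fnode 331 [4, 3, 3, 14, 3, 3, 1, 3, 0, 0], .fnode 333 [0, 7, 0, 4, 8, 8, 3, 0, 3, 1, 0], .fnode 346 [1, 1, 4, 6, 13, 2, 0, 3, 3, 1, 0], .fnode 357 [1, 3, 2, 6, 9, 8, 1, 1, 0, 1, 3], .fnode 370 [1, 3, 1, 8, 6, 10, 0, 0, 1, 0, 6], .fnode 372 [0, 0, 3, 1, 10, 5, 9, 1, 0, 0, 1, 6], .fnode 391 [11, 2, 3, 6, 2, 1, 2, 0, 13, 0], .fnode 398 [0, 12,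 1, 4, 5, 1, 0, 2, 1, 7, 7], .fnode 405 [1, 8, 4, 5, 5, 2, 3, 0, 0, 4, 8], .fnode 426 [1, 8, 2, 7, 6, 1, 0, 0, 3, 2, 4], .fnode 433 [1, 10, 0, 8, 5, 0, 0, 1, 4, 3, 1], .fnode 440 [0, 0, 9, 0, 11, 3, 0, 0, 2, 4, 2, 0], .fnode 453 [3, 1, 2, 1, 13, 0, 8, 10, 8, 0], .fnode 454 [0, 4, 0, 17, 0, 0, 1, 3, 15, 6, 0], .fnode 457 [1, 10, 0, 10, 1, 0, 0, 7, 4, 3, 11], .fnode 458 [0, 0, 3, 1, 4, 1, 12, 0, 13, 2, 4, 7], .fnode 465 [1, 1, 1, 1, 20, 0, 0, 1, 10, 3, 1, 8], .fnode 466 [0, 0, 1, 8, 1, 14, 0, 1, 0, 2, 7, 2, 11], .fnode 484 [4, 0, 6, 1, 12, 1, 0, 0, 5, 2, 10, 1], .fnode 488 [0, 2, 0, 2, 1, 18, 0, 1, 0, 8, 7, 0, 3], .fnode 496 [0, 0, 0, 0, 4, 0, 4, 0, 16, 0, 5, 10, 0, 1], .fnode 527 [14, 4, 5, 1, 1, 12, 4, 11, 2, 1, 0], .fnode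 535 [0, 14, 8, 3, 8, 4, 5, 1, 9, 2, 0, 1], .fnode 557 [1, 19, 3, 1, 5, 10, 0, 3, 2, 6, 1, 5], .fnode 566 [1, 17, 6, 3, 8, 3, 0, 0, 7, 2, 5, 5], .fnode 569 [1, 11, 13, 1, 5, 7, 1, 5, 2, 1, 9, 2], .fnode 570 [0, 0, 12, 6, 5, 2, 1, 13, 0, 7, 0, 10, 2], .fnode 590 [5, 5, 13, 7, 8, 5, 7, 5, 2, 0, 1, 1], .fnode 597 [5, 5, 14, 3, 12, 10, 2, 3, 4, 1, 0, 0], .fnode 618 [1, 0, 10, 10, 8, 5, 10, 7, 0, 4, 1, 0, 2], .fnode 625 [1, 2, 8, 11, 6, 7, 9, 8, 1, 1, 0, 3, 2], .fnode 651 [9, 5, 8, 10, 5, 9, 0, 1, 2, 0, 13, 1], .fnode 666 [0, 4, 10, 3, 17, 8, 4, 0, 3, 0, 0, 2, 10], .fnode 677 [9, 4, 11, 8, 7, 9, 0, 0, 1, 1, 6, 4], .fnode 692 [0, 8, 5, 6, 13, 12, 1, 1, 0, 0, 4, 2, 3], .fnode 707 [3, 14, 0, 8, 16, 1, 2, 0, 3, 17, 2, 1], .fnode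 709 [0, 1, 4, 9, 1, 3, 5, 4, 11, 4, 10, 6, 4, 4], .fnode 716 [0, 8, 8, 2, 13, 10, 0, 2, 1, 5, 4, 2, 13],
  .fnode 728 [0, 4, 15, 0, 3, 21, 2, 0, 0, 10, 2, 0, 10], .fnode 738 [3, 5, 10, 2, 10, 14, 0, 0, 2, 4, 0, 8, 7], .fnode 752 [0, 0, 3, 3, 9, 1, 1, 4, 6, 14, 4, 4, 8, 0, 2], .fnode 787 [18, 5, 9, 1, 6, 0, 0, 1, 13, 6, 13, 0], .fnode 793 [0, 15, 8, 4, 9, 3, 1, 1, 0, 18, 0, 3, 9], .fnode 806 [18, 5, 11, 1, 6, 1, 0, 0, 12, 1, 13, 2], .fnode 812 [0, 19, 4, 6, 9, 1, 1, 1, 1, 14, 0, 6, 5], .fnode 835 [3, 5, 18, 0, 8, 1, 2, 0, 4, 7, 25, 2, 0], .fnode 838 [0, 1, 15, 8, 2, 1, 6, 1, 2, 7, 8, 19, 2, 3], .fnode 852 [0, 17, 9, 1, 10, 0, 2, 3, 3, 6, 1, 13, 12], .fnode 856 [0, 4, 3, 21, 0, 3, 6, 1, 0, 7, 6, 15, 1, 9], .fnode 865 [3,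 14, 11, 1, 11, 0, 1, 3, 1, 5, 1, 18, 6], .fnode 872 [0, 0, 3, 14, 9, 0, 2, 3, 6, 2, 5, 5, 18, 1, 3], .fnode 905 [8, 10, 14, 0, 0, 2, 4, 4, 5, 5, 11, 3, 0], .fnode 908 [0, 6, 6, 18, 2, 3, 3, 0, 4, 7, 6, 7, 0, 3], .fnode 914 [11, 8, 14, 0, 0, 3, 4, 1, 10, 8, 3, 0, 6], .fnode 916 [0, 0, 4, 12, 15, 1, 4, 2, 1, 8, 3, 6, 1, 3, 6], .fnode 929 [3, 1, 15, 14, 1, 4, 0, 3, 8, 1, 5, 1, 7, 1], .fnode 930 [0, 1, 9, 3, 20, 2, 3, 1, 2, 1, 8, 7, 6, 0, 0], .fnode 1051 [14, 10, 4, 3, 19, 5, 4, 7, 1, 6, 1, 9, 2, 0, 2], .fnode 1070 [14, 15, 0, 2, 13, 9, 7, 0, 11, 2, 0, 6, 2, 1, 6], .fnode 1077 [24, 3, 6, 0, 13, 4, 3, 1, 0, 14, 5, 7, 0, 6, 3], .fnode 1095 [14, 8, 8, 4, 8, 9, 11, 7, 7, 7, 4, 0, 1, 1, 0], .fnode 1144 [10, 11, 7, 3, 5, 17, 2, 8,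 8, 10, 0, 0, 0, 4, 2], .fnode 1165 [9, 15, 4, 7, 8, 5, 16, 0, 8, 3, 1, 0, 0, 13, 2], .fnode 1202 [9, 13, 4, 7, 5, 10, 12, 12, 1, 0, 0, 3, 0, 4, 1], .fnode 1226 [24, 0, 6, 3, 11, 0, 0, 3, 6, 11, 6, 8, 4, 6, 5], .fnode 1236 [17, 8, 1, 1, 13, 6, 4, 17, 3, 1, 0, 8, 6, 0, 6], .fnode 1249 [10, 15, 2, 5, 9, 5, 10, 12, 0, 1, 3, 1, 5, 8, 3], .fnode 1302 [13, 5, 3, 20, 8, 4, 5, 2, 2, 2, 1, 10, 5, 6, 9], .fnode 1321 [12, 4, 7, 18, 8, 4, 5, 3, 2, 0, 3, 9, 3, 8, 5], .fnode 1356 [16, 1, 2, 19, 12, 0, 9, 0, 0, 1, 7, 0, 3, 21, 4], .fnode 1361 [22, 1, 2, 11, 9, 3, 1, 5, 4, 0, 5, 12, 14, 8, 1], .fnode 1378 [20, 4, 1, 3, 18, 6, 3, 4, 0, 0, 5, 8, 19, 2, 1], .fnode 1411 [16, 1, 7, 13, 16, 0, 3, 0, 1, 9, 4, 3, 3, 7, 2], .fnode 1432 [19, 0, 9,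 3, 17, 5, 2, 1, 0, 5, 2, 12, 4, 6, 1], .fnode 1444 [18, 2, 8, 8, 13, 1, 4, 3, 0, 4, 3, 8, 9, 2, 1]]

/-- a piece of the data. -/
def st3 : List Entry := [
  .fnode 1564 [22, 4, 4, 3, 3, 6, 0, 2, 0, 22, 5, 18, 0, 2, 10], .fnode 1571 [20, 9, 1, 3, 7, 0, 3, 2, 0, 25, 0, 15, 3, 12, 0], .fnode 1609 [26, 4, 2, 3, 1, 4, 0, 2, 3, 8, 12, 11, 26, 2, 0], .fnode 1618 [24, 5, 1, 5, 0, 7, 2, 0, 3, 17, 1, 17, 0, 15, 8], .fnode 1636 [28, 2, 3, 3, 2, 1, 3, 2, 3, 4, 14, 12, 19, 2, 5], .fnode 1670 [26, 0, 8, 3, 2, 1, 2, 3, 4, 8, 6, 21, 5, 2, 0], .fnode 1681 [25, 1, 10, 3, 1, 1, 2, 0, 7, 5, 7, 24, 1, 1, 5], .fnode 1704 [26, 2, 1, 10, 0, 3, 2, 4, 2, 11, 1, 18, 0, 7, 2], .fnode 1797 [27, 2, 4, 1, 1, 0, 5, 12, 0, 13, 1, 2, 1, 3, 5], .fnode 1802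 [30, 0, 1, 4, 1, 0, 10, 3, 0, 10, 5, 6, 6, 1, 1], .fnode 1840 [29, 1, 2, 2, 3, 0, 7, 3, 3, 5, 8, 6, 4, 1, 0], .fnode 1984 [30, 1, 0, 1, 2, 1, 5, 0, 1, 15, 1, 1, 0, 0, 0], .leafA 407901468851537952, .fnode 285 [0, 4, 8, 3, 0, 3, 8, 1, 1], .fnode 157 [0, 0, 4, 6, 2, 0], .fnode 158 [0, 0, 0, 1, 8, 3, 0], .fnode 167 [3, 4, 4, 4, 0], .fnode 171 [0, 2, 2, 6, 5, 0], .fnode 173 [0, 0, 1, 6, 2, 6, 0], .fnode 174 [0, 0, 0, 0, 4, 4, 7, 0], .fnode 179 [2, 0, 2, 0, 1, 2, 0, 9], .fnode 173 [0, 0, 1, 6, 2, 6, 0], .fnode 174 [0, 0, 0, 0, 4, 4, 7, 0], .fnode 179 [2, 0, 2, 0, 1, 2, 0, 9], .fnode 182 [0, 0, 2, 0, 2, 1, 1, 0, 10], .fnode 174 [0, 0, 0, 0, 4, 4, 7, 0], .fnode 171 [0, 2, 2, 6, 5, 0], .fnode 173 [0, 0, 1, 6, 2, 6, 0], .fnode 174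 [0, 0, 0, 0, 4, 4, 7, 0], .fnode 179 [2, 0, 2, 0, 1, 2, 0, 9], .fnode 182 [0, 0, 2, 0, 2, 1, 1, 0, 10], .fnode 185 [1, 1, 0, 2, 0, 2, 0, 1, 10], .fnode 188 [0, 0, 1, 0, 2, 0, 2, 0, 2, 10], .fnode 211 [3, 6, 0, 1, 2, 0, 6, 0, 0], .fnode 173 [0, 0, 1, 6, 2, 6, 0], .fnode 173 [0, 0, 1, 6, 2, 6, 0], .fnode 174 [0, 0, 0, 0, 4, 4, 7, 0], .fnode 158 [0, 0, 0, 1, 8, 3, 0], .fnode 167 [3, 4, 4, 4, 0], .fnode 171 [0, 2, 2, 6, 5, 0], .fnode 173 [0, 0, 1, 6, 2, 6, 0], .fnode 174 [0, 0, 0, 0, 4, 4, 7, 0], .fnode 179 [2, 0, 2, 0, 1, 2, 0, 9], .fnode 173 [0, 0, 1, 6, 2, 6, 0], .fnode 174 [0, 0, 0, 0, 4, 4, 7, 0], .fnode 179 [2, 0, 2, 0, 1, 2, 0, 9], .fnode 182 [0, 0, 2, 0, 2, 1, 1, 0, 10], .fnode 171 [0, 2, 2, 6, 5, 0], .fnode 173 [0,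 0, 1, 6, 2, 6, 0], .fnode 173 [0, 0, 1, 6, 2, 6, 0], .fnode 174 [0, 0, 0, 0, 4, 4, 7, 0], .fnode 179 [2, 0, 2, 0, 1, 2, 0, 9], .fnode 182 [0, 0, 2, 0, 2, 1, 1, 0, 10], .fnode 185 [1, 1, 0, 2, 0, 2, 0, 1, 10], .fnode 188 [0, 0, 1, 0, 2, 0, 2, 0, 2, 10], .fnode 211 [3, 6, 0, 1, 2, 0, 6, 0, 0], .fnode 173 [0, 0, 1, 6, 2, 6, 0], .fnode 174 [0, 0, 0, 0, 4, 4, 7, 0], .fnode 179 [2, 0, 2, 0, 1, 2, 0, 9], .fnode 182 [0, 0, 2, 0, 2, 1, 1, 0, 10], .fnode 182 [0, 0, 2, 0, 2, 1, 1, 0, 10], .fnode 109 [0, 0, 1, 2, 0], .fnode 110 [0, 0, 0, 0, 3, 0], .fnode 115 [2, 0, 2, 0, 1], .fnode 117 [0, 1, 1, 1, 1, 1], .fnode 118 [0, 0, 0, 2, 0, 2, 1], .fnode 117 [0, 1, 1, 1, 1, 1], .fnode 118 [0, 0, 0, 2, 0, 2, 1], .fnode 118 [0, 0, 0, 2, 0, 2,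 1], .fnode 121 [1, 0, 1, 0, 2, 0, 2], .fnode 122 [0, 0, 1, 0, 1, 1, 1, 2], .fnode 124 [0, 0, 0, 0, 1, 0, 2, 0, 3], .fnode 151 [3, 9, 0, 0], .fnode 155 [0, 2, 9, 1, 0], .fnode 157 [0, 0, 2, 8, 2, 0],
  .fnode 158 [0, 0, 0, 3, 6, 3, 0], .fnode 167 [3, 3, 5, 4, 0], .fnode 171 [0, 2, 3, 5, 5, 0], .fnode 173 [0, 0, 1, 4, 4, 6, 0], .fnode 174 [0, 0, 0, 0, 6, 2, 7, 0], .fnode 179 [2, 0, 2, 0, 2, 0, 1, 9], .fnode 181 [0, 1, 1, 1, 1, 2, 0, 0, 10], .fnode 173 [0, 0, 1, 4, 4, 6, 0], .fnode 174 [0, 0, 0, 0, 6, 2, 7, 0], .fnode 179 [2, 0, 2, 0, 2, 0, 1, 9], .fnode 181 [0, 1, 1, 1, 1, 2, 0, 0, 10], .fnode 186 [1, 0, 1, 1, 1, 2, 0, 0, 11], .fnode 188 [0, 0, 1, 0, 2, 0, 2, 1, 0, 11], .fnode 211 [3, 6, 0, 2, 0, 1, 6, 0, 0], .fnode 171 [0,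 2, 3, 5, 5, 0], .fnode 173 [0, 0, 1, 4, 4, 6, 0], .fnode 171 [0, 2, 3, 5, 5, 0], .fnode 173 [0, 0, 1, 4, 4, 6, 0], .fnode 174 [0, 0, 0, 0, 6, 2, 7, 0], .fnode 179 [2, 0, 2, 0, 2, 0, 1, 9], .fnode 173 [0, 0, 1, 4, 4, 6, 0], .fnode 174 [0, 0, 0, 0, 6, 2, 7, 0], .fnode 179 [2, 0, 2, 0, 2, 0, 1, 9], .fnode 157 [0, 0, 2, 8, 2, 0], .fnode 158 [0, 0, 0, 3, 6, 3, 0]]

/-- a piece of the data. -/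
def st4 : List Entry := [
  .fnode 158 [0, 0, 0, 3, 6, 3, 0], .fnode 167 [3, 3, 5, 4, 0], .fnode 171 [0, 2, 3, 5, 5, 0], .fnode 173 [0, 0, 1, 4, 4, 6, 0], .fnode 174 [0, 0, 0, 0, 6, 2, 7, 0], .fnode 179 [2, 0, 2, 0, 2, 0, 1, 9], .fnode 181 [0, 1, 1, 1, 1, 2, 0, 0, 10], .fnode 171 [0, 2, 3, 5, 5, 0], .fnode 173 [0, 0, 1, 4, 4, 6, 0], .fnode 174 [0, 0, 0, 0, 6, 2, 7, 0], .fnode 179 [2, 0, 2, 0, 2, 0, 1, 9], .fnode 181 [0, 1, 1, 1, 1, 2, 0, 0, 10], .fnode 186 [1, 0, 1, 1, 1, 2, 0, 0, 11], .fnode 188 [0, 0, 1, 0, 2, 0, 2, 1, 0, 11], .fnode 211 [3, 6, 0, 2, 0, 1, 6, 0, 0], .fnode 173 [0, 0, 1, 4, 4, 6, 0], .fnode 171 [0, 2, 3, 5, 5, 0], .fnode 173 [0, 0, 1, 4, 4, 6, 0], .fnode 174 [0, 0, 0, 0, 6, 2, 7, 0], .fnode 174 [0, 0,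 0, 0, 6, 2, 7, 0], .fnode 179 [2, 0, 2, 0, 2, 0, 1, 9], .fnode 173 [0, 0, 1, 4, 4, 6, 0], .fnode 174 [0, 0, 0, 0, 6, 2, 7, 0], .fnode 157 [0, 0, 2, 8, 2, 0], .fnode 158 [0, 0, 0, 3, 6, 3, 0], .fnode 167 [3, 3, 5, 4, 0], .fnode 171 [0, 2, 3, 5, 5, 0], .fnode 173 [0, 0, 1, 4, 4, 6, 0], .fnode 174 [0, 0, 0, 0, 6, 2, 7, 0], .fnode 179 [2, 0, 2, 0, 2, 0, 1, 9], .fnode 174 [0, 0, 0, 0, 6, 2, 7, 0], .fnode 173 [0, 0, 1, 4, 4, 6, 0], .fnode 174 [0, 0, 0, 0, 6, 2, 7, 0], .fnode 179 [2, 0, 2, 0, 2, 0, 1, 9], .fnode 174 [0, 0, 0, 0, 6, 2, 7, 0], .fnode 179 [2, 0, 2, 0, 2, 0, 1, 9], .fnode 171 [0, 2, 3, 5, 5, 0], .fnode 173 [0, 0, 1, 4, 4, 6, 0], .fnode 174 [0, 0, 0, 0, 6, 2, 7, 0], .fnode 179 [2, 0, 2, 0, 2, 0, 1, 9], .fnode 174 [0,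 0, 0, 0, 6, 2, 7, 0], .fnode 179 [2, 0, 2, 0, 2, 0, 1, 9], .fnode 173 [0, 0, 1, 4, 4, 6, 0], .fnode 174 [0, 0, 0, 0, 6, 2, 7, 0], .fnode 179 [2, 0, 2, 0, 2, 0, 1, 9], .fnode 181 [0, 1, 1, 1, 1, 2, 0, 0, 10], .fnode 171 [0, 2, 3, 5, 5, 0], .fnode 173 [0, 0, 1, 4, 4, 6, 0], .fnode 174 [0, 0, 0, 0, 6, 2, 7, 0], .fnode 174 [0, 0, 0, 0, 6, 2, 7, 0], .fnode 179 [2, 0, 2, 0, 2, 0, 1, 9], .fnode 173 [0, 0, 1, 4, 4, 6, 0], .fnode 174 [0, 0, 0, 0, 6, 2, 7, 0], .fnode 179 [2, 0, 2, 0, 2, 0, 1, 9], .fnode 181 [0, 1, 1, 1, 1, 2, 0, 0, 10], .fnode 173 [0, 0, 1, 4, 4, 6, 0], .fnode 174 [0, 0, 0, 0, 6, 2, 7, 0], .fnode 179 [2, 0, 2, 0, 2, 0, 1, 9], .fnode 181 [0, 1, 1, 1, 1, 2, 0, 0, 10], .fnode 186 [1, 0, 1, 1, 1, 2, 0, 0, 11], .fnode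 188 [0, 0, 1, 0, 2, 0, 2, 1, 0, 11], .fnode 211 [3, 6, 0, 2, 0, 1, 6, 0, 0], .fnode 155 [0, 2, 9, 1, 0], .fnode 157 [0, 0, 2, 8, 2, 0], .fnode 158 [0, 0, 0, 3, 6, 3, 0], .fnode 158 [0, 0, 0, 3, 6, 3, 0], .fnode 167 [3, 3, 5, 4, 0], .fnode 171 [0, 2, 3, 5, 5, 0], .fnode 173 [0, 0, 1, 4, 4, 6, 0], .fnode 174 [0, 0, 0, 0, 6, 2, 7, 0], .fnode 179 [2, 0, 2, 0, 2, 0, 1, 9], .fnode 181 [0, 1, 1, 1, 1, 2, 0, 0, 10], .fnode 186 [1, 0, 1, 1, 1, 2, 0, 0, 11], .fnode 188 [0, 0, 1, 0, 2, 0, 2, 1, 0, 11], .fnode 211 [3, 6, 0, 2, 0, 1, 6, 0, 0], .fnode 173 [0, 0, 1, 4, 4, 6, 0], .fnode 174 [0, 0, 0, 0, 6, 2, 7, 0], .fnode 179 [2, 0, 2, 0, 2, 0, 1, 9], .fnode 181 [0, 1, 1, 1, 1, 2, 0, 0, 10], .fnode 181 [0, 1, 1, 1, 1, 2, 0, 0, 10], .fnode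 171 [0, 2, 3, 5, 5, 0], .fnode 173 [0, 0, 1, 4, 4, 6, 0], .fnode 174 [0, 0, 0, 0, 6, 2, 7, 0],
  .fnode 179 [2, 0, 2, 0, 2, 0, 1, 9], .fnode 173 [0, 0, 1, 4, 4, 6, 0], .fnode 174 [0, 0, 0, 0, 6, 2, 7, 0], .fnode 179 [2, 0, 2, 0, 2, 0, 1, 9], .fnode 181 [0, 1, 1, 1, 1, 2, 0, 0, 10], .fnode 186 [1, 0, 1, 1, 1, 2, 0, 0, 11], .fnode 188 [0, 0, 1, 0, 2, 0, 2, 1, 0, 11], .fnode 211 [3, 6, 0, 2, 0, 1, 6, 0, 0], .fnode 213 [0, 2, 6, 1, 2, 0, 0, 6, 1, 0], .fnode 218 [1, 1, 6, 1, 2, 0, 0, 6, 1, 1], .fnode 220 [0, 0, 1, 7, 0, 2, 1, 0, 6, 0, 2], .fnode 227 [3, 3, 2, 0, 6, 0, 1, 2, 0, 4], .fnode 229 [0, 2, 3, 2, 1, 6, 0, 0, 2, 1, 4], .fnode 234 [1, 1, 3, 2, 1, 6, 0, 0, 2, 1, 5], .fnode 236 [0, 0, 1, 3, 3, 0, 6, 1, 0, 2, 0, 6], .fnode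 271 [12, 5, 8, 5, 0, 0], .fnode 285 [0, 4, 5, 6, 0, 8, 3, 1, 1]]

/-- a piece of the data. -/
def st5 : List Entry := [
  .fnode 285 [0, 4, 5, 6, 0, 8, 3, 1, 1], .fnode 286 [0, 0, 4, 7, 3, 1, 2, 8, 2, 1], .fnode 285 [0, 4, 5, 6, 0, 8, 3, 1, 1], .fnode 286 [0, 0, 4, 7, 3, 1, 2, 8, 2, 1], .fnode 295 [2, 3, 6, 1, 2, 11, 1, 3, 1], .fnode 299 [0, 2, 3, 8, 1, 3, 2, 5, 0, 6], .fnode 307 [0, 0, 6, 6, 0, 6, 2, 3, 7, 1], .fnode 310 [0, 1, 0, 12, 1, 8, 1, 9, 1], .fnode 313 [1, 0, 2, 11, 7, 2, 0, 4, 7], .fnode 316 [0, 0, 3, 0, 5, 3, 1, 1, 7, 0, 5, 7], .fnode 331 [4, 3, 3, 14, 2, 5, 0, 3, 0, 0], .fnode 334 [0, 6, 1, 4, 7, 8, 4, 0, 2, 2, 0], .fnode 345 [1, 1, 5, 5, 13, 2, 0, 4, 3, 0, 0], .fnode 358 [1, 3, 2, 6, 8, 8, 1, 2, 0, 1, 3],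 .fnode 369 [1, 3, 1, 8, 6, 10, 0, 1, 0, 1, 5], .fnode 372 [0, 0, 3, 1, 10, 5, 9, 0, 1, 0, 2, 5], .fnode 391 [11, 2, 3, 6, 1, 2, 2, 0, 13, 0], .fnode 397 [0, 13, 0, 4, 5, 1, 0, 3, 0, 8, 6], .fnode 406 [1, 8, 3, 6, 5, 1, 3, 1, 0, 3, 9], .fnode 425 [1, 8, 2, 7, 6, 1, 0, 0, 3, 3, 4], .fnode 434 [1, 10, 0, 8, 5, 0, 0, 0, 5, 2, 1], .fnode 440 [0, 0, 9, 0, 11, 3, 0, 0, 1, 5, 2, 0], .fnode 453 [4, 0, 17, 0, 0, 1, 3, 16, 5, 0], .fnode 454 [0, 3, 1, 2, 1, 13, 0, 7, 10, 9, 0], .fnode 457 [1, 2, 1, 4, 1, 12, 0, 13, 3, 4, 6], .fnode 458 [0, 0, 11, 0, 10, 1, 0, 0, 6, 5, 2, 12], .fnode 465 [1, 1, 7, 1, 14, 0, 1, 0, 2, 7, 3, 10], .fnode 466 [0, 0, 1, 2, 1, 20, 0, 0, 1, 10, 2, 1, 9], .fnode 484 [4, 0, 6, 1, 12, 1, 0, 0, 5, 1, 10, 3], .fnode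 488 [0, 2, 0, 2, 1, 18, 0, 1, 0, 7, 8, 0, 4], .fnode 496 [0, 0, 0, 0, 4, 0, 4, 0, 16, 0, 5, 10, 0, 0], .fnode 527 [14, 4, 5, 2, 0, 13, 2, 12, 2, 1, 0], .fnode 535 [0, 14, 8, 4, 7, 4, 4, 2, 9, 2, 0, 1], .fnode 558 [1, 19, 3, 1, 5, 10, 0, 2, 3, 5, 2, 5], .fnode 565 [1, 17, 6, 4, 7, 3, 0, 1, 6, 3, 4, 5], .fnode 569 [0, 12, 6, 5, 2, 2, 12, 1, 6, 1, 9, 2], .fnode 570 [0, 1, 11, 13, 1, 5, 7, 1, 4, 3, 0, 10, 2], .fnode 589 [5, 6, 12, 8, 7, 6, 6, 6, 1, 1, 0, 1], .fnode 598 [5, 4, 15, 3, 12, 9, 3, 2, 5, 0, 1, 0], .fnode 617 [1, 1, 10, 9, 8, 5, 11, 6, 1, 4, 0, 0, 2], .fnode 626 [1, 1, 8, 12, 6, 7, 9, 8, 0, 1, 1, 3, 2], .fnode 651 [9, 6, 7, 10, 5, 9, 1, 0, 1, 1, 13, 1], .fnode 665 [0, 5, 10, 2, 18, 7, 4, 1, 2, 0, 0, 3, 9], .fnode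 678 [9, 4, 11, 8, 7, 9, 0, 0, 1, 0, 6, 5], .fnode 692 [0, 8, 5, 6, 13, 12, 1, 1, 0, 1, 2, 3, 2], .fnode 707 [3, 13, 2, 7, 16, 1, 2, 0, 3, 17, 2, 1], .fnode 710 [0, 1, 4, 9, 0, 3, 6, 4, 11, 4, 9, 6, 5, 4], .fnode 716 [0, 8, 8, 3, 12, 10, 0, 2, 1, 6, 2, 3, 13], .fnode 728 [0, 4, 14, 2, 2, 21, 2, 0, 0, 9, 3, 1, 9], .fnode 737 [3, 5, 10, 3, 9, 14, 0, 0, 2, 4, 1, 8, 6], .fnode 752 [0, 0, 3, 3, 9, 1, 0, 5, 6, 14, 4, 4, 8, 1, 0], .fnode 787 [18, 4, 10, 1, 6, 0, 0, 2, 12, 6, 13, 0], .fnode 794 [0, 14, 8, 5, 9, 3, 1, 1, 0, 17, 1, 2, 10], .fnode 805 [18, 5, 11, 1, 6, 1, 0, 1, 11, 2, 13, 1], .fnode 812 [0, 19, 4, 6, 9, 1, 1, 1, 2, 13, 0, 6, 6], .fnode 835 [3, 5, 17, 2, 7, 1, 2, 0, 4, 7, 25, 2, 0], .fnode 837 [0, 1, 15, 8, 3, 1, 5,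 1, 2, 8, 7, 20, 1, 3], .fnode 852 [0, 17, 9, 0, 11, 0, 2, 3, 4, 5, 1, 13, 12], .fnode 856 [0, 4, 3, 20, 2, 2, 6, 1, 0, 8, 5, 15, 0, 10], .fnode 866 [3, 14, 11, 0, 12, 0, 1, 3, 1, 5, 1, 17, 7],
  .fnode 872 [0, 0, 3, 14, 9, 0, 3, 2, 6, 2, 5, 5, 18, 0, 5], .fnode 906 [8, 10, 13, 1, 0, 2, 4, 4, 5, 5, 10, 3, 1], .fnode 908 [0, 6, 6, 18, 3, 2, 3, 0, 4, 8, 5, 7, 0, 2], .fnode 913 [11, 8, 14, 0, 1, 2, 4, 1, 11, 7, 3, 0, 6], .fnode 916 [0, 0, 4, 12, 15, 0, 5, 2, 1, 8, 4, 5, 1, 3, 5], .fnode 929 [1, 9, 3, 20, 3, 2, 1, 2, 1, 8, 7, 6, 0, 1], .fnode 930 [0, 3, 1, 15, 14, 0, 5, 0, 3, 8, 1, 5, 1, 7, 0], .fnode 1051 [15, 8, 5, 4, 20, 1, 4, 7, 8, 3, 0, 5, 5, 0, 2], .fnode 1069 [13, 14, 4, 2, 13, 8, 3, 5, 5, 4, 0, 11, 0, 3, 3], .fnode 1078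 [25, 4, 1, 1, 13, 4, 7, 2, 0, 10, 10, 3, 1, 0, 8], .fnode 1095 [13, 10, 6, 6, 7, 12, 5, 5, 16, 5, 0, 2, 1, 1, 0], .fnode 1144 [12, 7, 10, 2, 6, 13, 6, 12, 2, 11, 0, 0, 2, 0, 4], .fnode 1166 [10, 13, 3, 11, 7, 5, 13, 7, 2, 3, 1, 1, 2, 6, 7], .fnode 1201 [7, 14, 7, 7, 7, 5, 11, 9, 5, 1, 0, 2, 4, 2, 2], .fnode 1225 [26, 1, 2, 2, 9, 2, 1, 6, 6, 11, 2, 8, 7, 8, 2], .fnode 1236 [10, 13, 2, 8, 11, 2, 7, 16, 1, 0, 0, 1, 10, 3, 7], .fnode 1250 [16, 8, 4, 1, 13, 5, 2, 20, 0, 0, 1, 8, 8, 1, 0], .fnode 1301 [12, 7, 4, 16, 7, 8, 1, 6, 3, 0, 0, 11, 8, 11, 1], .fnode 1322 [16, 1, 4, 17, 6, 8, 9, 1, 2, 0, 0, 14, 1, 6, 4], .fnode 1356 [20, 1, 1, 6, 17, 5, 5, 1, 3, 0, 6, 6, 21, 0, 3], .fnode 1362 [20, 0, 6, 12, 10, 0, 2, 2, 4, 4, 6, 7, 15,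 3, 7], .fnode 1377 [15, 5, 2, 16, 9, 2, 10, 0, 3, 1, 3, 5, 0, 21, 1], .fnode 1411 [16, 3, 9, 5, 18, 2, 2, 2, 0, 5, 5, 6, 10, 3, 0], .fnode 1432 [18, 2, 2, 15, 12, 2, 4, 0, 2, 8, 4, 6, 0, 2, 9], .fnode 1444 [18, 0, 9, 10, 13, 0, 4, 2, 2, 1, 10, 5, 5, 1, 1], .fnode 1564 [20, 5, 3, 6, 4, 3, 1, 1, 2, 27, 0, 9, 7, 3, 10], .fnode 1571 [20, 5, 7, 5, 1, 3, 2, 1, 2, 25, 0, 14, 2, 10, 3], .fnode 1610 [25, 1, 0, 10, 1, 5, 0, 1, 4, 19, 0, 10, 3, 20, 5], .fnode 1617 [29, 1, 4, 0, 4, 2, 2, 0, 3, 7, 11, 19, 18, 5, 0], .fnode 1636 [29, 2, 1, 3, 2, 3, 3, 0, 3, 5, 12, 16, 17, 5, 2], .fnode 1669 [24, 0, 7, 8, 1, 1, 0, 7, 2, 13, 0, 17, 3, 6, 5], .fnode 1682 [26, 2, 9, 0, 4, 1, 0, 3, 1, 8, 6, 24, 5, 4, 2], .fnode 1704 [26, 3, 6, 3, 2, 3, 0,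 2, 2, 6, 7, 21, 6, 4, 0], .fnode 1798 [28, 2, 1, 2, 1, 2, 7, 4, 6, 7, 6, 4, 3, 2, 0], .fnode 1801 [28, 3, 2, 1, 1, 2, 8, 2, 7, 6, 6, 6, 1, 2, 2], .fnode 1840 [29, 0, 4, 0, 3, 2, 0, 13, 1, 12, 0, 4, 0, 5, 0], .fnode 1984 [30, 0, 2, 1, 0, 1, 5, 2, 1, 15, 0, 0, 0, 1, 0], .leaf 261432332681054240, .fnode 157 [0, 0, 2, 8, 2, 0], .fnode 158 [0, 0, 0, 3, 6, 3, 0]]

/-- a piece of the data. -/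
def st6 : List Entry := [
  .fnode 167 [3, 3, 5, 4, 0], .fnode 171 [0, 2, 3, 5, 5, 0], .fnode 173 [0, 0, 1, 4, 4, 6, 0], .fnode 174 [0, 0, 0, 0, 6, 2, 7, 0], .fnode 179 [2, 0, 2, 0, 2, 0, 1, 9], .fnode 174 [0, 0, 0, 0, 6, 2, 7, 0], .fnode 173 [0, 0, 1, 4, 4, 6, 0], .fnode 174 [0, 0, 0, 0, 6, 2, 7, 0], .fnode 179 [2, 0, 2, 0, 2, 0, 1, 9], .fnode 181 [0, 1, 1, 1, 1, 2, 0, 0, 10], .fnode 174 [0, 0, 0, 0, 6, 2, 7, 0], .fnode 171 [0, 2, 3, 5, 5, 0], .fnode 173 [0, 0, 1, 4, 4, 6, 0], .fnode 174 [0, 0, 0, 0, 6, 2, 7, 0], .fnode 174 [0, 0, 0, 0, 6, 2, 7, 0], .fnode 173 [0, 0, 1, 4, 4, 6, 0], .fnode 174 [0, 0, 0, 0, 6, 2, 7, 0], .fnode 179 [2, 0, 2, 0, 2, 0, 1, 9], .fnode 181 [0, 1, 1, 1, 1, 2, 0, 0, 10], .fnode 186 [1, 0, 1, 1,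 1, 2, 0, 0, 11], .fnode 188 [0, 0, 1, 0, 2, 0, 2, 1, 0, 11], .fnode 211 [3, 6, 0, 2, 0, 1, 6, 0, 0], .fnode 173 [0, 0, 1, 4, 4, 6, 0], .fnode 174 [0, 0, 0, 0, 6, 2, 7, 0], .fnode 179 [2, 0, 2, 0, 2, 0, 1, 9], .fnode 181 [0, 1, 1, 1, 1, 2, 0, 0, 10], .fnode 181 [0, 1, 1, 1, 1, 2, 0, 0, 10], .fnode 158 [0, 0, 0, 3, 6, 3, 0], .fnode 167 [3, 3, 5, 4, 0], .fnode 171 [0, 2, 3, 5, 5, 0], .fnode 173 [0, 0, 1, 4, 4, 6, 0], .fnode 174 [0, 0, 0, 0, 6, 2, 7, 0], .fnode 179 [2, 0, 2, 0, 2, 0, 1, 9], .fnode 174 [0, 0, 0, 0, 6, 2, 7, 0], .fnode 173 [0, 0, 1, 4, 4, 6, 0], .fnode 174 [0, 0, 0, 0, 6, 2, 7, 0], .fnode 179 [2, 0, 2, 0, 2, 0, 1, 9], .fnode 181 [0, 1, 1, 1, 1, 2, 0, 0, 10], .fnode 171 [0, 2, 3, 5, 5, 0], .fnode 173 [0, 0, 1,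 4, 4, 6, 0], .fnode 174 [0, 0, 0, 0, 6, 2, 7, 0], .fnode 179 [2, 0, 2, 0, 2, 0, 1, 9], .fnode 181 [0, 1, 1, 1, 1, 2, 0, 0, 10], .fnode 186 [1, 0, 1, 1, 1, 2, 0, 0, 11], .fnode 188 [0, 0, 1, 0, 2, 0, 2, 1, 0, 11], .fnode 211 [3, 6, 0, 2, 0, 1, 6, 0, 0], .fnode 173 [0, 0, 1, 4, 4, 6, 0], .fnode 174 [0, 0, 0, 0, 6, 2, 7, 0], .fnode 173 [0, 0, 1, 4, 4, 6, 0], .fnode 155 [0, 2, 9, 1, 0], .fnode 157 [0, 0, 2, 8, 2, 0], .fnode 158 [0, 0, 0, 3, 6, 3, 0], .fnode 167 [3, 3, 5, 4, 0], .fnode 171 [0, 2, 3, 5, 5, 0], .fnode 173 [0, 0, 1, 4, 4, 6, 0], .fnode 174 [0, 0, 0, 0, 6, 2, 7, 0], .fnode 179 [2, 0, 2, 0, 2, 0, 1, 9], .fnode 174 [0, 0, 0, 0, 6, 2, 7, 0], .fnode 173 [0, 0, 1, 4, 4, 6, 0], .fnode 174 [0, 0, 0, 0, 6, 2, 7, 0], .fnode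 179 [2, 0, 2, 0, 2, 0, 1, 9], .fnode 181 [0, 1, 1, 1, 1, 2, 0, 0, 10], .fnode 186 [1, 0, 1, 1, 1, 2, 0, 0, 11], .fnode 188 [0, 0, 1, 0, 2, 0, 2, 1, 0, 11], .fnode 211 [3, 6, 0, 2, 0, 1, 6, 0, 0], .fnode 171 [0, 2, 3, 5, 5, 0], .fnode 173 [0, 0, 1, 4, 4, 6, 0], .fnode 174 [0, 0, 0, 0, 6, 2, 7, 0], .fnode 179 [2, 0, 2, 0, 2, 0, 1, 9], .fnode 157 [0, 0, 2, 8, 2, 0], .fnode 158 [0, 0, 0, 3, 6, 3, 0], .fnode 167 [3, 3, 5, 4, 0], .fnode 171 [0, 2, 3, 5, 5, 0], .fnode 173 [0, 0, 1, 4, 4, 6, 0], .fnode 174 [0, 0, 0, 0, 6, 2, 7, 0], .fnode 179 [2, 0, 2, 0, 2, 0, 1, 9], .fnode 174 [0, 0, 0, 0, 6, 2, 7, 0], .fnode 171 [0, 2, 3, 5, 5, 0], .fnode 173 [0, 0, 1, 4, 4, 6, 0], .fnode 174 [0, 0, 0, 0, 6, 2, 7, 0], .fnode 179 [2, 0, 2, 0,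 2, 0, 1, 9], .fnode 181 [0, 1, 1, 1, 1, 2, 0, 0, 10], .fnode 174 [0, 0, 0, 0, 6, 2, 7, 0],
  .fnode 173 [0, 0, 1, 4, 4, 6, 0], .fnode 174 [0, 0, 0, 0, 6, 2, 7, 0], .fnode 179 [2, 0, 2, 0, 2, 0, 1, 9], .fnode 181 [0, 1, 1, 1, 1, 2, 0, 0, 10], .fnode 186 [1, 0, 1, 1, 1, 2, 0, 0, 11], .fnode 188 [0, 0, 1, 0, 2, 0, 2, 1, 0, 11], .fnode 211 [3, 6, 0, 2, 0, 1, 6, 0, 0], .fnode 158 [0, 0, 0, 3, 6, 3, 0], .fnode 167 [3, 3, 5, 4, 0], .fnode 171 [0, 2, 3, 5, 5, 0], .fnode 173 [0, 0, 1, 4, 4, 6, 0], .fnode 174 [0, 0, 0, 0, 6, 2, 7, 0], .fnode 179 [2, 0, 2, 0, 2, 0, 1, 9], .fnode 174 [0, 0, 0, 0, 6, 2, 7, 0], .fnode 171 [0, 2, 3, 5, 5, 0], .fnode 173 [0, 0, 1, 4, 4, 6, 0], .fnode 174 [0, 0, 0, 0, 6, 2, 7, 0]]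

/-- a piece of the data. -/
def st7 : List Entry := [
  .fnode 179 [2, 0, 2, 0, 2, 0, 1, 9], .fnode 181 [0, 1, 1, 1, 1, 2, 0, 0, 10], .fnode 186 [1, 0, 1, 1, 1, 2, 0, 0, 11], .fnode 188 [0, 0, 1, 0, 2, 0, 2, 1, 0, 11], .fnode 211 [3, 6, 0, 2, 0, 1, 6, 0, 0], .fnode 173 [0, 0, 1, 4, 4, 6, 0], .fnode 174 [0, 0, 0, 0, 6, 2, 7, 0], .node 107, .fnode 109 [0, 0, 1, 2, 0], .fnode 110 [0, 0, 0, 0, 3, 0], .fnode 110 [0, 0, 0, 0, 3, 0], .fnode 115 [2, 0, 2, 0, 1], .fnode 117 [0, 1, 1, 1, 1, 1], .fnode 118 [0, 0, 0, 2, 0, 2, 1], .fnode 117 [0, 1, 1, 1, 1, 1], .fnode 118 [0, 0, 0, 2, 0, 2, 1], .fnode 118 [0, 0, 0, 2, 0, 2, 1], .fnode 121 [1, 0, 1, 0, 2, 0, 2], .fnode 122 [0, 0, 1, 0, 1, 1, 1, 2], .fnode 124 [0, 0, 0, 0, 1, 0, 2, 0,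 3], .fnode 151 [3, 9, 0, 0], .fnode 155 [0, 2, 9, 1, 0], .fnode 157 [0, 0, 2, 8, 2, 0], .fnode 158 [0, 0, 0, 3, 6, 3, 0], .fnode 167 [3, 3, 5, 4, 0], .fnode 171 [0, 2, 3, 5, 5, 0], .fnode 173 [0, 0, 1, 4, 4, 6, 0], .fnode 174 [0, 0, 0, 0, 6, 2, 7, 0], .fnode 179 [2, 0, 2, 0, 2, 0, 1, 9], .fnode 181 [0, 1, 1, 1, 1, 2, 0, 0, 10], .fnode 173 [0, 0, 1, 4, 4, 6, 0], .fnode 174 [0, 0, 0, 0, 6, 2, 7, 0], .fnode 179 [2, 0, 2, 0, 2, 0, 1, 9], .fnode 173 [0, 0, 1, 4, 4, 6, 0], .fnode 174 [0, 0, 0, 0, 6, 2, 7, 0], .fnode 174 [0, 0, 0, 0, 6, 2, 7, 0], .fnode 171 [0, 2, 3, 5, 5, 0], .fnode 173 [0, 0, 1, 4, 4, 6, 0], .fnode 174 [0, 0, 0, 0, 6, 2, 7, 0], .fnode 174 [0, 0, 0, 0, 6, 2, 7, 0], .fnode 179 [2, 0, 2, 0, 2, 0, 1, 9], .fnode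 181 [0, 1, 1, 1, 1, 2, 0, 0, 10], .fnode 186 [1, 0, 1, 1, 1, 2, 0, 0, 11], .fnode 188 [0, 0, 1, 0, 2, 0, 2, 1, 0, 11], .fnode 211 [3, 6, 0, 2, 0, 1, 6, 0, 0], .fnode 173 [0, 0, 1, 4, 4, 6, 0], .fnode 174 [0, 0, 0, 0, 6, 2, 7, 0], .fnode 174 [0, 0, 0, 0, 6, 2, 7, 0], .fnode 179 [2, 0, 2, 0, 2, 0, 1, 9], .fnode 157 [0, 0, 2, 8, 2, 0], .fnode 158 [0, 0, 0, 3, 6, 3, 0], .fnode 158 [0, 0, 0, 3, 6, 3, 0], .fnode 167 [3, 3, 5, 4, 0], .fnode 171 [0, 2, 3, 5, 5, 0], .fnode 173 [0, 0, 1, 4, 4, 6, 0], .fnode 174 [0, 0, 0, 0, 6, 2, 7, 0], .fnode 179 [2, 0, 2, 0, 2, 0, 1, 9], .fnode 173 [0, 0, 1, 4, 4, 6, 0], .fnode 174 [0, 0, 0, 0, 6, 2, 7, 0], .fnode 179 [2, 0, 2, 0, 2, 0, 1, 9], .fnode 174 [0, 0, 0, 0, 6, 2, 7, 0], .fnode 171 [0,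 2, 3, 5, 5, 0], .fnode 173 [0, 0, 1, 4, 4, 6, 0], .fnode 174 [0, 0, 0, 0, 6, 2, 7, 0], .fnode 179 [2, 0, 2, 0, 2, 0, 1, 9], .fnode 181 [0, 1, 1, 1, 1, 2, 0, 0, 10], .fnode 186 [1, 0, 1, 1, 1, 2, 0, 0, 11], .fnode 188 [0, 0, 1, 0, 2, 0, 2, 1, 0, 11], .fnode 211 [3, 6, 0, 2, 0, 1, 6, 0, 0], .fnode 174 [0, 0, 0, 0, 6, 2, 7, 0], .fnode 157 [0, 0, 2, 8, 2, 0], .fnode 158 [0, 0, 0, 3, 6, 3, 0], .fnode 167 [3, 3, 5, 4, 0], .fnode 171 [0, 2, 3, 5, 5, 0], .fnode 173 [0, 0, 1, 4, 4, 6, 0], .fnode 174 [0, 0, 0, 0, 6, 2, 7, 0], .fnode 179 [2, 0, 2, 0, 2, 0, 1, 9], .fnode 181 [0, 1, 1, 1, 1, 2, 0, 0, 10], .fnode 186 [1, 0, 1, 1, 1, 2, 0, 0, 11], .fnode 188 [0, 0, 1, 0, 2, 0, 2, 1, 0, 11], .fnode 211 [3, 6, 0, 2, 0, 1, 6, 0, 0], .fnode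 173 [0, 0, 1, 4, 4, 6, 0], .fnode 174 [0, 0, 0, 0, 6, 2, 7, 0], .fnode 179 [2, 0, 2, 0, 2, 0, 1, 9], .fnode 171 [0, 2, 3, 5, 5, 0],
  .fnode 173 [0, 0, 1, 4, 4, 6, 0], .fnode 174 [0, 0, 0, 0, 6, 2, 7, 0], .fnode 179 [2, 0, 2, 0, 2, 0, 1, 9], .fnode 181 [0, 1, 1, 1, 1, 2, 0, 0, 10], .fnode 181 [0, 1, 1, 1, 1, 2, 0, 0, 10], .fnode 173 [0, 0, 1, 4, 4, 6, 0], .fnode 174 [0, 0, 0, 0, 6, 2, 7, 0], .fnode 179 [2, 0, 2, 0, 2, 0, 1, 9], .fnode 181 [0, 1, 1, 1, 1, 2, 0, 0, 10], .fnode 186 [1, 0, 1, 1, 1, 2, 0, 0, 11], .fnode 188 [0, 0, 1, 0, 2, 0, 2, 1, 0, 11], .fnode 211 [3, 6, 0, 2, 0, 1, 6, 0, 0], .fnode 213 [0, 2, 6, 1, 2, 0, 0, 6, 1, 0], .fnode 218 [1, 1, 6, 1, 2, 0, 0, 6, 1, 1], .fnode 220 [0, 0, 1, 7, 0, 2, 1, 0, 6, 0, 2]]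

/-- a piece of the data. -/
def st8 : List Entry := [
  .fnode 227 [3, 3, 2, 0, 6, 0, 1, 2, 0, 4], .fnode 229 [0, 2, 3, 2, 1, 6, 0, 0, 2, 1, 4], .fnode 234 [1, 1, 3, 2, 1, 6, 0, 0, 2, 1, 5], .fnode 236 [0, 0, 1, 3, 3, 0, 6, 1, 0, 2, 0, 6], .fnode 271 [12, 4, 10, 4, 0, 0], .fnode 283 [0, 5, 5, 5, 0, 9, 3, 0, 1], .fnode 286 [0, 0, 5, 6, 3, 0, 2, 9, 2, 1], .fnode 283 [0, 5, 5, 5, 0, 9, 3, 0, 1], .fnode 283 [0, 5, 5, 5, 0, 9, 3, 0, 1], .fnode 286 [0, 0, 5, 6, 3, 0, 2, 9, 2, 1], .fnode 295 [2, 2, 8, 0, 2, 12, 0, 3, 1], .fnode 301 [0, 2, 2, 9, 0, 3, 2, 6, 0, 6], .fnode 309 [0, 0, 5, 7, 0, 5, 2, 3, 8, 1], .fnode 310 [0, 1, 0, 13, 0, 7, 2, 9, 1], .fnode 313 [1, 0, 2, 12, 5, 2, 1, 5, 6], .fnode 314 [0, 0, 3, 0, 6, 3, 1, 0, 7, 0,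 6, 6], .fnode 333 [4, 3, 2, 14, 2, 6, 0, 2, 1, 0], .fnode 334 [0, 6, 1, 5, 6, 7, 5, 1, 1, 2, 0], .fnode 345 [1, 1, 5, 6, 11, 2, 1, 5, 2, 0, 0], .fnode 358 [1, 3, 2, 5, 9, 7, 2, 2, 1, 0, 3], .fnode 369 [1, 3, 1, 7, 8, 8, 1, 1, 0, 2, 4], .fnode 370 [0, 0, 3, 1, 11, 5, 8, 0, 1, 1, 2, 4], .fnode 391 [11, 2, 2, 8, 0, 2, 1, 1, 13, 0], .fnode 395 [0, 13, 0, 5, 5, 0, 1, 2, 0, 9, 5], .fnode 406 [1, 8, 3, 7, 5, 0, 3, 0, 1, 3, 9], .fnode 425 [1, 8, 2, 6, 8, 0, 0, 0, 2, 4, 5], .fnode 436 [1, 10, 0, 7, 5, 1, 0, 0, 4, 2, 2], .fnode 440 [0, 0, 9, 0, 12, 2, 0, 1, 0, 4, 2, 1], .fnode 451 [4, 0, 17, 0, 1, 1, 3, 16, 4, 0], .fnode 454 [0, 3, 1, 2, 1, 12, 2, 6, 10, 9, 0], .fnode 457 [1, 2, 1, 4, 1, 11, 2, 11, 4, 5, 5], .fnode 460 [0, 0, 11,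 0, 9, 1, 1, 0, 6, 4, 2, 13], .fnode 465 [1, 1, 7, 1, 13, 2, 0, 0, 3, 5, 4, 10], .fnode 468 [0, 0, 1, 2, 1, 19, 1, 0, 0, 10, 2, 2, 9], .fnode 482 [4, 0, 6, 1, 13, 0, 0, 1, 5, 0, 10, 4], .fnode 488 [0, 2, 0, 2, 1, 18, 0, 0, 2, 6, 7, 1, 5], .fnode 496 [0, 0, 0, 0, 4, 0, 4, 0, 15, 2, 5, 8, 1, 0], .fnode 527 [13, 6, 5, 0, 1, 13, 5, 6, 5, 1, 0], .fnode 541 [0, 20, 1, 4, 6, 8, 3, 1, 4, 6, 0, 2], .fnode 555 [1, 13, 8, 3, 6, 5, 3, 0, 11, 1, 3, 2], .fnode 563 [0, 17, 6, 3, 6, 5, 1, 7, 4, 0, 6, 2], .fnode 566 [0, 13, 4, 7, 2, 0, 11, 9, 3, 0, 1, 8], .fnode 572 [0, 2, 11, 11, 4, 6, 3, 0, 3, 6, 3, 1, 8], .fnode 583 [5, 7, 12, 5, 6, 15, 4, 1, 2, 2, 0, 0], .fnode 598 [0, 1, 11, 7, 11, 6, 14, 3, 0, 1, 3, 1, 0], .fnode 617 [5, 3, 18, 1,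 10, 9, 8, 1, 1, 0, 0, 3], .fnode 632 [0, 2, 6, 13, 6, 11, 4, 10, 0, 0, 1, 1, 5], .fnode 654 [9, 7, 5, 13, 6, 4, 2, 0, 2, 2, 6, 7], .fnode 665 [9, 5, 8, 8, 11, 4, 3, 3, 0, 0, 2, 9], .fnode 678 [1, 5, 11, 2, 15, 6, 5, 2, 0, 1, 3, 3, 2], .fnode 689 [1, 7, 7, 5, 11, 10, 5, 0, 0, 1, 5, 2, 1], .fnode 709 [7, 10, 2, 12, 11, 0, 0, 1, 6, 5, 4, 9], .fnode 713 [0, 2, 2, 9, 2, 1, 6, 6, 12, 0, 8, 8, 9, 1], .fnode 714 [0, 4, 11, 5, 5, 17, 1, 0, 0, 3, 16, 5, 1], .fnode 722 [0, 8, 11, 2, 7, 17, 0, 0, 1, 1, 9, 3, 8], .fnode 740 [3, 1, 13, 5, 2, 19, 1, 0, 0, 8, 9, 0, 1], .fnode 752 [0, 0, 3, 3, 9, 0, 2, 5, 4, 17, 0, 4, 12, 0, 0], .fnode 787 [16, 7, 8, 1, 6, 3, 0, 0, 12, 7, 12, 0], .fnode 789 [0, 18, 5, 5, 9, 1, 1, 1, 0, 19, 1, 4, 8], .fnode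 810 [19, 3, 11, 1, 5, 0, 3, 0, 11, 2, 13, 1], .fnode 812 [0, 16, 6, 8, 9, 1, 2, 0, 0, 14, 0, 6, 5],
  .fnode 835 [3, 13, 10, 2, 0, 4, 1, 4, 5, 6, 24, 3, 0], .fnode 842 [0, 1, 5, 17, 5, 5, 1, 3, 0, 6, 7, 20, 1, 3], .fnode 852 [4, 13, 10, 0, 2, 2, 4, 4, 6, 6, 15, 3, 8], .fnode 856 [0, 0, 15, 10, 2, 10, 2, 1, 1, 4, 6, 0, 14, 11], .fnode 865 [3, 15, 9, 2, 10, 0, 3, 1, 3, 5, 0, 20, 3], .fnode 868 [0, 1, 2, 4, 19, 5, 2, 4, 1, 2, 5, 5, 17, 3, 1], .fnode 901 [8, 6, 18, 2, 2, 2, 0, 5, 5, 5, 10, 3, 1], .fnode 908 [0, 6, 12, 11, 3, 1, 2, 2, 6, 6, 6, 7, 0, 3], .fnode 914 [11, 2, 21, 2, 2, 1, 0, 1, 11, 7, 3, 1, 7], .fnode 920 [0, 0, 3, 15, 12, 2, 4, 0, 2, 8, 4, 6, 0, 3, 7], .fnode 929 [3, 1, 14, 14, 2, 5, 0, 1, 8, 3, 5, 0, 7, 1], .fnode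 930 [0, 1, 9, 9, 13, 0, 4, 2, 2, 1, 10, 6, 5, 1, 0], .fnode 1047 [14, 13, 3, 2, 14, 8, 4, 8, 2, 5, 2, 9, 1, 1, 1], .fnode 1070 [14, 9, 6, 4, 19, 3, 1, 4, 11, 1, 1, 4, 4, 2, 5], .fnode 1081 [26, 2, 2, 1, 12, 6, 5, 2, 2, 11, 3, 6, 0, 8, 3], .fnode 1099 [14, 7, 7, 7, 6, 12, 8, 8, 6, 6, 6, 0, 1, 0, 1], .fnode 1140 [10, 9, 11, 1, 8, 12, 6, 6, 9, 9, 0, 1, 0, 4, 1], .fnode 1165 [9, 16, 2, 10, 6, 7, 10, 4, 9, 2, 0, 1, 0, 13, 2], .fnode 1202 [9, 12, 6, 8, 5, 6, 13, 13, 1, 0, 0, 2, 1, 4, 1], .fnode 1222 [26, 1, 1, 4, 9, 0, 3, 6, 4, 10, 6, 8, 6, 5, 4], .fnode 1240 [16, 7, 2, 4, 14, 2, 2, 20, 3, 0, 1, 8, 4, 0, 8], .fnode 1249 [10, 14, 4, 5, 10, 3, 9, 13, 1, 0, 3, 2, 3, 7, 6], .fnode 1308 [14, 3, 5, 15, 8, 5, 9, 3, 1, 1, 0, 17, 0, 2,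 10], .fnode 1315 [12, 9, 1, 18, 5, 11, 1, 6, 1, 0, 1, 12, 2, 13, 0], .fnode 1349 [18, 4, 2, 6, 17, 2, 7, 1, 2, 0, 4, 6, 26, 1, 1], .fnode 1362 [16, 4, 2, 16, 9, 0, 11, 0, 2, 3, 4, 6, 1, 13, 11], .fnode 1384 [20, 1, 4, 13, 9, 0, 3, 2, 6, 2, 5, 4, 19, 0, 6], .fnode 1418 [18, 0, 8, 5, 18, 3, 2, 3, 0, 4, 8, 6, 6, 1, 1], .fnode 1425 [17, 1, 10, 9, 14, 0, 1, 2, 4, 1, 11, 8, 2, 0, 5], .fnode 1444 [18, 2, 1, 16, 14, 0, 5, 0, 3, 8, 1, 4, 1, 7, 1], .fnode 1562 [21, 4, 4, 5, 4, 3, 1, 1, 2, 27, 0, 10, 6, 4, 10], .fnode 1573 [20, 4, 7, 6, 1, 3, 2, 1, 2, 25, 0, 13, 2, 10, 4], .fnode 1612 [24, 1, 1, 10, 1, 5, 0, 1, 4, 19, 0, 9, 3, 21, 4], .fnode 1617 [29, 2, 2, 1, 4, 2, 2, 0, 3, 7, 11, 20, 16, 6, 0], .fnode 1634 [28, 4, 1, 2, 2, 3, 3,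 0, 3, 5, 12, 17, 17, 4, 2], .fnode 1667 [24, 1, 7, 7, 1, 1, 0, 7, 2, 13, 0, 18, 3, 6, 4], .fnode 1684 [27, 0, 9, 1, 4, 1, 0, 3, 1, 8, 6, 23, 5, 5, 2], .fnode 1704 [26, 2, 8, 2, 2, 3, 0, 2, 2, 6, 7, 20, 8, 3, 0], .fnode 1798 [29, 0, 1, 4, 1, 0, 8, 4, 6, 7, 6, 4, 3, 2, 0]]

/-- a piece of the data. -/
def st9 : List Entry := [
  .fnode 1801 [28, 2, 3, 2, 1, 0, 9, 2, 7, 6, 6, 6, 1, 2, 2], .fnode 1840 [29, 1, 2, 1, 4, 0, 1, 13, 1, 12, 0, 4, 0, 5, 0], .fnode 1984 [30, 1, 0, 1, 1, 2, 4, 2, 1, 15, 0, 0, 0, 1, 0], .leaf 226563453857400864, .fnode 155 [0, 2, 9, 1, 0], .fnode 157 [0, 0, 2, 8, 2, 0], .fnode 158 [0, 0, 0, 3, 6, 3, 0], .fnode 158 [0, 0, 0, 3, 6, 3, 0], .fnode 167 [3, 3, 5, 4, 0], .fnode 171 [0, 2, 3, 5, 5, 0], .fnode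 173 [0, 0, 1, 4, 4, 6, 0], .fnode 174 [0, 0, 0, 0, 6, 2, 7, 0], .fnode 179 [2, 0, 2, 0, 2, 0, 1, 9], .fnode 173 [0, 0, 1, 4, 4, 6, 0], .fnode 174 [0, 0, 0, 0, 6, 2, 7, 0], .fnode 179 [2, 0, 2, 0, 2, 0, 1, 9], .fnode 181 [0, 1, 1, 1, 1, 2, 0, 0, 10], .fnode 173 [0, 0, 1, 4, 4, 6, 0], .fnode 174 [0, 0, 0, 0, 6, 2, 7, 0], .fnode 179 [2, 0, 2, 0, 2, 0, 1, 9], .fnode 181 [0, 1, 1, 1, 1, 2, 0, 0, 10], .fnode 174 [0, 0, 0, 0, 6, 2, 7, 0], .fnode 171 [0, 2, 3, 5, 5, 0], .fnode 173 [0, 0, 1, 4, 4, 6, 0], .fnode 174 [0, 0, 0, 0, 6, 2, 7, 0], .fnode 179 [2, 0, 2, 0, 2, 0, 1, 9], .fnode 173 [0, 0, 1, 4, 4, 6, 0], .fnode 174 [0, 0, 0, 0, 6, 2, 7, 0], .fnode 179 [2, 0, 2, 0, 2, 0, 1, 9], .fnode 174 [0, 0, 0, 0, 6, 2, 7, 0], .fnode 179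 [2, 0, 2, 0, 2, 0, 1, 9], .fnode 171 [0, 2, 3, 5, 5, 0], .fnode 173 [0, 0, 1, 4, 4, 6, 0], .fnode 174 [0, 0, 0, 0, 6, 2, 7, 0], .fnode 179 [2, 0, 2, 0, 2, 0, 1, 9], .fnode 174 [0, 0, 0, 0, 6, 2, 7, 0], .fnode 179 [2, 0, 2, 0, 2, 0, 1, 9], .fnode 173 [0, 0, 1, 4, 4, 6, 0], .fnode 174 [0, 0, 0, 0, 6, 2, 7, 0], .fnode 174 [0, 0, 0, 0, 6, 2, 7, 0], .fnode 179 [2, 0, 2, 0, 2, 0, 1, 9], .fnode 181 [0, 1, 1, 1, 1, 2, 0, 0, 10], .fnode 186 [1, 0, 1, 1, 1, 2, 0, 0, 11], .fnode 188 [0, 0, 1, 0, 2, 0, 2, 1, 0, 11], .fnode 211 [3, 6, 0, 2, 0, 1, 6, 0, 0], .fnode 157 [0, 0, 2, 8, 2, 0], .fnode 158 [0, 0, 0, 3, 6, 3, 0], .fnode 167 [3, 3, 5, 4, 0], .fnode 171 [0, 2, 3, 5, 5, 0], .fnode 173 [0, 0, 1, 4, 4, 6, 0], .fnode 174 [0, 0, 0,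 0, 6, 2, 7, 0], .fnode 179 [2, 0, 2, 0, 2, 0, 1, 9], .fnode 173 [0, 0, 1, 4, 4, 6, 0], .fnode 174 [0, 0, 0, 0, 6, 2, 7, 0], .fnode 179 [2, 0, 2, 0, 2, 0, 1, 9], .fnode 181 [0, 1, 1, 1, 1, 2, 0, 0, 10], .fnode 186 [1, 0, 1, 1, 1, 2, 0, 0, 11], .fnode 188 [0, 0, 1, 0, 2, 0, 2, 1, 0, 11], .fnode 211 [3, 6, 0, 2, 0, 1, 6, 0, 0], .fnode 171 [0, 2, 3, 5, 5, 0], .fnode 173 [0, 0, 1, 4, 4, 6, 0], .fnode 171 [0, 2, 3, 5, 5, 0], .fnode 173 [0, 0, 1, 4, 4, 6, 0], .fnode 174 [0, 0, 0, 0, 6, 2, 7, 0], .fnode 179 [2, 0, 2, 0, 2, 0, 1, 9], .fnode 181 [0, 1, 1, 1, 1, 2, 0, 0, 10], .fnode 173 [0, 0, 1, 4, 4, 6, 0], .fnode 174 [0, 0, 0, 0, 6, 2, 7, 0], .fnode 179 [2, 0, 2, 0, 2, 0, 1, 9], .fnode 181 [0, 1, 1, 1, 1, 2, 0, 0, 10], .fnode 181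 [0, 1, 1, 1, 1, 2, 0, 0, 10], .fnode 158 [0, 0, 0, 3, 6, 3, 0], .fnode 167 [3, 3, 5, 4, 0], .fnode 171 [0, 2, 3, 5, 5, 0], .fnode 173 [0, 0, 1, 4, 4, 6, 0], .fnode 174 [0, 0, 0, 0, 6, 2, 7, 0], .fnode 179 [2, 0, 2, 0, 2, 0, 1, 9], .fnode 173 [0, 0, 1, 4, 4, 6, 0], .fnode 171 [0, 2, 3, 5, 5, 0], .fnode 173 [0, 0, 1, 4, 4, 6, 0], .fnode 174 [0, 0, 0, 0, 6, 2, 7, 0], .fnode 179 [2, 0, 2, 0, 2, 0, 1, 9],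
  .fnode 181 [0, 1, 1, 1, 1, 2, 0, 0, 10], .fnode 186 [1, 0, 1, 1, 1, 2, 0, 0, 11], .fnode 188 [0, 0, 1, 0, 2, 0, 2, 1, 0, 11], .fnode 211 [3, 6, 0, 2, 0, 1, 6, 0, 0], .fnode 171 [0, 2, 3, 5, 5, 0], .fnode 173 [0, 0, 1, 4, 4, 6, 0], .fnode 174 [0, 0, 0, 0, 6, 2, 7, 0], .fnode 179 [2, 0, 2, 0, 2, 0, 1, 9], .fnode 181 [0, 1, 1, 1, 1, 2, 0, 0, 10], .fnode 174 [0, 0, 0, 0, 6, 2, 7, 0], .fnode 173 [0, 0, 1, 4, 4, 6, 0], .fnode 174 [0, 0, 0, 0, 6, 2, 7, 0], .fnode 155 [0, 2, 9, 1, 0], .fnode 157 [0, 0, 2, 8, 2, 0], .fnode 158 [0, 0, 0, 3, 6, 3, 0], .fnode 167 [3, 3, 5, 4, 0], .fnode 171 [0, 2, 3, 5, 5, 0], .fnode 173 [0, 0, 1, 4, 4, 6, 0]]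

/-- a piece of the data. -/
def st10 : List Entry := [
  .fnode 174 [0, 0, 0, 0, 6, 2, 7, 0], .fnode 179 [2, 0, 2, 0, 2, 0, 1, 9], .fnode 181 [0, 1, 1, 1, 1, 2, 0, 0, 10], .fnode 173 [0, 0, 1, 4, 4, 6, 0], .fnode 173 [0, 0, 1, 4, 4, 6, 0], .fnode 174 [0, 0, 0, 0, 6, 2, 7, 0], .fnode 171 [0, 2, 3, 5, 5, 0], .fnode 173 [0, 0, 1, 4, 4, 6, 0], .fnode 174 [0, 0, 0, 0, 6, 2, 7, 0], .fnode 179 [2, 0, 2, 0, 2, 0, 1, 9], .fnode 173 [0, 0, 1, 4, 4, 6, 0], .fnode 174 [0, 0, 0, 0, 6, 2, 7, 0], .fnode 174 [0, 0, 0, 0, 6, 2, 7, 0], .fnode 179 [2, 0, 2, 0, 2, 0, 1, 9], .fnode 181 [0, 1, 1, 1, 1, 2, 0, 0, 10], .fnode 186 [1, 0, 1, 1, 1, 2, 0, 0, 11], .fnode 188 [0, 0, 1, 0, 2, 0, 2, 1, 0, 11], .fnode 211 [3, 6, 0, 2, 0, 1, 6, 0, 0], .fnode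 157 [0, 0, 2, 8, 2, 0], .fnode 158 [0, 0, 0, 3, 6, 3, 0], .fnode 167 [3, 3, 5, 4, 0], .fnode 171 [0, 2, 3, 5, 5, 0], .fnode 173 [0, 0, 1, 4, 4, 6, 0], .fnode 174 [0, 0, 0, 0, 6, 2, 7, 0], .fnode 179 [2, 0, 2, 0, 2, 0, 1, 9], .fnode 173 [0, 0, 1, 4, 4, 6, 0], .fnode 174 [0, 0, 0, 0, 6, 2, 7, 0], .fnode 179 [2, 0, 2, 0, 2, 0, 1, 9], .fnode 181 [0, 1, 1, 1, 1, 2, 0, 0, 10], .fnode 186 [1, 0, 1, 1, 1, 2, 0, 0, 11], .fnode 188 [0, 0, 1, 0, 2, 0, 2, 1, 0, 11], .fnode 211 [3, 6, 0, 2, 0, 1, 6, 0, 0], .fnode 174 [0, 0, 0, 0, 6, 2, 7, 0], .fnode 171 [0, 2, 3, 5, 5, 0], .fnode 173 [0, 0, 1, 4, 4, 6, 0], .fnode 174 [0, 0, 0, 0, 6, 2, 7, 0], .fnode 179 [2, 0, 2, 0, 2, 0, 1, 9], .fnode 181 [0, 1, 1, 1, 1, 2, 0, 0, 10], .fnode 158 [0,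 0, 0, 3, 6, 3, 0], .fnode 167 [3, 3, 5, 4, 0], .fnode 171 [0, 2, 3, 5, 5, 0], .fnode 173 [0, 0, 1, 4, 4, 6, 0], .fnode 174 [0, 0, 0, 0, 6, 2, 7, 0], .fnode 179 [2, 0, 2, 0, 2, 0, 1, 9], .fnode 173 [0, 0, 1, 4, 4, 6, 0], .fnode 174 [0, 0, 0, 0, 6, 2, 7, 0], .fnode 171 [0, 2, 3, 5, 5, 0], .fnode 173 [0, 0, 1, 4, 4, 6, 0], .fnode 174 [0, 0, 0, 0, 6, 2, 7, 0], .fnode 179 [2, 0, 2, 0, 2, 0, 1, 9], .fnode 181 [0, 1, 1, 1, 1, 2, 0, 0, 10], .fnode 186 [1, 0, 1, 1, 1, 2, 0, 0, 11], .fnode 188 [0, 0, 1, 0, 2, 0, 2, 1, 0, 11], .fnode 211 [3, 6, 0, 2, 0, 1, 6, 0, 0], .fnode 174 [0, 0, 0, 0, 6, 2, 7, 0], .fnode 109 [0, 0, 1, 2, 0], .fnode 110 [0, 0, 0, 0, 3, 0], .fnode 115 [2, 0, 2, 0, 1], .fnode 117 [0, 1, 1, 1, 1, 1], .fnode 118 [0,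 0, 0, 2, 0, 2, 1], .fnode 118 [0, 0, 0, 2, 0, 2, 1], .fnode 110 [0, 0, 0, 0, 3, 0], .fnode 115 [2, 0, 2, 0, 1], .fnode 117 [0, 1, 1, 1, 1, 1], .fnode 118 [0, 0, 0, 2, 0, 2, 1], .fnode 121 [1, 0, 1, 0, 2, 0, 2], .fnode 122 [0, 0, 1, 0, 1, 1, 1, 2], .fnode 124 [0, 0, 0, 0, 1, 0, 2, 0, 3], .fnode 151 [5, 7, 0, 0], .fnode 155 [0, 5, 6, 1, 0], .fnode 157 [0, 0, 0, 10, 2, 0], .fnode 158 [0, 0, 0, 0, 9, 3, 0], .fnode 167 [3, 5, 3, 4, 0], .fnode 171 [0, 2, 6, 2, 5, 0], .fnode 173 [0, 0, 1, 2, 6, 6, 0], .fnode 174 [0, 0, 0, 0, 3, 5, 7, 0], .fnode 181 [1, 1, 1, 1, 0, 3, 0, 9], .fnode 173 [0, 0, 1, 2, 6, 6, 0], .fnode 171 [0, 2, 6, 2, 5, 0], .fnode 173 [0, 0, 1, 2, 6, 6, 0], .fnode 174 [0, 0, 0, 0, 3, 5, 7, 0], .fnode 174 [0, 0, 0,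 0, 3, 5, 7, 0], .fnode 173 [0, 0, 1, 2, 6, 6, 0], .fnode 174 [0, 0, 0, 0, 3, 5, 7, 0], .fnode 181 [1, 1, 1, 1, 0, 3, 0, 9],
  .fnode 182 [0, 0, 2, 0, 2, 0, 2, 1, 9], .fnode 185 [1, 1, 0, 2, 0, 1, 1, 2, 9], .fnode 186 [0, 0, 1, 1, 1, 1, 1, 0, 3, 9], .fnode 213 [3, 5, 1, 0, 3, 0, 5, 1, 0], .fnode 157 [0, 0, 0, 10, 2, 0], .fnode 158 [0, 0, 0, 0, 9, 3, 0], .fnode 158 [0, 0, 0, 0, 9, 3, 0], .fnode 167 [3, 5, 3, 4, 0], .fnode 171 [0, 2, 6, 2, 5, 0], .fnode 173 [0, 0, 1, 2, 6, 6, 0], .fnode 174 [0, 0, 0, 0, 3, 5, 7, 0], .fnode 181 [1, 1, 1, 1, 0, 3, 0, 9], .fnode 171 [0, 2, 6, 2, 5, 0], .fnode 173 [0, 0, 1, 2, 6, 6, 0], .fnode 174 [0, 0, 0, 0, 3, 5, 7, 0]]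

/-- a piece of the data. -/
def st11 : List Entry := [
  .fnode 181 [1, 1, 1, 1, 0, 3, 0, 9], .fnode 182 [0, 0, 2, 0, 2, 0, 2, 1, 9], .fnode 185 [1, 1, 0, 2, 0, 1, 1, 2, 9], .fnode 186 [0, 0, 1, 1, 1, 1, 1, 0, 3, 9], .fnode 213 [3, 5, 1, 0, 3, 0, 5, 1, 0], .fnode 173 [0, 0, 1, 2, 6, 6, 0], .fnode 174 [0, 0, 0, 0, 3, 5, 7, 0], .fnode 181 [1, 1, 1, 1, 0, 3, 0, 9], .fnode 182 [0, 0, 2, 0, 2, 0, 2, 1, 9], .fnode 174 [0, 0, 0, 0, 3, 5, 7, 0], .fnode 157 [0, 0, 0, 10, 2, 0], .fnode 158 [0, 0, 0, 0, 9, 3, 0], .fnode 167 [3, 5, 3, 4, 0], .fnode 171 [0, 2, 6, 2, 5, 0], .fnode 173 [0, 0, 1, 2, 6, 6, 0], .fnode 174 [0, 0, 0, 0, 3, 5, 7, 0], .fnode 181 [1, 1, 1, 1, 0, 3, 0, 9], .fnode 174 [0, 0, 0, 0, 3, 5, 7, 0], .fnode 173 [0, 0,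 1, 2, 6, 6, 0], .fnode 174 [0, 0, 0, 0, 3, 5, 7, 0], .fnode 181 [1, 1, 1, 1, 0, 3, 0, 9], .fnode 182 [0, 0, 2, 0, 2, 0, 2, 1, 9], .fnode 185 [1, 1, 0, 2, 0, 1, 1, 2, 9], .fnode 186 [0, 0, 1, 1, 1, 1, 1, 0, 3, 9], .fnode 213 [3, 5, 1, 0, 3, 0, 5, 1, 0], .fnode 171 [0, 2, 6, 2, 5, 0], .fnode 173 [0, 0, 1, 2, 6, 6, 0], .fnode 174 [0, 0, 0, 0, 3, 5, 7, 0], .fnode 181 [1, 1, 1, 1, 0, 3, 0, 9], .fnode 173 [0, 0, 1, 2, 6, 6, 0], .fnode 174 [0, 0, 0, 0, 3, 5, 7, 0], .fnode 173 [0, 0, 1, 2, 6, 6, 0], .fnode 155 [0, 5, 6, 1, 0], .fnode 157 [0, 0, 0, 10, 2, 0], .fnode 158 [0, 0, 0, 0, 9, 3, 0], .fnode 158 [0, 0, 0, 0, 9, 3, 0], .fnode 167 [3, 5, 3, 4, 0], .fnode 171 [0, 2, 6, 2, 5, 0], .fnode 173 [0, 0, 1, 2, 6, 6, 0], .fnode 174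 [0, 0, 0, 0, 3, 5, 7, 0], .fnode 181 [1, 1, 1, 1, 0, 3, 0, 9], .fnode 182 [0, 0, 2, 0, 2, 0, 2, 1, 9], .fnode 173 [0, 0, 1, 2, 6, 6, 0], .fnode 171 [0, 2, 6, 2, 5, 0], .fnode 173 [0, 0, 1, 2, 6, 6, 0], .fnode 174 [0, 0, 0, 0, 3, 5, 7, 0], .fnode 181 [1, 1, 1, 1, 0, 3, 0, 9], .fnode 171 [0, 2, 6, 2, 5, 0], .fnode 173 [0, 0, 1, 2, 6, 6, 0], .fnode 174 [0, 0, 0, 0, 3, 5, 7, 0], .fnode 181 [1, 1, 1, 1, 0, 3, 0, 9], .fnode 182 [0, 0, 2, 0, 2, 0, 2, 1, 9], .fnode 185 [1, 1, 0, 2, 0, 1, 1, 2, 9], .fnode 186 [0, 0, 1, 1, 1, 1, 1, 0, 3, 9], .fnode 213 [3, 5, 1, 0, 3, 0, 5, 1, 0], .fnode 174 [0, 0, 0, 0, 3, 5, 7, 0], .fnode 173 [0, 0, 1, 2, 6, 6, 0], .fnode 174 [0, 0, 0, 0, 3, 5, 7, 0], .fnode 157 [0, 0, 0, 10, 2, 0], .fnode 158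 [0, 0, 0, 0, 9, 3, 0], .fnode 167 [3, 5, 3, 4, 0], .fnode 171 [0, 2, 6, 2, 5, 0], .fnode 173 [0, 0, 1, 2, 6, 6, 0], .fnode 174 [0, 0, 0, 0, 3, 5, 7, 0], .fnode 181 [1, 1, 1, 1, 0, 3, 0, 9], .fnode 182 [0, 0, 2, 0, 2, 0, 2, 1, 9], .fnode 174 [0, 0, 0, 0, 3, 5, 7, 0], .fnode 181 [1, 1, 1, 1, 0, 3, 0, 9], .fnode 182 [0, 0, 2, 0, 2, 0, 2, 1, 9], .fnode 185 [1, 1, 0, 2, 0, 1, 1, 2, 9], .fnode 186 [0, 0, 1, 1, 1, 1, 1, 0, 3, 9], .fnode 213 [3, 5, 1, 0, 3, 0, 5, 1, 0], .fnode 173 [0, 0, 1, 2, 6, 6, 0], .fnode 174 [0, 0, 0, 0, 3, 5, 7, 0], .fnode 171 [0, 2, 6, 2, 5, 0], .fnode 173 [0, 0, 1, 2, 6, 6, 0], .fnode 174 [0, 0, 0, 0, 3, 5, 7, 0], .fnode 181 [1, 1, 1, 1, 0, 3, 0, 9], .fnode 174 [0, 0, 0, 0, 3, 5, 7, 0], .fnode 181 [1,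 1, 1, 1, 0, 3, 0, 9], .fnode 173 [0, 0, 1, 2, 6, 6, 0], .fnode 174 [0, 0, 0, 0, 3, 5, 7, 0], .fnode 171 [0, 2, 6, 2, 5, 0],
  .fnode 173 [0, 0, 1, 2, 6, 6, 0], .fnode 174 [0, 0, 0, 0, 3, 5, 7, 0], .fnode 173 [0, 0, 1, 2, 6, 6, 0], .fnode 174 [0, 0, 0, 0, 3, 5, 7, 0], .fnode 173 [0, 0, 1, 2, 6, 6, 0], .fnode 158 [0, 0, 0, 0, 9, 3, 0], .fnode 167 [3, 5, 3, 4, 0], .fnode 171 [0, 2, 6, 2, 5, 0], .fnode 173 [0, 0, 1, 2, 6, 6, 0], .fnode 174 [0, 0, 0, 0, 3, 5, 7, 0], .fnode 181 [1, 1, 1, 1, 0, 3, 0, 9], .fnode 174 [0, 0, 0, 0, 3, 5, 7, 0], .fnode 181 [1, 1, 1, 1, 0, 3, 0, 9], .fnode 173 [0, 0, 1, 2, 6, 6, 0], .fnode 174 [0, 0, 0, 0, 3, 5, 7, 0], .fnode 181 [1, 1, 1, 1, 0, 3, 0, 9], .fnode 171 [0, 2, 6, 2, 5, 0]]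

/-- a piece of the data. -/
def st12 : List Entry := [
  .fnode 173 [0, 0, 1, 2, 6, 6, 0], .fnode 174 [0, 0, 0, 0, 3, 5, 7, 0], .fnode 181 [1, 1, 1, 1, 0, 3, 0, 9], .fnode 182 [0, 0, 2, 0, 2, 0, 2, 1, 9], .fnode 174 [0, 0, 0, 0, 3, 5, 7, 0], .fnode 181 [1, 1, 1, 1, 0, 3, 0, 9], .fnode 182 [0, 0, 2, 0, 2, 0, 2, 1, 9], .fnode 185 [1, 1, 0, 2, 0, 1, 1, 2, 9], .fnode 186 [0, 0, 1, 1, 1, 1, 1, 0, 3, 9], .fnode 213 [3, 5, 1, 0, 3, 0, 5, 1, 0], .fnode 173 [0, 0, 1, 2, 6, 6, 0], .fnode 174 [0, 0, 0, 0, 3, 5, 7, 0], .fnode 181 [1, 1, 1, 1, 0, 3, 0, 9], .fnode 174 [0, 0, 0, 0, 3, 5, 7, 0], .fnode 171 [0, 2, 6, 2, 5, 0], .fnode 173 [0, 0, 1, 2, 6, 6, 0], .fnode 174 [0, 0, 0, 0, 3, 5, 7, 0], .fnode 181 [1, 1, 1, 1, 0, 3, 0, 9], .fnode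 182 [0, 0, 2, 0, 2, 0, 2, 1, 9], .fnode 173 [0, 0, 1, 2, 6, 6, 0], .fnode 174 [0, 0, 0, 0, 3, 5, 7, 0], .fnode 181 [1, 1, 1, 1, 0, 3, 0, 9], .fnode 174 [0, 0, 0, 0, 3, 5, 7, 0], .fnode 173 [0, 0, 1, 2, 6, 6, 0], .fnode 174 [0, 0, 0, 0, 3, 5, 7, 0], .fnode 181 [1, 1, 1, 1, 0, 3, 0, 9], .fnode 155 [0, 5, 6, 1, 0], .fnode 157 [0, 0, 0, 10, 2, 0], .fnode 158 [0, 0, 0, 0, 9, 3, 0], .fnode 167 [3, 5, 3, 4, 0], .fnode 171 [0, 2, 6, 2, 5, 0], .fnode 173 [0, 0, 1, 2, 6, 6, 0], .fnode 174 [0, 0, 0, 0, 3, 5, 7, 0], .fnode 181 [1, 1, 1, 1, 0, 3, 0, 9], .fnode 174 [0, 0, 0, 0, 3, 5, 7, 0], .fnode 173 [0, 0, 1, 2, 6, 6, 0], .fnode 174 [0, 0, 0, 0, 3, 5, 7, 0], .fnode 181 [1, 1, 1, 1, 0, 3, 0, 9], .fnode 182 [0, 0, 2, 0, 2, 0, 2, 1, 9],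 .fnode 171 [0, 2, 6, 2, 5, 0], .fnode 173 [0, 0, 1, 2, 6, 6, 0], .fnode 174 [0, 0, 0, 0, 3, 5, 7, 0], .fnode 181 [1, 1, 1, 1, 0, 3, 0, 9], .fnode 182 [0, 0, 2, 0, 2, 0, 2, 1, 9], .fnode 185 [1, 1, 0, 2, 0, 1, 1, 2, 9], .fnode 186 [0, 0, 1, 1, 1, 1, 1, 0, 3, 9], .fnode 213 [3, 5, 1, 0, 3, 0, 5, 1, 0], .fnode 174 [0, 0, 0, 0, 3, 5, 7, 0], .fnode 157 [0, 0, 0, 10, 2, 0], .fnode 158 [0, 0, 0, 0, 9, 3, 0], .fnode 167 [3, 5, 3, 4, 0], .fnode 171 [0, 2, 6, 2, 5, 0], .fnode 173 [0, 0, 1, 2, 6, 6, 0], .fnode 174 [0, 0, 0, 0, 3, 5, 7, 0], .fnode 181 [1, 1, 1, 1, 0, 3, 0, 9], .fnode 182 [0, 0, 2, 0, 2, 0, 2, 1, 9], .fnode 185 [1, 1, 0, 2, 0, 1, 1, 2, 9], .fnode 186 [0, 0, 1, 1, 1, 1, 1, 0, 3, 9], .fnode 213 [3, 5, 1, 0, 3, 0, 5, 1,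 0], .fnode 174 [0, 0, 0, 0, 3, 5, 7, 0], .fnode 181 [1, 1, 1, 1, 0, 3, 0, 9], .fnode 182 [0, 0, 2, 0, 2, 0, 2, 1, 9], .fnode 182 [0, 0, 2, 0, 2, 0, 2, 1, 9], .fnode 171 [0, 2, 6, 2, 5, 0], .fnode 173 [0, 0, 1, 2, 6, 6, 0], .fnode 174 [0, 0, 0, 0, 3, 5, 7, 0], .fnode 181 [1, 1, 1, 1, 0, 3, 0, 9], .fnode 174 [0, 0, 0, 0, 3, 5, 7, 0], .fnode 181 [1, 1, 1, 1, 0, 3, 0, 9], .fnode 182 [0, 0, 2, 0, 2, 0, 2, 1, 9], .fnode 185 [1, 1, 0, 2, 0, 1, 1, 2, 9], .fnode 186 [0, 0, 1, 1, 1, 1, 1, 0, 3, 9], .fnode 213 [3, 5, 1, 0, 3, 0, 5, 1, 0], .fnode 214 [0, 2, 5, 2, 0, 2, 1, 4, 2, 0], .fnode 217 [1, 1, 7, 0, 1, 1, 2, 5, 0, 1], .fnode 218 [0, 0, 1, 7, 1, 1, 0, 3, 4, 1, 1], .fnode 229 [3, 3, 1, 1, 4, 3, 0, 1, 1, 4], .fnode 230 [0, 2, 3,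 1, 2, 4, 2, 1, 0, 2, 4], .fnode 233 [1, 1, 3, 3, 0, 5, 1, 2, 1, 0, 5], .fnode 234 [0, 0, 1, 3, 3, 1, 5, 0, 3, 0, 1, 5],
  .fnode 271 [14, 2, 8, 6, 0, 0], .fnode 283 [0, 4, 9, 2, 0, 3, 9, 0, 1], .fnode 286 [0, 0, 4, 5, 5, 0, 8, 3, 2, 1], .fnode 295 [2, 3, 6, 3, 0, 10, 2, 3, 1], .fnode 301 [0, 2, 3, 9, 0, 2, 4, 3, 0, 7], .fnode 307 [1, 1, 11, 3, 7, 2, 7, 1], .fnode 309 [0, 0, 0, 6, 6, 0, 5, 4, 1, 8, 1], .fnode 309 [0, 0, 0, 6, 6, 0, 5, 4, 1, 8, 1], .fnode 314 [1, 2, 0, 5, 3, 1, 3, 6, 0, 3, 8], .fnode 316 [0, 0, 1, 1, 12, 6, 2, 1, 3, 8], .fnode 331 [7, 0, 4, 9, 7, 3, 1, 3, 0, 0], .fnode 333 [0, 4, 3, 3, 13, 4, 3, 0, 3, 1, 0], .fnode 348 [0, 1, 5, 6, 12, 2, 1, 3, 3, 0, 1], .fnode 355 [2, 3, 1, 6, 10, 7, 2, 0, 1, 0, 3], .fnode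 370 [0, 4, 1, 9, 5, 10, 0, 0, 1, 0, 6], .fnode 372 [0, 1, 2, 1, 9, 6, 9, 1, 0, 0, 1, 6], .fnode 391 [11, 2, 3, 6, 3, 0, 1, 1, 13, 0], .fnode 398 [0, 12, 1, 4, 5, 1, 1, 1, 0, 8, 7], .fnode 403 [1, 9, 3, 5, 5, 3, 2, 0, 0, 5, 7], .fnode 428 [1, 7, 3, 7, 6, 1, 0, 0, 2, 2, 5]]

/-- a piece of the data. -/
def st13 : List Entry := [
  .fnode 433 [1, 10, 0, 8, 5, 0, 0, 2, 2, 4, 2], .fnode 440 [0, 0, 9, 0, 11, 3, 0, 0, 3, 2, 2, 1], .fnode 451 [3, 1, 2, 2, 12, 0, 9, 10, 7, 0], .fnode 454 [0, 4, 0, 17, 0, 0, 1, 3, 15, 6, 0], .fnode 457 [1, 10, 0, 10, 1, 0, 0, 8, 2, 4, 11], .fnode 460 [0, 0, 3, 1, 4, 0, 13, 0, 12, 2, 5, 7], .fnode 465 [1, 1, 1, 1, 20, 0, 0, 1, 9, 4, 2, 7], .fnode 468 [0, 0, 1, 7, 2, 14, 0, 1, 0, 2, 6, 2, 12], .fnode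 482 [4, 0, 7, 0, 12, 1, 0, 0, 5, 3, 10, 0], .fnode 488 [0, 2, 0, 2, 1, 18, 0, 1, 0, 9, 5, 1, 3], .fnode 496 [0, 0, 0, 0, 4, 0, 4, 0, 16, 0, 5, 9, 1, 2], .fnode 535 [12, 10, 5, 7, 7, 0, 2, 3, 8, 0, 1], .fnode 541 [0, 18, 4, 5, 7, 1, 6, 0, 9, 3, 0, 2], .fnode 555 [19, 4, 6, 0, 8, 4, 0, 11, 0, 3, 2], .fnode 558 [0, 13, 10, 6, 0, 11, 2, 0, 6, 2, 0, 7], .fnode 563 [1, 1, 12, 4, 4, 0, 0, 14, 5, 7, 1, 6, 2], .fnode 572 [1, 1, 12, 6, 2, 0, 0, 15, 6, 3, 2, 3, 7], .fnode 583 [5, 7, 9, 11, 7, 7, 7, 3, 1, 2, 0, 0], .fnode 590 [0, 2, 10, 10, 10, 0, 15, 6, 2, 0, 2, 1, 1], .fnode 625 [3, 4, 16, 5, 13, 1, 12, 0, 0, 0, 1, 4], .fnode 632 [0, 2, 5, 17, 3, 7, 8, 10, 0, 0, 0, 3, 4], .fnode 651 [7, 8, 5, 16, 0, 8, 4, 0, 0, 1, 13, 1], .fnode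 653 [0, 8, 7, 4, 17, 7, 1, 3, 1, 0, 0, 9, 6], .fnode 690 [7, 4, 11, 9, 7, 7, 0, 0, 4, 0, 6, 1], .fnode 692 [0, 6, 5, 10, 11, 13, 1, 0, 0, 3, 0, 3, 2], .fnode 707 [3, 3, 12, 0, 0, 3, 4, 12, 6, 7, 9, 6, 1], .fnode 716 [3, 3, 12, 0, 0, 3, 6, 11, 6, 8, 3, 6, 6], .fnode 722 [1, 1, 12, 6, 4, 17, 3, 1, 0, 8, 6, 1, 6], .fnode 728 [0, 0, 5, 9, 5, 11, 11, 3, 0, 1, 1, 6, 3, 11], .fnode 737 [3, 5, 8, 5, 10, 12, 0, 1, 3, 1, 5, 9, 1], .fnode 740 [0, 2, 1, 13, 6, 3, 18, 1, 0, 3, 7, 4, 2, 3], .fnode 790 [19, 7, 4, 5, 3, 0, 3, 1, 10, 5, 6, 9], .fnode 793 [19, 7, 5, 5, 3, 0, 4, 0, 9, 7, 4, 9], .fnode 806 [1, 16, 10, 3, 5, 4, 0, 2, 2, 10, 4, 7, 2], .fnode 809 [1, 18, 8, 4, 5, 4, 0, 1, 3, 9, 4, 7, 4], .fnode 837 [17, 12, 0, 9, 0, 0, 3, 5,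 3, 3, 19, 5], .fnode 842 [17, 13, 0, 9, 0, 1, 1, 6, 0, 3, 21, 5], .fnode 849 [1, 2, 12, 8, 3, 1, 5, 4, 0, 4, 13, 14, 9, 0], .fnode 850 [0, 0, 4, 3, 16, 6, 4, 3, 0, 0, 3, 11, 18, 8, 0], .fnode 868 [3, 1, 2, 19, 6, 3, 3, 1, 0, 4, 9, 19, 2, 0], .fnode 872 [0, 2, 1, 13, 9, 0, 4, 4, 5, 0, 3, 7, 21, 3, 0], .fnode 901 [5, 12, 17, 0, 3, 0, 1, 8, 5, 3, 3, 7, 1], .fnode 906 [5, 14, 16, 0, 3, 0, 0, 8, 6, 0, 3, 9, 1], .fnode 916 [1, 9, 6, 13, 2, 3, 3, 0, 5, 4, 13, 2, 5, 0], .fnode 920 [0, 0, 9, 3, 17, 5, 2, 1, 0, 5, 3, 11, 4, 6, 0], .fnode 929 [3, 6, 4, 18, 5, 3, 0, 0, 4, 5, 9, 5, 4, 0], .fnode 930 [0, 2, 8, 9, 12, 1, 4, 3, 0, 4, 4, 7, 9, 3, 0], .fnode 1039 [24, 3, 4, 1, 14, 5, 4, 1, 1, 12, 5, 10, 1, 2, 0], .fnode 1078 [14, 9, 6, 4,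 15, 8, 2, 8, 3, 0, 0, 8, 1, 5, 5], .fnode 1081 [16, 12, 2, 2, 11, 14, 0, 5, 7, 1, 6, 2, 0, 8, 3], .fnode 1107 [11, 12, 5, 7, 4, 15, 3, 11, 11, 2, 3, 3, 1, 0, 0], .fnode 1132 [10, 9, 11, 1, 10, 9, 9, 5, 10, 7, 0, 4, 0, 1, 1], .fnode 1180 [8, 14, 5, 5, 10, 3, 17, 8, 4, 0, 3, 0, 0, 1, 10], .fnode 1187 [7, 19, 1, 9, 4, 11, 9, 6, 9, 0, 1, 0, 2, 6, 3],
  .fnode 1221 [18, 4, 4, 2, 15, 0, 8, 16, 1, 2, 0, 3, 17, 1, 2], .fnode 1226 [12, 13, 2, 6, 9, 2, 14, 9, 0, 2, 1, 5, 5, 2, 12], .fnode 1264 [25, 1, 4, 3, 8, 1, 1, 4, 5, 15, 4, 4, 8, 0, 3], .fnode 1301 [13, 7, 2, 20, 4, 9, 0, 7, 0, 0, 1, 13, 5, 13, 1], .fnode 1322 [15, 1, 6, 19, 4, 6, 10, 1, 1, 0, 1, 14, 1, 6, 4], .fnode 1350 [20, 2, 1, 14, 9, 2, 1, 6, 0, 4, 6, 8, 19, 2, 3], .fnode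 1368 [19, 1, 5, 3, 21, 0, 3, 5, 2, 1, 6, 6, 16, 0, 8], .fnode 1377 [15, 4, 4, 15, 10, 1, 10, 1, 2, 3, 0, 5, 1, 18, 6], .fnode 1417 [16, 2, 9, 9, 15, 0, 0, 2, 4, 5, 4, 5, 12, 2, 0], .fnode 1426 [19, 0, 3, 14, 14, 1, 4, 2, 1, 9, 2, 6, 1, 3, 7], .fnode 1444 [18, 1, 9, 2, 21, 2, 3, 1, 2, 0, 9, 7, 6, 0, 0], .fnode 1562 [22, 3, 5, 3, 4, 4, 1, 2, 1, 22, 4, 18, 1, 2, 10], .fnode 1573 [20, 9, 1, 2, 7, 2, 2, 2, 1, 23, 1, 15, 3, 11, 1], .fnode 1609 [26, 4, 2, 3, 2, 2, 2, 0, 4, 8, 13, 10, 25, 3, 0], .fnode 1620 [24, 4, 2, 4, 1, 8, 0, 1, 4, 15, 2, 17, 0, 15, 7], .fnode 1634 [28, 1, 4, 2, 4, 1, 3, 0, 4, 4, 14, 12, 20, 1, 5], .fnode 1670 [26, 0, 8, 2, 4, 1, 0, 3, 6, 7, 6, 21, 5, 2, 0], .fnode 1681 [25, 1, 10, 3, 2, 1, 0, 2, 7, 4, 7, 24,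 1, 1, 6], .fnode 1704 [26, 2, 1, 9, 1, 4, 0, 5, 2, 11, 1, 18, 0, 7, 2], .fnode 1795 [27, 2, 3, 2, 1, 0, 6, 11, 1, 12, 1, 2, 2, 3, 4], .fnode 1804 [30, 0, 1, 4, 1, 0, 9, 3, 1, 10, 5, 6, 6, 1, 1], .fnode 1840 [29, 1, 2, 1, 4, 0, 8, 3, 2, 5, 8, 5, 6, 0, 0], .fnode 1984 [30, 1, 0, 1, 1, 2, 4, 1, 2, 14, 1, 1, 0, 0, 0], .leaf 368563212699928608, .fnode 283 [0, 4, 9, 2, 0, 3, 9, 0, 1], .fnode 286 [0, 0, 4, 5, 5, 0, 8, 3, 2, 1], .fnode 283 [0, 4, 9, 2, 0, 3, 9, 0, 1], .fnode 158 [0, 0, 0, 0, 9, 3, 0], .fnode 167 [3, 5, 3, 4, 0], .fnode 171 [0, 2, 6, 2, 5, 0], .fnode 173 [0, 0, 1, 2, 6, 6, 0], .fnode 174 [0, 0, 0, 0, 3, 5, 7, 0], .fnode 181 [1, 1, 1, 1, 0, 3, 0, 9], .fnode 174 [0, 0, 0, 0, 3, 5, 7, 0], .fnode 181 [1, 1, 1, 1, 0,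 3, 0, 9], .fnode 182 [0, 0, 2, 0, 2, 0, 2, 1, 9], .fnode 171 [0, 2, 6, 2, 5, 0], .fnode 173 [0, 0, 1, 2, 6, 6, 0], .fnode 174 [0, 0, 0, 0, 3, 5, 7, 0], .fnode 181 [1, 1, 1, 1, 0, 3, 0, 9], .fnode 182 [0, 0, 2, 0, 2, 0, 2, 1, 9], .fnode 185 [1, 1, 0, 2, 0, 1, 1, 2, 9], .fnode 186 [0, 0, 1, 1, 1, 1, 1, 0, 3, 9], .fnode 213 [3, 5, 1, 0, 3, 0, 5, 1, 0], .fnode 174 [0, 0, 0, 0, 3, 5, 7, 0], .fnode 181 [1, 1, 1, 1, 0, 3, 0, 9]]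

/-- a piece of the data. -/
def st14 : List Entry := [
  .fnode 182 [0, 0, 2, 0, 2, 0, 2, 1, 9], .fnode 182 [0, 0, 2, 0, 2, 0, 2, 1, 9], .node 107, .fnode 109 [0, 0, 1, 2, 0], .fnode 110 [0, 0, 0, 0, 3, 0], .fnode 115 [2, 0, 2, 0, 1], .fnode 117 [0, 1, 1, 1, 1, 1], .fnode 117 [0, 1, 1, 1, 1, 1], .fnode 118 [0, 0, 0, 2, 0, 2, 1], .fnode 121 [1, 0, 1, 0, 2, 0, 2], .fnode 122 [0, 0, 1, 0, 1, 1, 1, 2], .fnode 124 [0, 0, 0, 0, 1, 0, 2, 0, 3], .fnode 151 [4, 8, 0, 0], .fnode 155 [0, 1, 10, 1, 0], .fnode 157 [0, 0, 4, 6, 2, 0], .fnode 158 [0, 0, 0, 1, 8, 3, 0], .fnode 167 [3, 4, 4, 4, 0], .fnode 171 [0, 2, 2, 6, 5, 0], .fnode 173 [0, 0, 1, 6, 2, 6, 0], .fnode 174 [0, 0, 0, 0, 4, 4, 7, 0], .fnode 179 [2, 0, 2, 0, 1, 2, 0, 9],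 .fnode 182 [0, 0, 2, 0, 2, 1, 1, 0, 10], .fnode 173 [0, 0, 1, 6, 2, 6, 0], .fnode 173 [0, 0, 1, 6, 2, 6, 0], .fnode 174 [0, 0, 0, 0, 4, 4, 7, 0], .fnode 179 [2, 0, 2, 0, 1, 2, 0, 9], .fnode 171 [0, 2, 2, 6, 5, 0], .fnode 173 [0, 0, 1, 6, 2, 6, 0], .fnode 174 [0, 0, 0, 0, 4, 4, 7, 0], .fnode 179 [2, 0, 2, 0, 1, 2, 0, 9], .fnode 182 [0, 0, 2, 0, 2, 1, 1, 0, 10], .fnode 185 [1, 1, 0, 2, 0, 2, 0, 1, 10], .fnode 188 [0, 0, 1, 0, 2, 0, 2, 0, 2, 10], .fnode 211 [3, 6, 0, 1, 2, 0, 6, 0, 0], .fnode 173 [0, 0, 1, 6, 2, 6, 0], .fnode 174 [0, 0, 0, 0, 4, 4, 7, 0], .fnode 179 [2, 0, 2, 0, 1, 2, 0, 9], .fnode 157 [0, 0, 4, 6, 2, 0], .fnode 158 [0, 0, 0, 1, 8, 3, 0], .fnode 158 [0, 0, 0, 1, 8, 3, 0], .fnode 167 [3, 4, 4, 4, 0], .fnode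 171 [0, 2, 2, 6, 5, 0], .fnode 173 [0, 0, 1, 6, 2, 6, 0], .fnode 174 [0, 0, 0, 0, 4, 4, 7, 0], .fnode 179 [2, 0, 2, 0, 1, 2, 0, 9], .fnode 182 [0, 0, 2, 0, 2, 1, 1, 0, 10], .fnode 185 [1, 1, 0, 2, 0, 2, 0, 1, 10], .fnode 188 [0, 0, 1, 0, 2, 0, 2, 0, 2, 10], .fnode 211 [3, 6, 0, 1, 2, 0, 6, 0, 0], .fnode 173 [0, 0, 1, 6, 2, 6, 0], .fnode 174 [0, 0, 0, 0, 4, 4, 7, 0], .fnode 179 [2, 0, 2, 0, 1, 2, 0, 9], .fnode 171 [0, 2, 2, 6, 5, 0], .fnode 173 [0, 0, 1, 6, 2, 6, 0], .fnode 174 [0, 0, 0, 0, 4, 4, 7, 0], .fnode 179 [2, 0, 2, 0, 1, 2, 0, 9], .fnode 182 [0, 0, 2, 0, 2, 1, 1, 0, 10], .fnode 182 [0, 0, 2, 0, 2, 1, 1, 0, 10], .fnode 173 [0, 0, 1, 6, 2, 6, 0], .fnode 174 [0, 0, 0, 0, 4, 4, 7, 0], .fnode 179 [2, 0, 2, 0, 1, 2, 0,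 9], .fnode 182 [0, 0, 2, 0, 2, 1, 1, 0, 10], .fnode 185 [1, 1, 0, 2, 0, 2, 0, 1, 10], .fnode 188 [0, 0, 1, 0, 2, 0, 2, 0, 2, 10], .fnode 211 [3, 6, 0, 1, 2, 0, 6, 0, 0], .fnode 214 [0, 2, 5, 2, 1, 1, 0, 5, 2, 0], .fnode 217 [1, 1, 7, 0, 2, 0, 1, 6, 0, 1], .fnode 220 [0, 0, 1, 7, 0, 2, 0, 2, 5, 0, 2], .fnode 227 [3, 3, 2, 0, 5, 2, 0, 2, 0, 4], .fnode 230 [0, 2, 3, 1, 2, 5, 1, 0, 1, 2, 4], .fnode 233 [1, 1, 3, 3, 0, 6, 0, 1, 2, 0, 5], .fnode 236 [0, 0, 1, 3, 3, 0, 6, 0, 2, 1, 0, 6], .fnode 271 [13, 2, 11, 4, 0, 0], .fnode 283 [0, 5, 5, 4, 1, 9, 3, 0, 1], .fnode 285 [0, 0, 5, 7, 2, 0, 2, 10, 1, 1], .fnode 283 [0, 5, 5, 4, 1, 9, 3, 0, 1], .fnode 285 [0, 0, 5, 7, 2, 0, 2, 10, 1, 1], .fnode 295 [2, 2, 8, 1, 1, 12, 0, 3, 1], .fnode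 302 [0, 2, 2, 9, 0, 2, 3, 5, 1, 6], .fnode 309 [1, 0, 13, 1, 6, 3, 8, 1], .fnode 310 [0, 0, 0, 5, 7, 0, 4, 3, 2, 9, 1],
  .fnode 310 [0, 0, 0, 5, 7, 0, 4, 3, 2, 9, 1], .fnode 313 [1, 2, 0, 6, 3, 1, 1, 6, 1, 5, 6], .fnode 314 [0, 0, 1, 2, 12, 4, 3, 0, 6, 6], .fnode 333 [6, 1, 5, 7, 6, 6, 0, 2, 1, 0], .fnode 334 [0, 4, 3, 2, 13, 3, 5, 1, 1, 2, 0], .fnode 346 [0, 1, 6, 6, 10, 3, 0, 6, 1, 1, 0], .fnode 357 [2, 3, 1, 5, 10, 6, 3, 2, 0, 0, 3], .fnode 369 [0, 4, 1, 10, 5, 8, 1, 1, 0, 2, 4], .fnode 370 [0, 1, 2, 1, 8, 8, 8, 0, 1, 1, 2, 4], .fnode 391 [11, 2, 2, 8, 1, 1, 0, 2, 13, 0], .fnode 395 [0, 13, 0, 5, 5, 1, 0, 1, 1, 9, 5], .fnode 405 [1, 9, 2, 7, 5, 1, 2, 0, 1, 4, 8], .fnode 426 [1, 7, 3, 6, 8, 0, 0, 0, 1, 4, 6], .fnode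 436 [1, 10, 0, 7, 5, 1, 0, 1, 2, 3, 3], .fnode 440 [0, 0, 9, 0, 12, 2, 0, 1, 1, 2, 3, 0], .fnode 451 [4, 0, 17, 0, 1, 1, 3, 16, 4, 0], .fnode 453 [0, 3, 1, 2, 2, 11, 2, 7, 10, 8, 0], .fnode 458 [1, 2, 1, 4, 0, 12, 2, 10, 4, 6, 5], .fnode 460 [0, 0, 11, 0, 9, 1, 1, 0, 7, 2, 3, 13]]

/-- a piece of the data. -/
def st15 : List Entry := [
  .fnode 466 [1, 1, 6, 2, 13, 2, 0, 0, 3, 4, 4, 11], .fnode 468 [0, 0, 1, 2, 1, 19, 1, 0, 0, 9, 3, 3, 8], .fnode 481 [4, 0, 7, 0, 13, 0, 0, 1, 5, 1, 10, 3], .fnode 488 [0, 2, 0, 2, 1, 18, 0, 0, 2, 7, 6, 0, 6], .fnode 496 [0, 0, 0, 0, 4, 0, 4, 0, 15, 2, 5, 8, 0, 2], .fnode 527 [13, 5, 6, 0, 1, 12, 6, 7, 4, 1, 0], .fnode 542 [0, 19, 1, 5, 6, 7, 3, 2, 3, 6, 1, 2], .fnode 555 [1, 13, 7, 4, 6,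 5, 2, 1, 12, 0, 3, 2], .fnode 563 [0, 18, 4, 4, 6, 5, 1, 7, 3, 1, 6, 2], .fnode 565 [0, 13, 5, 7, 1, 0, 11, 9, 3, 0, 2, 7], .fnode 572 [0, 2, 11, 10, 5, 6, 3, 0, 2, 7, 2, 3, 7], .fnode 583 [5, 7, 11, 6, 6, 15, 3, 3, 1, 2, 0, 0], .fnode 597 [0, 1, 11, 8, 10, 6, 14, 3, 0, 2, 3, 0, 0], .fnode 618 [5, 3, 17, 1, 11, 8, 8, 1, 2, 0, 0, 3], .fnode 632 [0, 2, 6, 14, 4, 12, 4, 10, 0, 0, 0, 3, 4], .fnode 653 [9, 7, 5, 13, 6, 4, 2, 0, 3, 1, 7, 6], .fnode 666 [9, 5, 8, 7, 12, 4, 2, 3, 1, 0, 1, 10], .fnode 677 [1, 5, 11, 2, 15, 6, 5, 2, 0, 1, 3, 4, 2], .fnode 690 [1, 7, 7, 5, 10, 11, 5, 0, 0, 0, 6, 1, 1], .fnode 710 [7, 10, 2, 11, 12, 0, 0, 1, 5, 6, 3, 10], .fnode 713 [4, 11, 5, 5, 17, 1, 0, 0, 3, 17, 4, 1], .fnode 714 [0, 0, 2, 2, 9,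 2, 1, 6, 5, 13, 0, 7, 8, 10, 1], .fnode 721 [1, 7, 11, 2, 8, 16, 0, 0, 1, 1, 9, 4, 7], .fnode 740 [3, 1, 13, 5, 2, 19, 1, 0, 0, 7, 10, 0, 2], .fnode 752 [0, 0, 3, 3, 9, 0, 2, 5, 5, 16, 0, 4, 11, 1, 0], .fnode 787 [16, 7, 8, 2, 4, 4, 0, 0, 12, 7, 12, 0], .fnode 790 [0, 18, 5, 5, 8, 1, 1, 2, 0, 18, 2, 3, 9], .fnode 809 [19, 3, 11, 2, 4, 0, 3, 0, 11, 3, 13, 0], .fnode 812 [0, 16, 6, 8, 8, 1, 3, 0, 0, 14, 0, 6, 6], .fnode 835 [3, 13, 10, 2, 0, 4, 2, 2, 6, 6, 24, 3, 0], .fnode 841 [0, 1, 6, 16, 5, 5, 2, 2, 0, 6, 7, 21, 0, 3], .fnode 852 [4, 13, 10, 0, 2, 2, 5, 2, 7, 6, 15, 2, 9], .fnode 856 [0, 0, 15, 10, 2, 11, 1, 0, 1, 5, 6, 0, 14, 11], .fnode 866 [3, 15, 9, 2, 10, 0, 2, 1, 4, 5, 0, 19, 4], .fnode 868 [0, 1, 2, 4, 19, 5, 2,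 5, 0, 1, 6, 5, 17, 2, 3], .fnode 902 [8, 6, 18, 2, 2, 2, 0, 4, 6, 5, 9, 3, 2], .fnode 908 [0, 6, 12, 11, 3, 1, 2, 2, 5, 7, 6, 7, 0, 2], .fnode 913 [11, 2, 21, 2, 2, 1, 0, 2, 10, 7, 3, 1, 7], .fnode 920 [0, 0, 3, 15, 12, 2, 4, 0, 2, 7, 5, 6, 0, 3, 6], .fnode 929 [1, 9, 9, 13, 0, 4, 2, 2, 2, 9, 6, 5, 1, 1], .fnode 930 [0, 3, 1, 14, 14, 2, 5, 0, 1, 7, 4, 5, 0, 7, 0], .fnode 1047 [15, 13, 1, 2, 13, 10, 5, 6, 8, 2, 0, 5, 5, 1, 1], .fnode 1069 [13, 12, 5, 1, 19, 4, 6, 1, 6, 4, 1, 10, 0, 3, 3], .fnode 1082 [24, 3, 6, 0, 12, 6, 2, 0, 0, 14, 9, 2, 3, 0, 8], .fnode 1099 [13, 8, 9, 3, 10, 9, 10, 1, 16, 6, 0, 1, 2, 0, 1], .fnode 1140 [13, 7, 8, 4, 4, 16, 5, 12, 1, 11, 2, 0, 0, 0, 4], .fnode 1166 [10, 13, 5, 8, 6, 5, 17, 6, 1, 3, 2,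 0, 1, 7, 7], .fnode 1201 [7, 16, 3, 8, 4, 11, 9, 8, 6, 0, 1, 3, 2, 5, 0], .fnode 1221 [24, 0, 6, 3, 11, 1, 0, 3, 4, 13, 4, 8, 8, 6, 2], .fnode 1240 [10, 15, 0, 6, 9, 4, 12, 12, 2, 0, 0, 1, 9, 2, 9], .fnode 1250 [16, 9, 1, 2, 13, 7, 2, 19, 0, 0, 2, 8, 5, 3, 0], .fnode 1308 [12, 6, 2, 21, 6, 6, 5, 3, 0, 3, 1, 8, 7, 3, 10], .fnode 1315 [12, 5, 7, 17, 10, 2, 5, 4, 0, 2, 2, 11, 3, 9, 2],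
  .fnode 1350 [17, 1, 1, 19, 11, 2, 8, 0, 0, 3, 5, 2, 3, 19, 6], .fnode 1361 [22, 0, 4, 2, 17, 7, 3, 3, 0, 0, 3, 12, 19, 5, 1], .fnode 1384 [21, 2, 1, 13, 9, 0, 3, 5, 5, 0, 3, 8, 18, 5, 1], .fnode 1417 [16, 0, 7, 14, 15, 2, 2, 0, 0, 8, 6, 1, 3, 7, 4], .fnode 1426 [18, 2, 9, 6, 13, 3, 3, 2, 0, 5, 4, 12, 4, 4, 1], .fnode 1444 [18, 3, 6, 4, 18, 4, 4, 0, 0, 4, 5, 8, 5, 4, 1], .fnode 1561 [20, 7, 4, 2, 6, 0, 4, 1, 0, 23, 4, 11, 8, 12, 0], .fnode 1574 [24, 1, 4, 4, 4, 6, 1, 1, 0, 24, 2, 15, 2, 7, 2], .fnode 1612 [29, 0, 1, 4, 1, 5, 0, 2, 4, 6, 13, 14, 21, 0, 3], .fnode 1618 [28, 1, 5, 2, 0, 2, 3, 2, 4, 5, 13, 17, 16, 1, 6], .fnode 1633 [23, 5, 2, 6, 0, 7, 2, 1, 1, 18, 0, 13, 1, 21, 1], .fnode 1667 [24, 3, 9, 2, 0, 2, 2, 3, 3,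 10, 4, 19, 11, 2, 0], .fnode 1684 [26, 2, 3, 7, 0, 3, 2, 5, 2, 11, 1, 21, 1, 1, 10], .fnode 1704 [26, 0, 9, 4, 1, 2, 2, 0, 6, 3, 9, 19, 6, 0, 2], .fnode 1797 [27, 3, 3, 0, 1, 2, 9, 3, 1, 11, 4, 4, 8, 0, 1], .fnode 1802 [29, 2, 1, 2, 1, 2, 3, 13, 0, 12, 1, 4, 0, 1, 7], .fnode 1840 [29, 0, 4, 1, 2, 2, 6, 3, 4, 4, 9, 5, 4, 0, 0], .fnode 1984 [30, 0, 2, 1, 1, 0, 6, 0, 0, 16, 0, 2, 0, 1, 0], .leaf 300977228299208736, .fnode 283 [0, 5, 5, 4, 1, 9, 3, 0, 1], .fnode 157 [0, 0, 4, 6, 2, 0], .fnode 158 [0, 0, 0, 1, 8, 3, 0], .fnode 167 [3, 4, 4, 4, 0], .fnode 171 [0, 2, 2, 6, 5, 0], .fnode 173 [0, 0, 1, 6, 2, 6, 0], .fnode 174 [0, 0, 0, 0, 4, 4, 7, 0], .fnode 179 [2, 0, 2, 0, 1, 2, 0, 9], .fnode 174 [0, 0, 0, 0, 4, 4, 7, 0], .fnode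 173 [0, 0, 1, 6, 2, 6, 0], .fnode 174 [0, 0, 0, 0, 4, 4, 7, 0], .fnode 179 [2, 0, 2, 0, 1, 2, 0, 9], .fnode 171 [0, 2, 2, 6, 5, 0], .fnode 173 [0, 0, 1, 6, 2, 6, 0], .fnode 174 [0, 0, 0, 0, 4, 4, 7, 0], .fnode 179 [2, 0, 2, 0, 1, 2, 0, 9], .fnode 182 [0, 0, 2, 0, 2, 1, 1, 0, 10], .fnode 185 [1, 1, 0, 2, 0, 2, 0, 1, 10], .fnode 188 [0, 0, 1, 0, 2, 0, 2, 0, 2, 10], .fnode 211 [3, 6, 0, 1, 2, 0, 6, 0, 0], .fnode 155 [0, 1, 10, 1, 0], .fnode 157 [0, 0, 4, 6, 2, 0], .fnode 158 [0, 0, 0, 1, 8, 3, 0], .fnode 158 [0, 0, 0, 1, 8, 3, 0], .fnode 167 [3, 4, 4, 4, 0], .fnode 171 [0, 2, 2, 6, 5, 0], .fnode 173 [0, 0, 1, 6, 2, 6, 0], .fnode 174 [0, 0, 0, 0, 4, 4, 7, 0]]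

/-- a piece of the data. -/
def st16 : List Entry := [
  .fnode 179 [2, 0, 2, 0, 1, 2, 0, 9], .fnode 182 [0, 0, 2, 0, 2, 1, 1, 0, 10], .fnode 173 [0, 0, 1, 6, 2, 6, 0], .fnode 173 [0, 0, 1, 6, 2, 6, 0], .fnode 174 [0, 0, 0, 0, 4, 4, 7, 0], .fnode 171 [0, 2, 2, 6, 5, 0], .fnode 173 [0, 0, 1, 6, 2, 6, 0], .fnode 174 [0, 0, 0, 0, 4, 4, 7, 0], .fnode 179 [2, 0, 2, 0, 1, 2, 0, 9], .fnode 182 [0, 0, 2, 0, 2, 1, 1, 0, 10], .fnode 185 [1, 1, 0, 2, 0, 2, 0, 1, 10], .fnode 188 [0, 0, 1, 0, 2, 0, 2, 0, 2, 10], .fnode 211 [3, 6, 0, 1, 2, 0, 6, 0, 0], .fnode 173 [0, 0, 1, 6, 2, 6, 0], .fnode 174 [0, 0, 0, 0, 4, 4, 7, 0], .fnode 174 [0, 0, 0, 0, 4, 4, 7, 0], .fnode 179 [2, 0, 2, 0, 1, 2, 0, 9], .fnode 157 [0, 0, 4, 6, 2, 0], .fnode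 158 [0, 0, 0, 1, 8, 3, 0], .fnode 167 [3, 4, 4, 4, 0], .fnode 171 [0, 2, 2, 6, 5, 0], .fnode 173 [0, 0, 1, 6, 2, 6, 0], .fnode 174 [0, 0, 0, 0, 4, 4, 7, 0], .fnode 179 [2, 0, 2, 0, 1, 2, 0, 9], .fnode 174 [0, 0, 0, 0, 4, 4, 7, 0], .fnode 173 [0, 0, 1, 6, 2, 6, 0], .fnode 174 [0, 0, 0, 0, 4, 4, 7, 0], .fnode 171 [0, 2, 2, 6, 5, 0], .fnode 173 [0, 0, 1, 6, 2, 6, 0], .fnode 174 [0, 0, 0, 0, 4, 4, 7, 0], .fnode 179 [2, 0, 2, 0, 1, 2, 0, 9], .fnode 182 [0, 0, 2, 0, 2, 1, 1, 0, 10], .fnode 185 [1, 1, 0, 2, 0, 2, 0, 1, 10], .fnode 188 [0, 0, 1, 0, 2, 0, 2, 0, 2, 10], .fnode 211 [3, 6, 0, 1, 2, 0, 6, 0, 0], .fnode 158 [0, 0, 0, 1, 8, 3, 0], .fnode 167 [3, 4, 4, 4, 0], .fnode 171 [0, 2, 2, 6, 5, 0], .fnode 173 [0, 0, 1, 6, 2, 6,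 0], .fnode 174 [0, 0, 0, 0, 4, 4, 7, 0], .fnode 179 [2, 0, 2, 0, 1, 2, 0, 9], .fnode 174 [0, 0, 0, 0, 4, 4, 7, 0], .fnode 173 [0, 0, 1, 6, 2, 6, 0], .fnode 174 [0, 0, 0, 0, 4, 4, 7, 0], .fnode 179 [2, 0, 2, 0, 1, 2, 0, 9], .fnode 182 [0, 0, 2, 0, 2, 1, 1, 0, 10], .fnode 185 [1, 1, 0, 2, 0, 2, 0, 1, 10], .fnode 188 [0, 0, 1, 0, 2, 0, 2, 0, 2, 10], .fnode 211 [3, 6, 0, 1, 2, 0, 6, 0, 0], .fnode 171 [0, 2, 2, 6, 5, 0], .fnode 173 [0, 0, 1, 6, 2, 6, 0], .fnode 174 [0, 0, 0, 0, 4, 4, 7, 0], .fnode 179 [2, 0, 2, 0, 1, 2, 0, 9], .fnode 182 [0, 0, 2, 0, 2, 1, 1, 0, 10], .fnode 174 [0, 0, 0, 0, 4, 4, 7, 0], .fnode 155 [0, 1, 10, 1, 0], .fnode 157 [0, 0, 4, 6, 2, 0], .fnode 158 [0, 0, 0, 1, 8, 3, 0], .fnode 167 [3, 4, 4, 4, 0], .fnode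 171 [0, 2, 2, 6, 5, 0], .fnode 173 [0, 0, 1, 6, 2, 6, 0], .fnode 174 [0, 0, 0, 0, 4, 4, 7, 0], .fnode 179 [2, 0, 2, 0, 1, 2, 0, 9], .fnode 174 [0, 0, 0, 0, 4, 4, 7, 0], .fnode 173 [0, 0, 1, 6, 2, 6, 0], .fnode 174 [0, 0, 0, 0, 4, 4, 7, 0], .fnode 179 [2, 0, 2, 0, 1, 2, 0, 9], .fnode 182 [0, 0, 2, 0, 2, 1, 1, 0, 10], .fnode 173 [0, 0, 1, 6, 2, 6, 0], .fnode 174 [0, 0, 0, 0, 4, 4, 7, 0], .fnode 179 [2, 0, 2, 0, 1, 2, 0, 9], .fnode 182 [0, 0, 2, 0, 2, 1, 1, 0, 10], .fnode 171 [0, 2, 2, 6, 5, 0], .fnode 173 [0, 0, 1, 6, 2, 6, 0], .fnode 174 [0, 0, 0, 0, 4, 4, 7, 0], .fnode 179 [2, 0, 2, 0, 1, 2, 0, 9], .fnode 174 [0, 0, 0, 0, 4, 4, 7, 0], .fnode 179 [2, 0, 2, 0, 1, 2, 0, 9], .fnode 173 [0, 0, 1, 6, 2, 6, 0], .fnode 174 [0,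 0, 0, 0, 4, 4, 7, 0], .fnode 174 [0, 0, 0, 0, 4, 4, 7, 0], .fnode 179 [2, 0, 2, 0, 1, 2, 0, 9], .fnode 171 [0, 2, 2, 6, 5, 0],
  .fnode 173 [0, 0, 1, 6, 2, 6, 0], .fnode 174 [0, 0, 0, 0, 4, 4, 7, 0], .fnode 179 [2, 0, 2, 0, 1, 2, 0, 9], .fnode 174 [0, 0, 0, 0, 4, 4, 7, 0], .fnode 179 [2, 0, 2, 0, 1, 2, 0, 9], .fnode 173 [0, 0, 1, 6, 2, 6, 0], .fnode 174 [0, 0, 0, 0, 4, 4, 7, 0], .fnode 179 [2, 0, 2, 0, 1, 2, 0, 9], .fnode 182 [0, 0, 2, 0, 2, 1, 1, 0, 10], .fnode 185 [1, 1, 0, 2, 0, 2, 0, 1, 10], .fnode 188 [0, 0, 1, 0, 2, 0, 2, 0, 2, 10], .fnode 211 [3, 6, 0, 1, 2, 0, 6, 0, 0], .fnode 157 [0, 0, 4, 6, 2, 0], .fnode 158 [0, 0, 0, 1, 8, 3, 0], .fnode 167 [3, 4, 4, 4, 0], .fnode 171 [0, 2, 2, 6, 5, 0], .fnode 173 [0, 0, 1,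 6, 2, 6, 0]]

/-- a piece of the data. -/
def st17 : List Entry := [
  .fnode 174 [0, 0, 0, 0, 4, 4, 7, 0], .fnode 179 [2, 0, 2, 0, 1, 2, 0, 9], .fnode 174 [0, 0, 0, 0, 4, 4, 7, 0], .fnode 173 [0, 0, 1, 6, 2, 6, 0], .fnode 174 [0, 0, 0, 0, 4, 4, 7, 0], .fnode 171 [0, 2, 2, 6, 5, 0], .fnode 173 [0, 0, 1, 6, 2, 6, 0], .fnode 174 [0, 0, 0, 0, 4, 4, 7, 0], .fnode 179 [2, 0, 2, 0, 1, 2, 0, 9], .fnode 182 [0, 0, 2, 0, 2, 1, 1, 0, 10], .fnode 185 [1, 1, 0, 2, 0, 2, 0, 1, 10], .fnode 188 [0, 0, 1, 0, 2, 0, 2, 0, 2, 10], .fnode 211 [3, 6, 0, 1, 2, 0, 6, 0, 0], .fnode 171 [0, 2, 2, 6, 5, 0], .fnode 173 [0, 0, 1, 6, 2, 6, 0], .fnode 174 [0, 0, 0, 0, 4, 4, 7, 0], .fnode 179 [2, 0, 2, 0, 1, 2, 0, 9], .fnode 182 [0, 0, 2, 0, 2, 1, 1,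 0, 10], .fnode 173 [0, 0, 1, 6, 2, 6, 0], .fnode 158 [0, 0, 0, 1, 8, 3, 0], .fnode 167 [3, 4, 4, 4, 0], .fnode 171 [0, 2, 2, 6, 5, 0], .fnode 173 [0, 0, 1, 6, 2, 6, 0], .fnode 174 [0, 0, 0, 0, 4, 4, 7, 0], .fnode 179 [2, 0, 2, 0, 1, 2, 0, 9], .fnode 174 [0, 0, 0, 0, 4, 4, 7, 0], .fnode 173 [0, 0, 1, 6, 2, 6, 0], .fnode 174 [0, 0, 0, 0, 4, 4, 7, 0], .fnode 179 [2, 0, 2, 0, 1, 2, 0, 9], .fnode 182 [0, 0, 2, 0, 2, 1, 1, 0, 10], .fnode 185 [1, 1, 0, 2, 0, 2, 0, 1, 10], .fnode 188 [0, 0, 1, 0, 2, 0, 2, 0, 2, 10], .fnode 211 [3, 6, 0, 1, 2, 0, 6, 0, 0], .fnode 171 [0, 2, 2, 6, 5, 0], .fnode 173 [0, 0, 1, 6, 2, 6, 0], .fnode 174 [0, 0, 0, 0, 4, 4, 7, 0], .fnode 174 [0, 0, 0, 0, 4, 4, 7, 0], .fnode 171 [0, 2, 2, 6, 5, 0], .fnode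 173 [0, 0, 1, 6, 2, 6, 0], .fnode 174 [0, 0, 0, 0, 4, 4, 7, 0], .fnode 179 [2, 0, 2, 0, 1, 2, 0, 9], .fnode 182 [0, 0, 2, 0, 2, 1, 1, 0, 10], .fnode 174 [0, 0, 0, 0, 4, 4, 7, 0], .fnode 173 [0, 0, 1, 6, 2, 6, 0], .fnode 174 [0, 0, 0, 0, 4, 4, 7, 0], .fnode 179 [2, 0, 2, 0, 1, 2, 0, 9], .fnode 182 [0, 0, 2, 0, 2, 1, 1, 0, 10], .fnode 182 [0, 0, 2, 0, 2, 1, 1, 0, 10], .fnode 109 [0, 0, 1, 2, 0], .fnode 110 [0, 0, 0, 0, 3, 0], .fnode 115 [2, 0, 2, 0, 1], .fnode 117 [0, 1, 1, 1, 1, 1], .fnode 118 [0, 0, 0, 2, 0, 2, 1], .fnode 121 [1, 0, 1, 0, 2, 0, 2], .fnode 122 [0, 0, 1, 0, 1, 1, 1, 2], .fnode 124 [0, 0, 0, 0, 1, 0, 2, 0, 3], .fnode 151 [5, 7, 0, 0], .fnode 155 [0, 5, 6, 1, 0], .fnode 157 [0, 0, 0, 10, 2, 0], .fnode 158 [0,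 0, 0, 0, 9, 3, 0], .fnode 167 [3, 5, 3, 4, 0], .fnode 171 [0, 2, 6, 2, 5, 0], .fnode 173 [0, 0, 1, 2, 6, 6, 0], .fnode 174 [0, 0, 0, 0, 3, 5, 7, 0], .fnode 181 [1, 1, 1, 1, 0, 3, 0, 9], .fnode 173 [0, 0, 1, 2, 6, 6, 0], .fnode 174 [0, 0, 0, 0, 3, 5, 7, 0], .fnode 174 [0, 0, 0, 0, 3, 5, 7, 0], .fnode 171 [0, 2, 6, 2, 5, 0], .fnode 173 [0, 0, 1, 2, 6, 6, 0], .fnode 173 [0, 0, 1, 2, 6, 6, 0], .fnode 174 [0, 0, 0, 0, 3, 5, 7, 0], .fnode 181 [1, 1, 1, 1, 0, 3, 0, 9], .fnode 182 [0, 0, 2, 0, 2, 0, 2, 1, 9], .fnode 185 [1, 1, 0, 2, 0, 1, 1, 2, 9], .fnode 186 [0, 0, 1, 1, 1, 1, 1, 0, 3, 9], .fnode 213 [3, 5, 1, 0, 3, 0, 5, 1, 0], .fnode 157 [0, 0, 0, 10, 2, 0], .fnode 158 [0, 0, 0, 0, 9, 3, 0], .fnode 158 [0, 0, 0, 0, 9, 3, 0],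 .fnode 167 [3, 5, 3, 4, 0], .fnode 171 [0, 2, 6, 2, 5, 0], .fnode 173 [0, 0, 1, 2, 6, 6, 0], .fnode 174 [0, 0, 0, 0, 3, 5, 7, 0],
  .fnode 181 [1, 1, 1, 1, 0, 3, 0, 9], .fnode 173 [0, 0, 1, 2, 6, 6, 0], .fnode 174 [0, 0, 0, 0, 3, 5, 7, 0], .fnode 181 [1, 1, 1, 1, 0, 3, 0, 9], .fnode 182 [0, 0, 2, 0, 2, 0, 2, 1, 9], .fnode 185 [1, 1, 0, 2, 0, 1, 1, 2, 9], .fnode 186 [0, 0, 1, 1, 1, 1, 1, 0, 3, 9], .fnode 213 [3, 5, 1, 0, 3, 0, 5, 1, 0], .fnode 174 [0, 0, 0, 0, 3, 5, 7, 0], .fnode 171 [0, 2, 6, 2, 5, 0], .fnode 173 [0, 0, 1, 2, 6, 6, 0], .fnode 174 [0, 0, 0, 0, 3, 5, 7, 0], .fnode 181 [1, 1, 1, 1, 0, 3, 0, 9], .fnode 182 [0, 0, 2, 0, 2, 0, 2, 1, 9], .fnode 173 [0, 0, 1, 2, 6, 6, 0], .fnode 173 [0, 0, 1, 2, 6, 6, 0]]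

/-- a piece of the data. -/
def st18 : List Entry := [
  .fnode 174 [0, 0, 0, 0, 3, 5, 7, 0], .fnode 157 [0, 0, 0, 10, 2, 0], .fnode 158 [0, 0, 0, 0, 9, 3, 0], .fnode 167 [3, 5, 3, 4, 0], .fnode 171 [0, 2, 6, 2, 5, 0], .fnode 173 [0, 0, 1, 2, 6, 6, 0], .fnode 174 [0, 0, 0, 0, 3, 5, 7, 0], .fnode 181 [1, 1, 1, 1, 0, 3, 0, 9], .fnode 182 [0, 0, 2, 0, 2, 0, 2, 1, 9], .fnode 174 [0, 0, 0, 0, 3, 5, 7, 0], .fnode 171 [0, 2, 6, 2, 5, 0], .fnode 173 [0, 0, 1, 2, 6, 6, 0], .fnode 174 [0, 0, 0, 0, 3, 5, 7, 0], .fnode 181 [1, 1, 1, 1, 0, 3, 0, 9], .fnode 182 [0, 0, 2, 0, 2, 0, 2, 1, 9], .fnode 185 [1, 1, 0, 2, 0, 1, 1, 2, 9], .fnode 186 [0, 0, 1, 1, 1, 1, 1, 0, 3, 9], .fnode 213 [3, 5, 1, 0, 3, 0, 5, 1, 0], .fnode 174 [0, 0, 0, 0,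 3, 5, 7, 0], .fnode 173 [0, 0, 1, 2, 6, 6, 0], .fnode 174 [0, 0, 0, 0, 3, 5, 7, 0], .fnode 181 [1, 1, 1, 1, 0, 3, 0, 9], .fnode 155 [0, 5, 6, 1, 0], .fnode 157 [0, 0, 0, 10, 2, 0], .fnode 158 [0, 0, 0, 0, 9, 3, 0], .fnode 158 [0, 0, 0, 0, 9, 3, 0], .fnode 167 [3, 5, 3, 4, 0], .fnode 171 [0, 2, 6, 2, 5, 0], .fnode 173 [0, 0, 1, 2, 6, 6, 0], .fnode 174 [0, 0, 0, 0, 3, 5, 7, 0], .fnode 181 [1, 1, 1, 1, 0, 3, 0, 9], .fnode 173 [0, 0, 1, 2, 6, 6, 0], .fnode 174 [0, 0, 0, 0, 3, 5, 7, 0], .fnode 181 [1, 1, 1, 1, 0, 3, 0, 9], .fnode 174 [0, 0, 0, 0, 3, 5, 7, 0], .fnode 171 [0, 2, 6, 2, 5, 0], .fnode 173 [0, 0, 1, 2, 6, 6, 0], .fnode 174 [0, 0, 0, 0, 3, 5, 7, 0], .fnode 181 [1, 1, 1, 1, 0, 3, 0, 9], .fnode 182 [0, 0, 2, 0, 2, 0,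 2, 1, 9], .fnode 185 [1, 1, 0, 2, 0, 1, 1, 2, 9], .fnode 186 [0, 0, 1, 1, 1, 1, 1, 0, 3, 9], .fnode 213 [3, 5, 1, 0, 3, 0, 5, 1, 0], .fnode 157 [0, 0, 0, 10, 2, 0], .fnode 158 [0, 0, 0, 0, 9, 3, 0], .fnode 167 [3, 5, 3, 4, 0], .fnode 171 [0, 2, 6, 2, 5, 0], .fnode 173 [0, 0, 1, 2, 6, 6, 0], .fnode 174 [0, 0, 0, 0, 3, 5, 7, 0], .fnode 181 [1, 1, 1, 1, 0, 3, 0, 9], .fnode 182 [0, 0, 2, 0, 2, 0, 2, 1, 9], .fnode 174 [0, 0, 0, 0, 3, 5, 7, 0], .fnode 181 [1, 1, 1, 1, 0, 3, 0, 9], .fnode 171 [0, 2, 6, 2, 5, 0], .fnode 173 [0, 0, 1, 2, 6, 6, 0], .fnode 174 [0, 0, 0, 0, 3, 5, 7, 0], .fnode 181 [1, 1, 1, 1, 0, 3, 0, 9], .fnode 182 [0, 0, 2, 0, 2, 0, 2, 1, 9], .fnode 185 [1, 1, 0, 2, 0, 1, 1, 2, 9], .fnode 186 [0, 0, 1, 1, 1, 1,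 1, 0, 3, 9], .fnode 213 [3, 5, 1, 0, 3, 0, 5, 1, 0], .fnode 174 [0, 0, 0, 0, 3, 5, 7, 0], .fnode 181 [1, 1, 1, 1, 0, 3, 0, 9], .fnode 158 [0, 0, 0, 0, 9, 3, 0], .fnode 167 [3, 5, 3, 4, 0], .fnode 171 [0, 2, 6, 2, 5, 0], .fnode 173 [0, 0, 1, 2, 6, 6, 0], .fnode 174 [0, 0, 0, 0, 3, 5, 7, 0], .fnode 181 [1, 1, 1, 1, 0, 3, 0, 9], .fnode 182 [0, 0, 2, 0, 2, 0, 2, 1, 9], .fnode 185 [1, 1, 0, 2, 0, 1, 1, 2, 9], .fnode 186 [0, 0, 1, 1, 1, 1, 1, 0, 3, 9], .fnode 213 [3, 5, 1, 0, 3, 0, 5, 1, 0], .fnode 174 [0, 0, 0, 0, 3, 5, 7, 0], .fnode 181 [1, 1, 1, 1, 0, 3, 0, 9], .fnode 171 [0, 2, 6, 2, 5, 0], .fnode 173 [0, 0, 1, 2, 6, 6, 0], .fnode 174 [0, 0, 0, 0, 3, 5, 7, 0], .fnode 181 [1, 1, 1, 1, 0, 3, 0, 9], .fnode 182 [0, 0, 2, 0, 2,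 0, 2, 1, 9], .fnode 182 [0, 0, 2, 0, 2, 0, 2, 1, 9], .fnode 174 [0, 0, 0, 0, 3, 5, 7, 0], .fnode 181 [1, 1, 1, 1, 0, 3, 0, 9],
  .fnode 182 [0, 0, 2, 0, 2, 0, 2, 1, 9], .fnode 185 [1, 1, 0, 2, 0, 1, 1, 2, 9], .fnode 186 [0, 0, 1, 1, 1, 1, 1, 0, 3, 9], .fnode 213 [3, 5, 1, 0, 3, 0, 5, 1, 0], .fnode 214 [0, 2, 5, 2, 0, 2, 1, 4, 2, 0], .fnode 217 [1, 1, 7, 0, 1, 1, 2, 5, 0, 1], .fnode 218 [0, 0, 1, 7, 1, 1, 0, 3, 4, 1, 1], .fnode 229 [3, 3, 1, 1, 4, 3, 0, 1, 1, 4], .fnode 230 [0, 2, 3, 1, 2, 4, 2, 1, 0, 2, 4], .fnode 233 [1, 1, 3, 3, 0, 5, 1, 2, 1, 0, 5], .fnode 234 [0, 0, 1, 3, 3, 1, 5, 0, 3, 0, 1, 5], .fnode 271 [14, 1, 10, 5, 0, 0], .fnode 283 [0, 5, 8, 1, 1, 2, 10, 0, 1], .fnode 285 [0, 0, 5, 5, 4, 0, 9, 3, 1, 1], .fnode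 295 [2, 2, 8, 2, 0, 11, 1, 3, 1], .fnode 302 [0, 2, 2, 9, 1, 1, 4, 4, 0, 7], .fnode 307 [1, 1, 12, 2, 6, 3, 7, 1]]

/-- a piece of the data. -/
def st19 : List Entry := [
  .fnode 310 [0, 0, 0, 5, 7, 0, 4, 4, 1, 9, 1], .fnode 310 [0, 0, 0, 5, 7, 0, 4, 4, 1, 9, 1], .fnode 313 [1, 2, 0, 6, 3, 1, 2, 6, 0, 4, 7], .fnode 316 [0, 0, 1, 1, 13, 4, 3, 0, 5, 7], .fnode 331 [7, 0, 5, 8, 6, 5, 0, 3, 0, 0], .fnode 334 [0, 4, 3, 2, 13, 4, 4, 0, 2, 2, 0], .fnode 348 [0, 1, 5, 7, 10, 3, 0, 5, 2, 0, 1], .fnode 355 [2, 3, 1, 5, 11, 6, 3, 1, 0, 0, 3], .fnode 369 [0, 4, 1, 10, 5, 9, 0, 1, 0, 1, 5], .fnode 372 [0, 1, 2, 1, 8, 8, 8, 0, 1, 0, 2, 5], .fnode 391 [11, 2, 2, 8, 2, 0, 0, 2, 13, 0], .fnode 397 [0, 12, 1, 5, 5, 1, 0, 1, 0, 9, 6], .fnode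 403 [1, 9, 3, 6, 5, 2, 1, 1, 0, 5, 7], .fnode 428 [1, 7, 3, 6, 8, 0, 0, 0, 1, 3, 6], .fnode 434 [1, 10, 0, 7, 5, 1, 0, 2, 1, 4, 3], .fnode 440 [0, 0, 9, 0, 12, 2, 0, 1, 2, 1, 3, 0], .fnode 451 [3, 1, 2, 2, 11, 2, 8, 10, 7, 0], .fnode 453 [0, 4, 0, 17, 0, 1, 1, 3, 15, 5, 0], .fnode 458 [1, 10, 0, 9, 1, 1, 0, 8, 1, 4, 12], .fnode 460 [0, 0, 3, 1, 4, 0, 12, 2, 10, 3, 6, 6], .fnode 466 [1, 1, 1, 1, 19, 1, 0, 0, 9, 4, 3, 7], .fnode 468 [0, 0, 1, 7, 2, 13, 2, 0, 0, 3, 4, 3, 12], .fnode 481 [4, 0, 7, 0, 13, 0, 0, 1, 5, 2, 10, 1], .fnode 488 [0, 2, 0, 2, 1, 18, 0, 0, 2, 8, 5, 0, 5], .fnode 496 [0, 0, 0, 0, 4, 0, 4, 0, 15, 2, 5, 8, 0, 3], .fnode 535 [12, 10, 5, 6, 8, 1, 1, 4, 7, 0, 1], .fnode 542 [0, 18, 4, 5, 6, 1, 7, 0, 8, 3,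 1, 2], .fnode 555 [19, 4, 6, 1, 6, 5, 0, 10, 1, 3, 2], .fnode 557 [0, 13, 10, 6, 1, 11, 1, 1, 6, 1, 0, 7], .fnode 563 [1, 1, 12, 4, 4, 0, 0, 13, 6, 8, 0, 6, 2], .fnode 572 [1, 1, 12, 6, 2, 0, 0, 14, 8, 2, 3, 1, 8], .fnode 583 [5, 7, 9, 11, 6, 8, 8, 1, 2, 2, 0, 0], .fnode 589 [0, 2, 10, 10, 10, 1, 15, 6, 1, 0, 3, 0, 1], .fnode 626 [3, 4, 16, 5, 12, 1, 12, 1, 0, 0, 0, 5], .fnode 632 [0, 2, 5, 17, 3, 8, 6, 11, 0, 0, 1, 1, 5], .fnode 651 [7, 8, 5, 16, 1, 6, 5, 0, 1, 0, 13, 1], .fnode 654 [0, 8, 7, 4, 17, 6, 1, 3, 2, 0, 0, 8, 7], .fnode 689 [7, 4, 11, 9, 8, 6, 0, 1, 3, 1, 6, 0], .fnode 692 [0, 6, 5, 10, 11, 12, 1, 1, 0, 3, 1, 2, 3], .fnode 707 [3, 3, 12, 0, 0, 3, 4, 13, 4, 8, 9, 6, 1], .fnode 716 [3, 3, 12, 0, 0, 3, 6, 12, 4,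 10, 2, 5, 7], .fnode 721 [1, 1, 12, 6, 4, 18, 3, 0, 0, 9, 6, 0, 6], .fnode 728 [0, 0, 5, 9, 5, 11, 12, 2, 0, 0, 1, 8, 2, 11], .fnode 738 [3, 5, 8, 5, 10, 12, 0, 0, 3, 1, 6, 9, 0], .fnode 740 [0, 2, 1, 13, 6, 3, 19, 0, 0, 2, 8, 4, 3, 1], .fnode 789 [19, 7, 4, 5, 3, 0, 3, 1, 11, 5, 6, 8], .fnode 794 [19, 7, 5, 5, 3, 0, 4, 0, 8, 7, 4, 10], .fnode 805 [1, 16, 10, 3, 5, 4, 0, 2, 2, 11, 3, 8, 2], .fnode 810 [1, 18, 8, 4, 5, 4, 0, 1, 3, 8, 5, 6, 4], .fnode 838 [17, 12, 0, 9, 0, 0, 3, 5, 2, 3, 19, 6], .fnode 841 [17, 13, 0, 9, 0, 1, 1, 6, 1, 3, 21, 4], .fnode 849 [0, 4, 3, 16, 6, 4, 3, 0, 0, 3, 12, 18, 7, 0], .fnode 850 [0, 1, 2, 12, 8, 3, 1, 5, 4, 0, 4, 12, 14, 10, 0], .fnode 868 [3, 1, 2, 19, 6, 3, 3, 1, 0, 4, 8, 21, 1, 0], .fnode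 872 [0, 2, 1, 13, 9, 0, 4, 4, 5, 0, 3, 8, 19, 4, 0], .fnode 902 [5, 12, 17, 0, 3, 0, 1, 8, 5, 2, 3, 8, 0], .fnode 905 [5, 14, 16, 0, 3, 0, 0, 8, 6, 1, 3, 8, 2], .fnode 916 [1, 9, 6, 13, 2, 3, 3, 0, 5, 4, 12, 4, 4, 0],
  .fnode 920 [0, 0, 9, 3, 17, 5, 2, 1, 0, 5, 3, 12, 2, 7, 0], .fnode 929 [2, 8, 9, 12, 1, 4, 3, 0, 4, 4, 8, 9, 2, 0], .fnode 930 [0, 3, 6, 4, 18, 5, 3, 0, 0, 4, 5, 8, 5, 5, 0], .fnode 1039 [25, 3, 2, 1, 14, 5, 6, 1, 0, 12, 6, 8, 2, 2, 0], .fnode 1077 [16, 6, 8, 0, 19, 4, 4, 6, 5, 1, 7, 3, 0, 6, 3], .fnode 1082 [14, 13, 4, 2, 11, 10, 6, 5, 3, 0, 2, 8, 1, 4, 6], .fnode 1107 [11, 10, 9, 1, 12, 7, 11, 5, 14, 3, 1, 2, 2, 0, 0], .fnode 1132 [11, 12, 5, 5, 4, 17, 1, 11, 8, 7, 2, 2, 0, 0, 2], .fnode 1180 [7, 17, 1,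 11, 4, 9, 7, 12, 4, 2, 3, 0, 1, 0, 10], .fnode 1187 [7, 15, 7, 5, 12, 1, 15, 6, 5, 2, 1, 0, 3, 5, 2], .fnode 1222 [12, 11, 2, 8, 9, 4, 10, 12, 0, 0, 1, 5, 6, 3, 10], .fnode 1225 [18, 8, 0, 4, 11, 6, 4, 17, 1, 0, 0, 3, 18, 2, 2], .fnode 1264 [26, 1, 2, 3, 9, 0, 1, 6, 5, 16, 0, 4, 10, 2, 1], .fnode 1302 [15, 2, 6, 18, 4, 6, 8, 1, 1, 2, 1, 17, 2, 3, 9], .fnode 1321 [12, 8, 1, 19, 4, 11, 2, 4, 0, 3, 1, 10, 4, 12, 0], .fnode 1349 [19, 2, 4, 13, 9, 3, 0, 4, 2, 2, 6, 6, 23, 3, 1], .fnode 1368 [15, 5, 1, 15, 10, 1, 12, 1, 0, 1, 6, 5, 0, 15, 9], .fnode 1378 [21, 0, 3, 4, 19, 6, 1, 5, 0, 1, 6, 5, 18, 1, 4], .fnode 1418 [17, 2, 6, 12, 11, 4, 1, 1, 2, 5, 8, 5, 7, 1, 1], .fnode 1425 [17, 0, 12, 3, 19, 4, 1, 1, 0, 2, 11, 6, 3, 1, 7],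 .fnode 1444 [18, 3, 1, 14, 14, 1, 6, 0, 1, 7, 4, 5, 0, 7, 0], .fnode 1561 [20, 7, 4, 3, 5, 0, 4, 0, 1, 23, 5, 10, 7, 13, 0], .fnode 1574 [24, 1, 4, 4, 4, 6, 1, 0, 1, 24, 2, 15, 2, 7, 2], .fnode 1610 [28, 1, 1, 4, 2, 4, 0, 2, 4, 7, 12, 14, 21, 1, 3], .fnode 1620 [28, 0, 6, 3, 0, 1, 3, 2, 4, 4, 14, 17, 16, 0, 6], .fnode 1633 [23, 5, 2, 6, 1, 6, 2, 1, 0, 19, 0, 13, 1, 20, 3], .fnode 1669 [24, 3, 9, 3, 0, 1, 2, 3, 2, 10, 5, 19, 11, 1, 1], .fnode 1682 [26, 2, 2, 8, 1, 2, 2, 5, 2, 11, 1, 21, 1, 1, 10], .fnode 1704 [26, 0, 9, 4, 2, 1, 2, 0, 5, 4, 9, 19, 6, 0, 2], .fnode 1795 [27, 3, 2, 1, 1, 2, 9, 3, 1, 12, 3, 4, 8, 1, 0], .fnode 1804 [29, 2, 1, 2, 1, 2, 4, 11, 1, 12, 1, 4, 0, 1, 7], .fnode 1840 [29, 0, 4, 0, 3, 2, 6, 3, 4, 4,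 9, 5, 4, 0, 0], .fnode 1984 [30, 0, 2, 1, 0, 1, 6, 1, 0, 15, 0, 1, 2, 0, 0], .leaf 331304133036443680, .fnode 283 [0, 5, 8, 1, 1, 2, 10, 0, 1], .fnode 283 [0, 5, 8, 1, 1, 2, 10, 0, 1], .fnode 285 [0, 0, 5, 5, 4, 0, 9, 3, 1, 1], .fnode 155 [0, 5, 6, 1, 0], .fnode 157 [0, 0, 0, 10, 2, 0], .fnode 158 [0, 0, 0, 0, 9, 3, 0], .fnode 167 [3, 5, 3, 4, 0], .fnode 171 [0, 2, 6, 2, 5, 0]]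

/-- a piece of the data. -/
def st20 : List Entry := [
  .fnode 173 [0, 0, 1, 2, 6, 6, 0], .fnode 174 [0, 0, 0, 0, 3, 5, 7, 0], .fnode 181 [1, 1, 1, 1, 0, 3, 0, 9], .fnode 174 [0, 0, 0, 0, 3, 5, 7, 0], .fnode 173 [0, 0, 1, 2, 6, 6, 0], .fnode 174 [0, 0, 0, 0, 3, 5, 7, 0], .fnode 171 [0, 2, 6, 2, 5, 0], .fnode 173 [0, 0, 1, 2, 6, 6, 0], .fnode 174 [0, 0, 0, 0, 3, 5, 7, 0], .fnode 181 [1, 1, 1, 1, 0, 3, 0, 9], .fnode 182 [0, 0, 2, 0, 2, 0, 2, 1, 9], .fnode 171 [0, 2, 6, 2, 5, 0], .fnode 173 [0, 0, 1, 2, 6, 6, 0], .fnode 174 [0, 0, 0, 0, 3, 5, 7, 0], .fnode 181 [1, 1, 1, 1, 0, 3, 0, 9], .fnode 182 [0, 0, 2, 0, 2, 0, 2, 1, 9], .fnode 185 [1, 1, 0, 2, 0, 1, 1, 2, 9], .fnode 186 [0, 0, 1, 1, 1, 1, 1, 0, 3, 9], .fnode 213 [3,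 5, 1, 0, 3, 0, 5, 1, 0], .fnode 173 [0, 0, 1, 2, 6, 6, 0], .fnode 157 [0, 0, 0, 10, 2, 0], .fnode 158 [0, 0, 0, 0, 9, 3, 0], .fnode 167 [3, 5, 3, 4, 0], .fnode 171 [0, 2, 6, 2, 5, 0], .fnode 173 [0, 0, 1, 2, 6, 6, 0], .fnode 174 [0, 0, 0, 0, 3, 5, 7, 0], .fnode 181 [1, 1, 1, 1, 0, 3, 0, 9], .fnode 174 [0, 0, 0, 0, 3, 5, 7, 0], .fnode 181 [1, 1, 1, 1, 0, 3, 0, 9], .fnode 182 [0, 0, 2, 0, 2, 0, 2, 1, 9], .fnode 173 [0, 0, 1, 2, 6, 6, 0], .fnode 174 [0, 0, 0, 0, 3, 5, 7, 0], .fnode 181 [1, 1, 1, 1, 0, 3, 0, 9], .fnode 182 [0, 0, 2, 0, 2, 0, 2, 1, 9], .fnode 174 [0, 0, 0, 0, 3, 5, 7, 0], .fnode 171 [0, 2, 6, 2, 5, 0], .fnode 173 [0, 0, 1, 2, 6, 6, 0], .fnode 174 [0, 0, 0, 0, 3, 5, 7, 0], .fnode 181 [1, 1, 1, 1, 0, 3, 0, 9],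 .fnode 174 [0, 0, 0, 0, 3, 5, 7, 0], .fnode 181 [1, 1, 1, 1, 0, 3, 0, 9], .fnode 182 [0, 0, 2, 0, 2, 0, 2, 1, 9], .fnode 185 [1, 1, 0, 2, 0, 1, 1, 2, 9], .fnode 186 [0, 0, 1, 1, 1, 1, 1, 0, 3, 9], .fnode 213 [3, 5, 1, 0, 3, 0, 5, 1, 0], .fnode 173 [0, 0, 1, 2, 6, 6, 0], .fnode 174 [0, 0, 0, 0, 3, 5, 7, 0], .fnode 181 [1, 1, 1, 1, 0, 3, 0, 9], .fnode 171 [0, 2, 6, 2, 5, 0], .fnode 173 [0, 0, 1, 2, 6, 6, 0], .fnode 174 [0, 0, 0, 0, 3, 5, 7, 0], .fnode 181 [1, 1, 1, 1, 0, 3, 0, 9], .fnode 174 [0, 0, 0, 0, 3, 5, 7, 0], .fnode 173 [0, 0, 1, 2, 6, 6, 0], .fnode 174 [0, 0, 0, 0, 3, 5, 7, 0], .fnode 181 [1, 1, 1, 1, 0, 3, 0, 9], .fnode 173 [0, 0, 1, 2, 6, 6, 0], .fnode 174 [0, 0, 0, 0, 3, 5, 7, 0], .fnode 181 [1, 1, 1, 1, 0, 3,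 0, 9], .fnode 158 [0, 0, 0, 0, 9, 3, 0], .fnode 167 [3, 5, 3, 4, 0], .fnode 171 [0, 2, 6, 2, 5, 0], .fnode 173 [0, 0, 1, 2, 6, 6, 0], .fnode 174 [0, 0, 0, 0, 3, 5, 7, 0], .fnode 181 [1, 1, 1, 1, 0, 3, 0, 9], .fnode 174 [0, 0, 0, 0, 3, 5, 7, 0], .fnode 181 [1, 1, 1, 1, 0, 3, 0, 9], .fnode 182 [0, 0, 2, 0, 2, 0, 2, 1, 9], .fnode 185 [1, 1, 0, 2, 0, 1, 1, 2, 9], .fnode 186 [0, 0, 1, 1, 1, 1, 1, 0, 3, 9], .fnode 213 [3, 5, 1, 0, 3, 0, 5, 1, 0], .fnode 173 [0, 0, 1, 2, 6, 6, 0], .fnode 174 [0, 0, 0, 0, 3, 5, 7, 0], .fnode 171 [0, 2, 6, 2, 5, 0], .fnode 173 [0, 0, 1, 2, 6, 6, 0], .fnode 174 [0, 0, 0, 0, 3, 5, 7, 0], .fnode 181 [1, 1, 1, 1, 0, 3, 0, 9], .fnode 182 [0, 0, 2, 0, 2, 0, 2, 1, 9], .fnode 174 [0, 0, 0, 0, 3, 5, 7, 0],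 .fnode 181 [1, 1, 1, 1, 0, 3, 0, 9], .fnode 182 [0, 0, 2, 0, 2, 0, 2, 1, 9], .fnode 182 [0, 0, 2, 0, 2, 0, 2, 1, 9],
  .fnode 173 [0, 0, 1, 2, 6, 6, 0], .fnode 174 [0, 0, 0, 0, 3, 5, 7, 0], .fnode 171 [0, 2, 6, 2, 5, 0], .fnode 173 [0, 0, 1, 2, 6, 6, 0], .fnode 174 [0, 0, 0, 0, 3, 5, 7, 0], .fnode 173 [0, 0, 1, 2, 6, 6, 0], .fnode 174 [0, 0, 0, 0, 3, 5, 7, 0], .fnode 173 [0, 0, 1, 2, 6, 6, 0], .fnode 110 [0, 0, 0, 0, 3, 0], .fnode 115 [2, 0, 2, 0, 1], .fnode 117 [0, 1, 1, 1, 1, 1], .sym 372998571739416608 1117, .sym 406810753316784160 603, .sym 370817140669909024 603, .sym 407867383991076896 343, .sym 406742583595862048 343, .sym 370714886088525856 343, .sym 407900403699648544 207]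

/-- a piece of the data. -/
def st21 : List Entry := [
  .sym 407865253687298080 207, .sym 406739388140193824 207, .sym 370710625480968224 207, .sym 407901467811350560 63, .sym 407901433485166624 63, .sym 407900334007093280 63, .sym 407865149668558880 63, .sym 406739249795270688 63, .sym 370710452809861152 63]

/-- the certificate. -/
def stream : List Entry := st0 ++ st1 ++ st2 ++ st3 ++ st4 ++ st5 ++ st6 ++ st7 ++ st8 ++ st9 ++ st10 ++ st11 ++ st12 ++ st13 ++ st14 ++ st15 ++ st16 ++ st17 ++ st18 ++ st19 ++ st20 ++ st21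

set_option maxRecDepth 1000000 in
theorem c_ext : P.extras = subsK P.n (P.k - P.t) := by decide +kernel

set_option maxHeartbeats 0 in
set_option maxRecDepth 1000000 in
theorem c_run : (go P 135 [] stream).isSome = true := by decide +kernel

set_option maxRecDepth 1000000 in
theorem c_nodup : nd P.std = true := by decide +kernel

set_option maxRecDepth 1000000 in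
theorem c_lt : P.std.all (fun s => decide (s < 2 ^ P.n)) = true := by decide +kernel

theorem checked : Checked P 135 stream where
  le := by decide
  ext := c_ext
  run := c_run
  nodup := c_nodup
  lt := c_lt
  card := by decide +kernel
  pos := by decide +kernel

end Cfsg.Agent.Helper9.Steiner.D5612M
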