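import Mathlib
import Cfsg.Agent.Helper9.Steiner.AutSearch
import Cfsg.Agent.Helper9.Steiner.D5612M

set_option autoImplicit false

/-!
Certificate: an automorphism of the standard system of D5612M fixing the points of the mask 31 is trivial (generated).
-/

namespace Cfsg.Agent.Helper9.Steiner.A5612M

/-- a piece of the data. -/
def as0 : List AEntry := [
  .go, .go, .go, .go, .go, .go, .go, .dead 2978 2978, .dead 2978 1450, .dead 1953 2481, .dead 2536 745, .dead 2536 1260, .dead 996 2278, .dead 1260 366, .dead 1260 636, .dead 745 1131, .dead 1260 2157, .go, .go, .dead 952 377, .dead 2536 745, .dead 2536 1260, .dead 996 2278, .dead 1260 429, .dead 1260 686, .dead 745 1209, .dead 1260 2236, .go, .dead 1260 366, .dead 1260 429, .dead 745 811, .dead 1260 1340, .dead 2278 2343, .go, .dead 1260 636, .dead 1260 686, .dead 745 811, .dead 1260 1581, .dead 745 2617, .go, .dead 745 1131, .dead 745 1209, .dead 1260 1340, .dead 1260 1581, .dead 1260 3118, .go, .dead 1260 2157, .dead 1260 2236, .dead 2278 2343, .dead 745 2617, .dead 1260 3118, .dead 63 63, .dead 63 63, .dead 63 63, .dead 63 63, .dead 63 63,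 .dead 63 63]

/-- the certificate. -/
def astream : List AEntry := as0

/-- the order of the points. -/
def todo : List ℕ := [5, 6, 7, 8, 9, 10, 11]

set_option maxHeartbeats 0 in
set_option maxRecDepth 1000000 in
theorem a_run : (autGo D5612M.P todo (fun j => j) 31 31 astream).isSome = true := by decide +kernel

end Cfsg.Agent.Helper9.Steiner.A5612M
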