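import Mathlib
import Cfsg.Prelude.Def_Sporadic_a
import Cfsg.Agent.Helper9.Steiner.Basic

set_option autoImplicit false

/-!
Transport of the sets meeting every block in at most two points along an isomorphism of systems.
-/

namespace Cfsg.Agent.Helper9.Steiner

open Cfsg

theorem arc_image_iff {α β : Type*} [DecidableEq α] [DecidableEq β] (e : α ≃ β)
    (L : Set (Finset α)) (S : Finset α) :
    (∀ l' ∈ mapSys e L, (l' ∩ S.image e).card ≤ 2) ↔ ∀ l ∈ L, (l ∩ S).card ≤ 2 := by
  have key : ∀ l : Finset α, (l.image e ∩ S.image e).card = (l ∩ S).card := by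
    intro l
    rw [← Finset.image_inter _ _ e.injective, Finset.card_image_of_injective _ e.injective]
  constructor
  · intro h l hl
    rw [← key]
    exact h _ ⟨l, hl, rfl⟩
  · rintro h l' ⟨l, hl, rfl⟩
    simp only
    rw [key]
    exact h l hl

theorem arcs_image {α β : Type*} [DecidableEq α] [DecidableEq β] (e : α ≃ β)
    (L : Set (Finset α)) (k : ℕ) :
    (fun S : Finset α => S.image e) '' {S : Finset α | S.card = k ∧ ∀ l ∈ L, (l ∩ S).card ≤ 2} =
      {S : Finset β | S.card = k ∧ ∀ l ∈ mapSys e L, (l ∩ S).card ≤ 2} := by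
  ext S'
  constructor
  · rintro ⟨S, ⟨hc, hS⟩, rfl⟩
    refine ⟨by rw [Finset.card_image_of_injective _ e.injective]; exact hc, ?_⟩
    exact (arc_image_iff e L S).2 hS
  · rintro ⟨hc, hS'⟩
    have himg : (S'.image e.symm).image e = S' := by
      rw [Finset.image_image]; simp
    refine ⟨S'.image e.symm, ⟨?_, ?_⟩, himg⟩
    · rw [Finset.card_image_of_injective _ e.symm.injective]; exact hc
    · rw [← arc_image_iff e L, himg]; exact hS'

theorem ncard_arcs_congr {α β : Type*} [DecidableEq α] [DecidableEq β] (e : α ≃ β)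
    (L : Set (Finset α)) (k : ℕ) :
    {S : Finset α | S.card = k ∧ ∀ l ∈ L, (l ∩ S).card ≤ 2}.ncard =
      {S : Finset β | S.card = k ∧ ∀ l ∈ mapSys e L, (l ∩ S).card ≤ 2}.ncard := by
  rw [← arcs_image e L k, Set.ncard_image_of_injective _ (Finset.image_injective e.injective)]

end Cfsg.Agent.Helper9.Steiner
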