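import Mathlib
import Cfsg.Prelude.Def_Sporadic_a
import Cfsg.Agent.Helper9.Steiner.AutTrans
import Cfsg.Agent.Helper9.Steiner.AutSearch
import Cfsg.Agent.Helper9.Steiner.AutBound
import Cfsg.Agent.Helper9.Steiner.D4723M
import Cfsg.Agent.Helper9.Steiner.A4723M

set_option autoImplicit false

/-!
The automorphism group of the standard system S(4, 7, 23) of the search `D4723M` has at most
`23 · 22 · 21 · 20 · 48` elements.
-/

namespace Cfsg.Agent.Helper9.Steiner.Aut4723

open Cfsg Cfsg.Agent.Helper9.Steiner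

/-- the parameters. -/
abbrev P : Params := D4723M.P

theorem four_le : 4 ≤ P.n := by decide

/-- the standard tuple. -/
def x0 : Fin 4 ↪ Fin P.n := Fin.castLEEmb four_le

theorem x0_val (i : Fin 4) : (x0 i).val = i.val := rfl

/-- the point `4`. -/
def p4 : Fin P.n := ⟨4, by decide⟩

/-- the point `7`. -/
def p7 : Fin P.n := ⟨7, by decide⟩

theorem mem_b0 : ∀ j : Fin P.n, (127 : ℕ).testBit j.val = true ↔ j.val < 7 := by decide

theorem mem_s0 : ∀ j : Fin P.n, (15 : ℕ).testBit j.val = true ↔ j.val < 4 := by decide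

theorem mem_m0 : ∀ j : Fin P.n, (159 : ℕ).testBit j.val = true →
    j.val < 4 ∨ j = p4 ∨ j = p7 := by decide

set_option maxRecDepth 100000 in
theorem b0_mem_std : (127 : ℕ) ∈ P.std := by decide +kernel

theorem b0_mem : finOf P.n 127 ∈ stdSet P := ⟨127, b0_mem_std, rfl⟩

theorem s0_card : (finOf P.n 15).card = P.t := by decide +kernel

theorem s0_sub : finOf P.n 15 ⊆ finOf P.n 127 := by
  intro j hj
  rw [mem_finOf] at hj ⊢
  rw [mem_s0] at hj
  rw [mem_b0]
  omega

/-- the possible images of the points `4` and `7`. -/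
def T : Finset (Fin P.n × Fin P.n) :=
  Finset.univ.filter (fun q => 4 ≤ q.1.val ∧ q.1.val < 7 ∧ 7 ≤ q.2.val)

theorem T_card : T.card = 48 := by decide +kernel

theorem fix_of_mem_stab (g : setSystemAut (stdSet P)) (hg : g ∈ MulAction.stabilizer _ x0)
    (j : Fin P.n) (hj : j.val < 4) : (g : Equiv.Perm (Fin P.n)) j = j := by
  rw [MulAction.mem_stabilizer_iff] at hg
  have := congrArg (fun f : Fin 4 ↪ Fin P.n => f ⟨j.val, hj⟩) hg
  have hj' : j = x0 ⟨j.val, hj⟩ := Fin.ext rfl
  rw [hj']
  exact this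

theorem image_mem_T (hstd : IsSteinerSystem P.t P.k (stdSet P)) (g : setSystemAut (stdSet P))
    (hg : g ∈ MulAction.stabilizer _ x0) :
    ((g : Equiv.Perm (Fin P.n)) p4, (g : Equiv.Perm (Fin P.n)) p7) ∈ T := by
  have hfix := fix_of_mem_stab g hg
  have hb : (finOf P.n 127).image (g : Equiv.Perm (Fin P.n)) = finOf P.n 127 := by
    refine block_fixed hstd g.2 b0_mem (finOf P.n 15) s0_card s0_sub ?_
    intro a ha
    rw [mem_finOf, mem_s0] at ha
    exact hfix a ha
  have h4 : (g : Equiv.Perm (Fin P.n)) p4 ∈ finOf P.n 127 := by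
    rw [← hb]
    apply Finset.mem_image_of_mem
    rw [mem_finOf, mem_b0]
    decide
  rw [mem_finOf, mem_b0] at h4
  have h4' : 4 ≤ ((g : Equiv.Perm (Fin P.n)) p4).val := by
    by_contra hlt
    have hlt' : ((g : Equiv.Perm (Fin P.n)) p4).val < 4 := by omega
    have h1 := hfix _ hlt'
    have h2 : (g : Equiv.Perm (Fin P.n)) p4 = p4 := (g : Equiv.Perm (Fin P.n)).injective h1
    rw [h2] at hlt'
    exact absurd hlt' (by decide)
  have h7 : 7 ≤ ((g : Equiv.Perm (Fin P.n)) p7).val := by
    by_contra hlt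
    have hlt' : ((g : Equiv.Perm (Fin P.n)) p7).val < 7 := by omega
    have h1 : (g : Equiv.Perm (Fin P.n)) p7 ∈ finOf P.n 127 := by
      rw [mem_finOf, mem_b0]; exact hlt'
    rw [← hb, Finset.mem_image] at h1
    obtain ⟨a, ha, hga⟩ := h1
    have : a = p7 := (g : Equiv.Perm (Fin P.n)).injective hga
    rw [this, mem_finOf, mem_b0] at ha
    exact absurd ha (by decide)
  unfold T
  rw [Finset.mem_filter]
  exact ⟨Finset.mem_univ _, h4', h4, h7⟩

theorem card_stab_le (hstd : IsSteinerSystem P.t P.k (stdSet P)) :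
    Nat.card (MulAction.stabilizer (setSystemAut (stdSet P)) x0) ≤ 48 := by
  rw [← T_card]
  refine card_le_of_inj
    (fun g : MulAction.stabilizer (setSystemAut (stdSet P)) x0 =>
      (((g : setSystemAut (stdSet P)) : Equiv.Perm (Fin P.n)) p4,
        ((g : setSystemAut (stdSet P)) : Equiv.Perm (Fin P.n)) p7)) T
    (fun g => image_mem_T hstd g.1 g.2) ?_
  intro g h hgh
  have e4 : ((g : setSystemAut (stdSet P)) : Equiv.Perm (Fin P.n)) p4 =
      ((h : setSystemAut (stdSet P)) : Equiv.Perm (Fin P.n)) p4 := congrArg Prod.fst hgh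
  have e7 : ((g : setSystemAut (stdSet P)) : Equiv.Perm (Fin P.n)) p7 =
      ((h : setSystemAut (stdSet P)) : Equiv.Perm (Fin P.n)) p7 := congrArg Prod.snd hgh
  have hk : (((h : setSystemAut (stdSet P)) : Equiv.Perm (Fin P.n)))⁻¹ *
      ((g : setSystemAut (stdSet P)) : Equiv.Perm (Fin P.n)) = 1 := by
    refine rigid_of_run D4723M.checked.le D4723M.checked.lt hstd (by decide) A4723M.a_run _
      ((setSystemAut (stdSet P)).mul_mem ((setSystemAut (stdSet P)).inv_mem h.1.2) g.1.2) ?_
    intro j hj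
    rw [Equiv.Perm.mul_apply, Equiv.Perm.inv_eq_iff_eq]
    rcases mem_m0 j hj with hj | hj | hj
    · rw [fix_of_mem_stab g.1 g.2 j hj, fix_of_mem_stab h.1 h.2 j hj]
    · rw [hj]; exact e4
    · rw [hj]; exact e7
  apply Subtype.ext
  apply Subtype.ext
  have := congrArg (fun k => ((h : setSystemAut (stdSet P)) : Equiv.Perm (Fin P.n)) * k) hk
  simpa using this

/-- the order of the automorphism group is at most `10200960`. -/
theorem card_aut_le (hstd : IsSteinerSystem P.t P.k (stdSet P)) :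
    Nat.card (setSystemAut (stdSet P)) ≤ 10200960 := by
  have h := card_le_mul_of_stabilizer (G := setSystemAut (stdSet P)) x0 48 (card_stab_le hstd)
  have hc : Nat.card (Fin 4 ↪ Fin P.n) = 212520 := by
    rw [Nat.card_eq_fintype_card, Fintype.card_embedding_eq]
    simp only [Fintype.card_fin]
    decide
  rw [hc] at h
  exact h

end Cfsg.Agent.Helper9.Steiner.Aut4723
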