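import Mathlib
import Cfsg.Agent.Helper9.Steiner.Search

set_option autoImplicit false

/-!
Certificate of the exhaustive search for the Steiner systems S(4, 5, 11) (generated).
-/

namespace Cfsg.Agent.Helper9.Steiner.D4511

/-- a piece of the data. -/
def ex0 : List ℕ := [
  1, 2, 4, 8, 16, 32, 64, 128, 256, 512, 1024]

/-- a piece of the data. -/
def sd0 : List ℕ := [
  1924, 1858, 1832, 1809, 1729, 1712, 1674, 1636, 1624, 1571, 1558, 1549, 976, 1480, 930, 1441, 1426, 905, 1392, 865, 844, 1349, 820, 1318, 1308, 794, 1291, 775, 744, 484, 1250, 1236, 710, 451, 440, 1196, 677, 668, 1177, 405, 1159, 659, 398, 626, 241, 1107, 218, 342, 597, 345, 1102, 205, 587, 362, 1129, 1082, 569, 124, 1077, 182, 307, 558, 301, 171, 103, 31]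

/-- the parameters and the standard system. -/
def P : Params where
  n := 11
  t := 4
  k := 5
  extras := ex0
  std := sd0

/-- a piece of the data. -/
def st0 : List Entry := [
  .node 15, .node 39, .node 43, .node 45, .node 46, .node 51, .node 54, .node 53, .fnode 57 [0, 1, 1, 0, 1], .fnode 58 [0, 1, 0, 0, 1, 1], .fnode 60 [0, 0, 0, 0, 1, 0, 2], .fnode 58 [0, 1, 0, 0, 1, 1], .fnode 60 [0, 0, 0, 0, 1, 0, 2], .fnode 60 [0, 0, 1, 0, 2], .fnode 57 [0, 0, 1, 1, 0, 1], .fnode 58 [0, 0, 1, 0, 0, 1, 1], .fnode 105 [1, 0, 4, 0, 0], .fnode 106 [0, 0, 1, 3, 1, 0], .fnode 75 [0, 0, 8, 0, 0], .fnode 77 [0, 1, 2, 4, 1, 0], .fnode 78 [0, 0, 0, 3, 3, 2, 0], .fnode 89 [1, 0, 1, 1, 0, 7], .fnode 85 [0, 1, 5, 0, 5, 0], .fnode 86 [0, 1, 6, 1, 4, 0], .fnode 90 [0, 1, 0, 1,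 0, 1, 1, 7], .fnode 83 [0, 0, 0, 0, 2, 7, 3, 0], .fnode 113 [0, 2, 0, 4, 1, 0, 0, 1, 3], .fnode 114 [0, 0, 0, 0, 5, 1, 1, 1, 0, 3], .fnode 142 [3, 3, 0, 7, 1, 1, 1], .fnode 147 [2, 0, 0, 12, 0, 2, 1], .fnode 135 [0, 0, 8, 7, 3, 0, 0], .fnode 149 [0, 0, 2, 3, 2, 6, 0, 5], .fnode 153 [0, 1, 2, 1, 2, 1, 4, 6, 1], .fnode 156 [0, 0, 2, 3, 4, 5, 1, 5], .fnode 165 [2, 0, 3, 6, 6, 0, 2, 0, 0], .fnode 172 [0, 0, 4, 8, 5, 1, 1, 0, 0], .fnode 184 [0, 1, 0, 5, 1, 8, 0, 0, 1, 3], .fnode 195 [6, 0, 2, 0, 0, 4, 0, 10, 0], .fnode 198 [0, 6, 1, 3, 0, 2, 0, 7, 4], .fnode 212 [0, 4, 1, 4, 1, 0, 0, 2, 5, 1], .fnode 226 [1, 0, 9, 0, 1, 6, 5, 3, 0], .fnode 228 [0, 0, 0, 2, 0, 7, 6, 5, 1, 4], .fnode 232 [0, 0, 3, 0, 8, 1, 4, 1, 0, 2, 5], .fnode 263 [5, 5, 0, 1, 4, 12, 1, 1, 0], .fnode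 267 [0, 5, 8, 6, 2, 0, 6, 1, 0, 1], .fnode 282 [0, 7, 7, 3, 0, 1, 3, 1, 4, 4], .fnode 284 [0, 8, 2, 1, 2, 4, 1, 7, 4, 2], .fnode 294 [3, 1, 12, 4, 5, 5, 0, 0, 0, 1], .fnode 308 [0, 0, 4, 4, 4, 7, 9, 0, 0, 0, 1], .fnode 325 [5, 1, 3, 5, 7, 0, 0, 1, 10, 1], .fnode 332 [0, 2, 4, 12, 4, 1, 0, 0, 1, 3, 4], .fnode 353 [1, 7, 3, 10, 4, 3, 0, 5, 1, 1], .fnode 368 [0, 2, 6, 4, 8, 0, 2, 1, 3, 3, 2], .fnode 393 [8, 6, 0, 3, 0, 2, 6, 1, 10, 0], .fnode 402 [8, 7, 0, 4, 1, 0, 3, 0, 11, 0], .fnode 417 [1, 1, 9, 3, 0, 1, 2, 4, 15, 1, 0], .fnode 418 [0, 0, 6, 5, 0, 2, 0, 7, 10, 5, 0, 2], .fnode 456 [3, 2, 7, 0, 3, 0, 7, 3, 2, 1, 1], .fnode 464 [0, 2, 1, 10, 1, 1, 0, 4, 4, 1, 0, 1], .fnode 525 [5, 2, 6, 8, 0, 10, 2, 0, 3, 4, 0, 2], .fnode 534 [11, 2, 1, 4, 4, 3, 1, 3, 0, 10,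 1, 3], .fnode 547 [4, 4, 7, 8, 4, 1, 8, 3, 3, 0, 1, 0], .fnode 600 [3, 7, 4, 2, 8, 5, 2, 1, 0, 2, 3, 0], .fnode 612 [11, 0, 1, 5, 0, 2, 3, 6, 4, 8, 3, 2], .fnode 650 [7, 2, 7, 2, 3, 4, 3, 0, 3, 5, 8, 1], .fnode 688 [6, 1, 7, 5, 5, 1, 0, 3, 1, 0, 11, 2], .fnode 705 [7, 4, 1, 8, 3, 0, 2, 4, 2, 3, 2, 0], .fnode 785 [8, 4, 1, 2, 2, 1, 11, 1, 6, 0, 6, 3], .fnode 808 [11, 2, 1, 0, 1, 2, 2, 5, 18, 2, 4, 0], .fnode 834 [10, 1, 4, 0, 4, 1, 4, 0, 9, 3, 4, 0], .fnode 900 [11, 1, 2, 2, 1, 4, 1, 2, 3, 0, 1, 2], .leafA 11584701642934304, .node 58, .fnode 60 [0, 0, 1, 0, 2], .fnode 53 [0, 1, 0, 1, 1, 0], .fnode 57 [0, 0, 0, 1, 1, 0, 1], .fnode 105 [0, 2, 3, 0, 0], .fnode 108 [0, 2, 0, 2, 0, 1], .fnode 77 [0, 0, 7, 1, 0], .fnode 78 [0, 0, 4, 2, 2, 0], .fnode 75 [0, 0, 1, 3,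 4, 0, 0], .fnode 89 [0, 1, 1, 0, 2, 6], .fnode 85 [0, 2, 3, 7, 0], .fnode 92 [0, 0, 1, 0, 0, 3, 0, 6],
  .fnode 86 [0, 0, 2, 6, 0, 4, 0], .fnode 83 [0, 1, 0, 0, 7, 1, 3, 0], .fnode 113 [0, 2, 0, 4, 0, 0, 1, 1, 3], .fnode 116 [0, 1, 0, 0, 4, 2, 0, 0, 0, 4], .fnode 142 [3, 4, 0, 4, 3, 1, 1], .fnode 147 [2, 0, 0, 13, 2, 1], .fnode 149 [0, 2, 1, 1, 3, 3, 0, 7], .fnode 135 [0, 0, 0, 3, 5, 10, 0, 0], .fnode 153 [1, 0, 2, 4, 2, 2, 1, 5, 1], .fnode 154 [0, 2, 0, 3, 10, 0, 4, 1], .fnode 165 [2, 0, 3, 7, 3, 0, 4, 0, 0], .fnode 166 [0, 2, 2, 3, 10, 1, 1, 1, 0], .fnode 178 [0, 1, 3, 2, 1, 10, 0, 0, 0, 2], .fnode 195 [5, 1, 2, 0, 0, 3, 1, 10, 0], .fnode 202 [0, 3, 4, 3, 3, 0, 0, 5, 4], .fnode 216 [0, 4, 0, 5, 1, 0, 1, 2, 4, 0]]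

/-- a piece of the data. -/
def st1 : List Entry := [
  .fnode 226 [1, 0, 0, 0, 8, 1, 11, 4, 0], .fnode 228 [0, 4, 0, 6, 0, 1, 5, 0, 3, 6], .fnode 232 [0, 0, 0, 0, 11, 7, 0, 0, 2, 0, 4], .fnode 263 [5, 1, 3, 0, 10, 8, 1, 1, 0], .fnode 267 [0, 5, 3, 11, 0, 0, 8, 1, 0, 1], .fnode 278 [1, 7, 1, 2, 2, 2, 4, 7, 0, 4], .fnode 284 [0, 11, 2, 2, 3, 1, 1, 5, 4, 2], .fnode 298 [2, 1, 6, 1, 13, 6, 1, 0, 0, 0], .fnode 312 [0, 0, 3, 8, 5, 5, 5, 1, 0, 1, 1], .fnode 325 [5, 5, 6, 2, 4, 0, 1, 0, 9, 1], .fnode 338 [4, 7, 3, 5, 1, 0, 2, 1, 6, 1], .fnode 353 [1, 6, 4, 9, 0, 4, 4, 5, 1, 1], .fnode 354 [0, 0, 2, 4, 1, 2, 1, 7, 7, 6, 1, 3], .fnode 393 [8, 1, 4, 3, 0, 1, 8, 2, 9, 0], .fnode 396 [0, 6, 3, 6, 1, 2, 1, 8, 0, 4, 4], .fnode 417 [1, 1, 8, 4, 1, 0, 3, 3, 15, 1, 0], .fnode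 432 [0, 6, 5, 5, 0, 1, 2, 2, 0, 12, 2], .fnode 452 [2, 4, 6, 0, 3, 1, 4, 2, 2, 4, 0], .fnode 464 [0, 0, 5, 7, 2, 1, 3, 2, 2, 0, 1, 2], .fnode 525 [4, 4, 4, 11, 0, 7, 4, 1, 1, 4, 0, 2], .fnode 538 [11, 2, 0, 5, 1, 2, 0, 6, 1, 10, 2, 3], .fnode 547 [5, 2, 7, 7, 4, 5, 8, 1, 3, 0, 1, 0], .fnode 582 [9, 2, 3, 3, 2, 6, 5, 0, 0, 3, 9, 2], .fnode 624 [4, 5, 3, 6, 4, 8, 0, 0, 1, 6, 1, 1], .fnode 660 [5, 3, 8, 3, 4, 3, 0, 0, 5, 0, 8, 0], .fnode 680 [9, 0, 5, 5, 0, 2, 1, 3, 15, 2, 3, 1], .fnode 705 [7, 2, 5, 7, 2, 0, 4, 0, 4, 0, 6, 1], .fnode 785 [8, 2, 5, 0, 2, 0, 11, 1, 4, 3, 6, 3], .fnode 804 [12, 0, 1, 2, 0, 2, 3, 5, 7, 12, 4, 0], .fnode 840 [10, 3, 1, 2, 0, 3, 1, 3, 14, 1, 1, 2], .fnode 898 [11, 2, 0, 1, 6, 0, 5, 0, 0, 0, 1, 1], .leaf 8098223386363936, .sym 11550616782473217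 307, .node 53, .node 54, .fnode 58 [0, 1, 0, 1, 1], .fnode 57 [0, 1, 0, 1, 0, 1], .fnode 60 [0, 0, 0, 0, 1, 0, 2], .fnode 105 [1, 0, 4, 0, 0], .fnode 108 [0, 0, 1, 3, 0, 1], .fnode 77 [0, 0, 7, 1, 0], .fnode 75 [0, 1, 2, 5, 0, 0], .fnode 78 [0, 0, 0, 3, 3, 2, 0], .fnode 89 [1, 0, 1, 1, 0, 7], .fnode 83 [0, 1, 5, 2, 3, 0], .fnode 86 [0, 1, 6, 0, 5, 0], .fnode 92 [0, 1, 0, 1, 0, 1, 1, 7], .fnode 85 [0, 0, 0, 0, 2, 6, 4, 0], .fnode 113 [0, 2, 0, 4, 1, 0, 1, 0, 3], .fnode 116 [0, 0, 0, 0, 5, 1, 1, 0, 0, 4], .fnode 141 [6, 2, 0, 5, 2, 0, 1], .fnode 142 [0, 4, 2, 2, 7, 1, 1], .fnode 135 [0, 0, 4, 11, 3, 0, 0], .fnode 147 [0, 6, 0, 0, 9, 0, 2, 1], .fnode 156 [2, 0, 3, 0, 1, 3, 1, 3, 5], .fnode 154 [0, 0, 1, 5, 1, 7, 5, 1], .fnode 166 [3, 0, 5, 5, 4, 0, 1, 1, 0], .fnode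 178 [0, 0, 1, 7, 9, 0, 0, 0, 2], .fnode 184 [0, 1, 0, 10, 3, 1, 0, 0, 1, 3], .fnode 195 [5, 0, 6, 0, 0, 1, 11, 0], .fnode 197 [0, 6, 1, 2, 1, 1, 2, 0, 5, 4], .fnode 202 [1, 3, 3, 5, 1, 0, 0, 1, 3, 5], .fnode 225 [1, 0, 10, 4, 3, 0, 4, 3, 0], .fnode 226 [0, 0, 1, 1, 0, 10, 5, 3, 5, 0], .fnode 240 [0, 0, 3, 0, 7, 0, 2, 1, 3, 3, 1], .fnode 263 [4, 6, 0, 0, 9, 6, 3, 1, 0], .fnode 277 [0, 4, 6, 4, 0, 0, 11, 0, 2, 2], .fnode 281 [0, 7, 4, 4, 1, 2, 1, 4, 5, 2], .fnode 282 [0, 8, 2, 1, 1, 4, 4, 5, 0, 6], .fnode 291 [3, 1, 9, 4, 6, 6, 1, 1, 0, 0], .fnode 298 [0, 0, 4, 4, 6, 9, 5, 0, 2, 0, 0], .fnode 326 [5, 1, 2, 8, 4, 0, 2, 0, 6, 5], .fnode 338 [0, 2, 4, 9, 4, 1, 0, 0, 2, 5, 0], .fnode 356 [1, 7, 2, 10, 0, 1, 6, 4, 3, 1],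
  .fnode 360 [0, 2, 6, 4, 9, 1, 4, 1, 0, 2, 4], .fnode 393 [7, 6, 1, 4, 1, 0, 6, 1, 10, 0], .fnode 404 [9, 5, 1, 3, 0, 1, 4, 0, 10, 0], .fnode 417 [1, 5, 5, 0, 1, 1, 4, 4, 14, 2, 0], .fnode 420 [0, 0, 2, 9, 2, 1, 1, 4, 11, 4, 0, 2], .fnode 456 [3, 0, 10, 1, 0, 1, 6, 4, 2, 1, 1], .fnode 464 [0, 2, 3, 7, 0, 2, 1, 4, 4, 1, 0, 1], .fnode 523 [5, 5, 0, 6, 8, 7, 2, 0, 3, 4, 1, 1], .fnode 534 [10, 2, 1, 8, 2, 1, 2, 3, 0, 9, 2, 3], .fnode 549 [4, 8, 2, 3, 9, 2, 8, 3, 2, 1, 0, 1], .fnode 600 [3, 5, 5, 6, 6, 4, 2, 1, 0, 2, 3, 0], .fnode 610 [10, 2, 1, 5, 0, 0, 3, 7, 4, 8, 3, 2], .fnode 657 [5, 4, 8, 3, 4, 2, 0, 0, 7, 0, 6, 2], .fnode 680 [8, 2, 0, 11, 0, 2, 0, 2, 14, 2, 4, 1], .fnode 708 [7, 1, 6, 8, 0, 0, 5, 1, 2, 3, 4, 0], .fnode 780 [10, 2, 0, 2, 2, 1, 11, 2, 4, 5,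 8, 0], .fnode 816 [9, 1, 3, 4, 0, 1, 7, 0, 7, 0, 11, 1], .fnode 833 [10, 4, 0, 2, 1, 2, 3, 1, 11, 3, 2, 0], .fnode 898 [11, 1, 2, 3, 1, 0, 4, 1, 3, 3, 0, 0], .leaf 9190069604812832, .node 57, .fnode 58 [0, 1, 0, 1, 1], .fnode 54 [0, 1, 0, 0, 2, 0], .fnode 60 [0, 0, 0, 0, 1, 0, 2], .fnode 106 [2, 0, 2, 1, 0], .fnode 108 [0, 0, 2, 2, 0, 1]]

/-- a piece of the data. -/
def st2 : List Entry := [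
  .fnode 78 [0, 0, 6, 2, 0], .fnode 75 [0, 1, 3, 4, 0, 0], .fnode 77 [0, 0, 0, 4, 3, 1, 0], .fnode 90 [1, 0, 1, 2, 0, 6], .fnode 83 [0, 1, 6, 1, 3, 0], .fnode 85 [0, 1, 7, 0, 4, 0], .fnode 92 [0, 1, 0, 1, 0, 1, 2, 6], .fnode 86 [0, 0, 0, 0, 2, 3, 7, 0], .fnode 114 [0, 2, 0, 4, 1, 0, 0, 1, 3], .fnode 116 [0, 0, 0, 0, 5, 1, 0, 1, 0, 4], .fnode 141 [4, 2, 2, 8, 0, 1], .fnode 142 [0, 6, 2, 0, 2, 4, 1, 1], .fnode 135 [0, 0, 4, 8, 6, 0, 0], .fnode 147 [0, 6, 0, 0, 6, 3, 2, 1], .fnode 156 [2, 0, 3, 0, 1, 3, 1, 0, 8], .fnode 153 [0, 0, 2, 4, 1, 8, 4, 1], .fnode 165 [3, 1, 4, 5, 2, 2, 2, 0, 0], .fnode 177 [0, 0, 1, 7, 8, 1, 0, 0, 2], .fnode 184 [0, 1, 0, 10, 3, 1, 0, 0, 0, 4], .fnode 195 [5, 0, 6, 0, 0, 1, 11, 0], .fnode 198 [0, 6, 0, 3, 1, 1, 2, 0, 2, 7], .fnode 201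 [1, 3, 4, 4, 1, 0, 0, 1, 4, 4], .fnode 225 [0, 1, 1, 0, 10, 5, 4, 4, 0], .fnode 226 [0, 1, 0, 10, 4, 3, 0, 1, 6, 0], .fnode 240 [0, 0, 3, 0, 7, 0, 2, 1, 3, 2, 1], .fnode 267 [3, 8, 7, 2, 0, 4, 4, 0, 1], .fnode 277 [8, 2, 1, 2, 3, 0, 10, 2, 2], .fnode 278 [0, 11, 1, 2, 1, 2, 3, 3, 0, 7], .fnode 281 [1, 0, 3, 3, 1, 0, 9, 8, 0, 3, 2], .fnode 291 [3, 1, 5, 4, 7, 8, 2, 1, 0, 0], .fnode 294 [0, 1, 3, 10, 2, 8, 3, 0, 3, 0, 1], .fnode 325 [4, 4, 8, 2, 3, 0, 1, 1, 9, 1], .fnode 344 [3, 6, 6, 4, 2, 1, 0, 2, 4, 0], .fnode 353 [1, 1, 5, 0, 0, 3, 7, 4, 9, 3, 1], .fnode 360 [0, 0, 8, 1, 11, 8, 0, 0, 2, 0, 3], .fnode 394 [9, 1, 1, 6, 1, 0, 7, 2, 4, 5], .fnode 402 [0, 7, 3, 5, 2, 0, 0, 7, 0, 6, 0], .fnode 420 [6, 6, 5, 0, 1, 1, 2, 9, 2, 5], .fnode 424 [0, 1, 0, 10, 1, 2, 0,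 2, 14, 3, 4, 0], .fnode 452 [1, 5, 7, 1, 0, 5, 1, 2, 3, 4, 0], .fnode 464 [0, 2, 3, 7, 0, 1, 3, 2, 4, 3, 0, 0], .fnode 519 [9, 1, 1, 6, 6, 0, 1, 8, 7, 1, 2, 0], .fnode 538 [6, 6, 0, 8, 4, 4, 1, 2, 1, 5, 3, 3], .fnode 553 [8, 4, 0, 5, 3, 7, 8, 6, 0, 1, 0, 0], .fnode 593 [3, 8, 2, 5, 8, 4, 1, 0, 0, 2, 6, 0], .fnode 612 [7, 2, 2, 8, 1, 10, 0, 1, 6, 5, 1, 2], .fnode 660 [5, 2, 9, 6, 1, 3, 0, 2, 3, 0, 8, 2], .fnode 674 [9, 1, 5, 5, 0, 1, 1, 4, 4, 11, 4, 1], .fnode 712 [7, 4, 0, 11, 0, 0, 1, 7, 3, 2, 1, 1], .fnode 780 [11, 1, 0, 2, 2, 0, 12, 3, 3, 5, 8, 0], .fnode 816 [9, 2, 2, 4, 0, 0, 8, 0, 7, 0, 12, 1], .fnode 834 [10, 4, 0, 2, 1, 1, 3, 2, 11, 3, 2, 0], .fnode 897 [11, 2, 1, 3, 1, 0, 5, 0, 3, 3, 0, 1], .leaf 7117319394396192, .sym 10493986108180512 558, .sym 11550616782473248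 301, .sym 10425816387258400 301, .sym 11583636491044896 171, .sym 11548486478694432 171, .sym 10422620931590176 171, .sym 11584668356937760 103, .sym 11583569919051808 103, .sym 11548386620704800 103, .sym 10422487787604000 103, .sym 11584701610428448 31, .sym 11584700537735200 31, .sym 11584666179045408 31, .sym 11583566668466208 31, .sym 11548382297425952 31, .sym 10422482391631904 31]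

/-- the certificate. -/
def stream : List Entry := st0 ++ st1 ++ st2

set_option maxRecDepth 1000000 in
theorem c_ext : P.extras = subsK P.n (P.k - P.t) := by decide +kernel

set_option maxHeartbeats 0 in
set_option maxRecDepth 1000000 in
theorem c_run : (go P 69 [] stream).isSome = true := by decide +kernel

set_option maxRecDepth 1000000 in
theorem c_nodup : nd P.std = true := by decide +kernel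

set_option maxRecDepth 1000000 in
theorem c_lt : P.std.all (fun s => decide (s < 2 ^ P.n)) = true := by decide +kernel

theorem checked : Checked P 69 stream where
  le := by decide
  ext := c_ext
  run := c_run
  nodup := c_nodup
  lt := c_lt
  card := by decide +kernel
  pos := by decide +kernel

end Cfsg.Agent.Helper9.Steiner.D4511
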