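import Mathlib
import Cfsg.Agent.Helper9.Steiner.Search

set_option autoImplicit false

/-!
Certificate of the exhaustive search for the Steiner systems S(5, 6, 12) (generated).
-/

namespace Cfsg.Agent.Helper9.Steiner.D5612

/-- a piece of the data. -/
def ex0 : List ℕ := [
  1, 2, 4, 8, 16, 32, 64, 128, 256, 512, 1024, 2048]

/-- a piece of the data. -/
def sd0 : List ℕ := [
  4032, 3888, 3850, 3845, 3752, 3729, 3718, 3684, 3666, 3657, 3619, 3612, 3492, 3480, 3459, 3426, 3409, 3404, 3369, 3350, 3297, 3284, 3274, 3250, 3213, 3192, 3143, 3125, 3118, 3099, 2978, 1953, 2964, 1938, 1932, 2953, 1896, 2913, 2904, 1876, 2886, 1859, 2860, 1830, 1817, 2835, 2800, 1762, 1752, 2764, 1733, 2755, 1716, 2725, 2714, 1675, 1649, 2666, 2645, 1614, 1594, 2617, 2614, 1581, 1559, 2575,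 1520, 2536, 996, 2514, 977, 970, 1481, 1478, 2501, 952, 2481, 1450, 1429, 2446, 903, 2420, 882, 1381, 1370, 845, 2379, 1340, 2362, 821, 1331, 811, 2343, 798, 2333, 1295, 1260, 745, 2278, 483]

/-- a piece of the data. -/
def sd1 : List ℕ := [
  476, 2265, 726, 1235, 2236, 1209, 438, 691, 686, 429, 2219, 1191, 1182, 669, 411, 2199, 636, 250, 377, 1142, 245, 2163, 366, 2157, 1131, 615, 2142, 1117, 603, 343, 207, 63]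

/-- the parameters and the standard system. -/
def P : Params where
  n := 12
  t := 5
  k := 6
  extras := ex0
  std := sd0 ++ sd1

/-- a piece of the data. -/
def st0 : List Entry := [
  .node 31, .node 79, .node 87, .node 91, .node 93, .node 94, .node 103, .node 107, .fnode 109 [0, 0, 1, 2, 0], .fnode 110 [0, 0, 0, 0, 3, 0], .fnode 115 [2, 0, 2, 0, 1], .fnode 117 [0, 1, 1, 1, 1, 1], .fnode 117 [0, 1, 1, 1, 1, 1], .fnode 118 [0, 0, 0, 2, 0, 2, 1], .sym 372964486846449696 1139, .fnode 109 [0, 0, 1, 2, 0], .fnode 110 [0, 0, 0, 0, 3, 0], .fnode 110 [0, 0, 0, 0, 3, 0], .fnode 115 [2, 0, 2, 0, 1], .fnode 117 [0, 1, 1, 1, 1, 1], .fnode 117 [0, 1, 1, 1, 1, 1], .fnode 118 [0, 0, 0, 2, 0, 2, 1], .fnode 121 [1, 0, 1, 0, 2, 0, 2], .fnode 122 [0, 0, 1, 0, 1, 1, 1, 2], .fnode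 124 [0, 0, 0, 0, 1, 0, 2, 0, 3], .fnode 151 [4, 8, 0, 0], .fnode 155 [0, 1, 10, 1, 0], .fnode 157 [0, 0, 4, 6, 2, 0], .fnode 158 [0, 0, 0, 1, 8, 3, 0], .fnode 167 [3, 4, 4, 4, 0], .fnode 171 [0, 2, 2, 6, 5, 0], .fnode 173 [0, 0, 1, 6, 2, 6, 0], .fnode 174 [0, 0, 0, 0, 4, 4, 7, 0], .fnode 179 [2, 0, 2, 0, 1, 2, 0, 9], .fnode 182 [0, 0, 2, 0, 2, 1, 1, 0, 10], .fnode 173 [0, 0, 1, 6, 2, 6, 0], .fnode 174 [0, 0, 0, 0, 4, 4, 7, 0], .fnode 174 [0, 0, 0, 0, 4, 4, 7, 0], .fnode 179 [2, 0, 2, 0, 1, 2, 0, 9], .fnode 182 [0, 0, 2, 0, 2, 1, 1, 0, 10], .fnode 185 [1, 1, 0, 2, 0, 2, 0, 1, 10], .fnode 188 [0, 0, 1, 0, 2, 0, 2, 0, 2, 10], .fnode 211 [3, 6, 0, 1, 2, 0, 6, 0, 0], .fnode 171 [0, 2, 2, 6, 5, 0], .fnode 173 [0, 0, 1, 6, 2, 6, 0], .fnode 174 [0, 0, 0, 0, 4, 4, 7, 0],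 .fnode 179 [2, 0, 2, 0, 1, 2, 0, 9], .fnode 173 [0, 0, 1, 6, 2, 6, 0], .fnode 174 [0, 0, 0, 0, 4, 4, 7, 0], .fnode 179 [2, 0, 2, 0, 1, 2, 0, 9], .fnode 174 [0, 0, 0, 0, 4, 4, 7, 0], .fnode 171 [0, 2, 2, 6, 5, 0], .fnode 173 [0, 0, 1, 6, 2, 6, 0], .fnode 174 [0, 0, 0, 0, 4, 4, 7, 0], .fnode 174 [0, 0, 0, 0, 4, 4, 7, 0], .fnode 157 [0, 0, 4, 6, 2, 0], .fnode 158 [0, 0, 0, 1, 8, 3, 0], .fnode 158 [0, 0, 0, 1, 8, 3, 0], .fnode 167 [3, 4, 4, 4, 0], .fnode 171 [0, 2, 2, 6, 5, 0], .fnode 173 [0, 0, 1, 6, 2, 6, 0], .fnode 174 [0, 0, 0, 0, 4, 4, 7, 0], .fnode 179 [2, 0, 2, 0, 1, 2, 0, 9], .fnode 173 [0, 0, 1, 6, 2, 6, 0], .fnode 174 [0, 0, 0, 0, 4, 4, 7, 0], .fnode 179 [2, 0, 2, 0, 1, 2, 0, 9], .fnode 174 [0, 0, 0, 0, 4, 4, 7, 0], .fnode 179 [2, 0, 2, 0, 1, 2, 0, 9], .fnode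 171 [0, 2, 2, 6, 5, 0], .fnode 173 [0, 0, 1, 6, 2, 6, 0], .fnode 174 [0, 0, 0, 0, 4, 4, 7, 0], .fnode 179 [2, 0, 2, 0, 1, 2, 0, 9], .fnode 173 [0, 0, 1, 6, 2, 6, 0], .fnode 174 [0, 0, 0, 0, 4, 4, 7, 0], .fnode 179 [2, 0, 2, 0, 1, 2, 0, 9], .fnode 182 [0, 0, 2, 0, 2, 1, 1, 0, 10], .fnode 173 [0, 0, 1, 6, 2, 6, 0], .fnode 174 [0, 0, 0, 0, 4, 4, 7, 0], .fnode 179 [2, 0, 2, 0, 1, 2, 0, 9], .fnode 182 [0, 0, 2, 0, 2, 1, 1, 0, 10], .fnode 185 [1, 1, 0, 2, 0, 2, 0, 1, 10], .fnode 188 [0, 0, 1, 0, 2, 0, 2, 0, 2, 10], .fnode 211 [3, 6, 0, 1, 2, 0, 6, 0, 0], .fnode 174 [0, 0, 0, 0, 4, 4, 7, 0], .fnode 171 [0, 2, 2, 6, 5, 0], .fnode 173 [0, 0, 1, 6, 2, 6, 0], .fnode 174 [0, 0, 0, 0, 4, 4, 7, 0], .fnode 179 [2, 0, 2, 0, 1, 2, 0, 9], .fnode 174 [0, 0, 0, 0, 4, 4, 7, 0], .fnode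 179 [2, 0, 2, 0, 1, 2, 0, 9], .fnode 173 [0, 0, 1, 6, 2, 6, 0],
  .fnode 174 [0, 0, 0, 0, 4, 4, 7, 0], .fnode 179 [2, 0, 2, 0, 1, 2, 0, 9], .fnode 182 [0, 0, 2, 0, 2, 1, 1, 0, 10], .fnode 174 [0, 0, 0, 0, 4, 4, 7, 0], .fnode 157 [0, 0, 4, 6, 2, 0], .fnode 158 [0, 0, 0, 1, 8, 3, 0], .fnode 167 [3, 4, 4, 4, 0], .fnode 171 [0, 2, 2, 6, 5, 0], .fnode 173 [0, 0, 1, 6, 2, 6, 0]]

/-- a piece of the data. -/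
def st1 : List Entry := [
  .fnode 174 [0, 0, 0, 0, 4, 4, 7, 0], .fnode 179 [2, 0, 2, 0, 1, 2, 0, 9], .fnode 182 [0, 0, 2, 0, 2, 1, 1, 0, 10], .fnode 171 [0, 2, 2, 6, 5, 0], .fnode 173 [0, 0, 1, 6, 2, 6, 0], .fnode 174 [0, 0, 0, 0, 4, 4, 7, 0], .fnode 179 [2, 0, 2, 0, 1, 2, 0, 9], .fnode 173 [0, 0, 1, 6, 2, 6, 0], .fnode 171 [0, 2, 2, 6, 5, 0], .fnode 173 [0, 0, 1, 6, 2, 6, 0], .fnode 174 [0, 0, 0, 0, 4, 4, 7, 0], .fnode 174 [0, 0, 0, 0, 4, 4, 7, 0], .fnode 179 [2, 0, 2, 0, 1, 2, 0, 9], .fnode 182 [0, 0, 2, 0, 2, 1, 1, 0, 10], .fnode 185 [1, 1, 0, 2, 0, 2, 0, 1, 10], .fnode 188 [0, 0, 1, 0, 2, 0, 2, 0, 2, 10], .fnode 211 [3, 6, 0, 1, 2, 0, 6, 0, 0], .fnode 173 [0, 0, 1, 6, 2, 6, 0], .fnode 174 [0, 0, 0, 0, 4, 4, 7, 0], .sym 336899509052346370 663, .fnode 155 [0,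 1, 10, 1, 0], .fnode 157 [0, 0, 4, 6, 2, 0], .fnode 158 [0, 0, 0, 1, 8, 3, 0], .fnode 167 [3, 4, 4, 4, 0], .fnode 171 [0, 2, 2, 6, 5, 0], .fnode 173 [0, 0, 1, 6, 2, 6, 0], .fnode 174 [0, 0, 0, 0, 4, 4, 7, 0], .fnode 179 [2, 0, 2, 0, 1, 2, 0, 9], .fnode 182 [0, 0, 2, 0, 2, 1, 1, 0, 10], .fnode 185 [1, 1, 0, 2, 0, 2, 0, 1, 10], .fnode 188 [0, 0, 1, 0, 2, 0, 2, 0, 2, 10], .fnode 211 [3, 6, 0, 1, 2, 0, 6, 0, 0], .fnode 173 [0, 0, 1, 6, 2, 6, 0], .fnode 174 [0, 0, 0, 0, 4, 4, 7, 0], .fnode 179 [2, 0, 2, 0, 1, 2, 0, 9], .fnode 182 [0, 0, 2, 0, 2, 1, 1, 0, 10], .fnode 182 [0, 0, 2, 0, 2, 1, 1, 0, 10], .fnode 171 [0, 2, 2, 6, 5, 0], .fnode 173 [0, 0, 1, 6, 2, 6, 0], .fnode 174 [0, 0, 0, 0, 4, 4, 7, 0], .fnode 179 [2, 0, 2, 0, 1, 2, 0, 9], .fnode 173 [0, 0, 1, 6, 2, 6, 0],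 .fnode 174 [0, 0, 0, 0, 4, 4, 7, 0], .fnode 179 [2, 0, 2, 0, 1, 2, 0, 9], .fnode 182 [0, 0, 2, 0, 2, 1, 1, 0, 10], .fnode 185 [1, 1, 0, 2, 0, 2, 0, 1, 10], .fnode 188 [0, 0, 1, 0, 2, 0, 2, 0, 2, 10], .fnode 211 [3, 6, 0, 1, 2, 0, 6, 0, 0], .fnode 214 [0, 2, 5, 2, 1, 1, 0, 5, 2, 0], .fnode 217 [1, 1, 7, 0, 2, 0, 1, 6, 0, 1], .fnode 220 [0, 0, 1, 7, 0, 2, 0, 2, 5, 0, 2], .fnode 227 [3, 3, 2, 0, 5, 2, 0, 2, 0, 4], .fnode 230 [0, 2, 3, 1, 2, 5, 1, 0, 1, 2, 4], .fnode 233 [1, 1, 3, 3, 0, 6, 0, 1, 2, 0, 5], .fnode 236 [0, 0, 1, 3, 3, 0, 6, 0, 2, 1, 0, 6], .fnode 271 [13, 4, 7, 6, 0, 0], .fnode 285 [0, 4, 8, 3, 0, 3, 8, 1, 1], .fnode 286 [0, 0, 4, 5, 5, 1, 7, 3, 2, 1], .fnode 285 [0, 4, 8, 3, 0, 3, 8, 1, 1], .fnode 286 [0, 0, 4, 5, 5, 1, 7, 3, 2, 1], .fnode 295 [2, 3, 6,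 2, 1, 10, 2, 3, 1], .fnode 299 [0, 2, 3, 9, 0, 3, 3, 3, 1, 6], .fnode 307 [0, 0, 6, 6, 0, 6, 3, 2, 7, 1], .fnode 309 [0, 1, 1, 11, 2, 8, 1, 8, 1], .fnode 314 [1, 0, 1, 12, 7, 2, 0, 3, 8], .fnode 316 [0, 0, 3, 0, 5, 3, 1, 2, 6, 1, 3, 8], .fnode 331 [4, 3, 3, 14, 3, 3, 1, 3, 0, 0], .fnode 333 [0, 7, 0, 4, 8, 8, 3, 0, 3, 1, 0], .fnode 346 [1, 1, 4, 6, 13, 2, 0, 3, 3, 1, 0], .fnode 357 [1, 3, 2, 6, 9, 8, 1, 1, 0, 1, 3], .fnode 370 [1, 3, 1, 8, 6, 10, 0, 0, 1, 0, 6], .fnode 372 [0, 0, 3, 1, 10, 5, 9, 1, 0, 0, 1, 6], .fnode 391 [11, 2, 3, 6, 2, 1, 2, 0, 13, 0], .fnode 398 [0, 12, 1, 4, 5, 1, 0, 2, 1, 7, 7], .fnode 405 [1, 8, 4, 5, 5, 2, 3, 0, 0, 4, 8], .fnode 426 [1, 8, 2, 7, 6, 1, 0, 0, 3, 2, 4],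
  .fnode 433 [1, 10, 0, 8, 5, 0, 0, 1, 4, 3, 1], .fnode 440 [0, 0, 9, 0, 11, 3, 0, 0, 2, 4, 2, 0], .fnode 453 [3, 1, 2, 1, 13, 0, 8, 10, 8, 0], .fnode 454 [0, 4, 0, 17, 0, 0, 1, 3, 15, 6, 0], .fnode 457 [1, 10, 0, 10, 1, 0, 0, 7, 4, 3, 11], .fnode 458 [0, 0, 3, 1, 4, 1, 12, 0, 13, 2, 4, 7], .fnode 465 [1, 1, 1, 1, 20, 0, 0, 1, 10, 3, 1, 8], .fnode 466 [0, 0, 1, 8, 1, 14, 0, 1, 0, 2, 7, 2, 11], .fnode 484 [4, 0, 6, 1, 12, 1, 0, 0, 5, 2, 10, 1], .fnode 488 [0, 2, 0, 2, 1, 18, 0, 1, 0, 8, 7, 0, 3], .fnode 496 [0, 0, 0, 0, 4, 0, 4, 0, 16, 0, 5, 10, 0, 1], .fnode 527 [14, 4, 5, 1, 1, 12, 4, 11, 2, 1, 0], .fnode 535 [0, 14, 8, 3, 8, 4, 5, 1, 9, 2, 0, 1], .fnode 557 [1, 19, 3, 1, 5, 10, 0, 3, 2, 6, 1, 5], .fnode 566 [1, 17, 6, 3, 8, 3, 0, 0, 7, 2, 5, 5], .fnode 569 [1,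 11, 13, 1, 5, 7, 1, 5, 2, 1, 9, 2], .fnode 570 [0, 0, 12, 6, 5, 2, 1, 13, 0, 7, 0, 10, 2], .fnode 590 [5, 5, 13, 7, 8, 5, 7, 5, 2, 0, 1, 1], .fnode 597 [5, 5, 14, 3, 12, 10, 2, 3, 4, 1, 0, 0], .fnode 618 [1, 0, 10, 10, 8, 5, 10, 7, 0, 4, 1, 0, 2], .fnode 625 [1, 2, 8, 11, 6, 7, 9, 8, 1, 1, 0, 3, 2], .fnode 651 [9, 5, 8, 10, 5, 9, 0, 1, 2, 0, 13, 1], .fnode 666 [0, 4, 10, 3, 17, 8, 4, 0, 3, 0, 0, 2, 10], .fnode 677 [9, 4, 11, 8, 7, 9, 0, 0, 1, 1, 6, 4]]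

/-- a piece of the data. -/
def st2 : List Entry := [
  .fnode 692 [0, 8, 5, 6, 13, 12, 1, 1, 0, 0, 4, 2, 3], .fnode 707 [3, 14, 0, 8, 16, 1, 2, 0, 3, 17, 2, 1], .fnode 709 [0, 1, 4, 9, 1, 3, 5, 4, 11, 4, 10, 6, 4, 4], .fnode 716 [0, 8, 8, 2, 13, 10, 0, 2, 1, 5, 4, 2, 13], .fnode 728 [0, 4, 15, 0, 3, 21, 2, 0, 0, 10, 2, 0, 10], .fnode 738 [3, 5, 10, 2, 10, 14, 0, 0, 2, 4, 0, 8, 7], .fnode 752 [0, 0, 3, 3, 9, 1, 1, 4, 6, 14, 4, 4, 8, 0, 2], .fnode 787 [18, 5, 9, 1, 6, 0, 0, 1, 13, 6, 13, 0], .fnode 793 [0, 15, 8, 4, 9, 3, 1, 1, 0, 18, 0, 3, 9], .fnode 806 [18, 5, 11, 1, 6, 1, 0, 0, 12, 1, 13, 2], .fnode 812 [0, 19, 4, 6, 9, 1, 1, 1, 1, 14, 0, 6, 5], .fnode 835 [3, 5, 18, 0, 8, 1, 2, 0, 4, 7, 25, 2, 0], .fnode 838 [0, 1, 15, 8, 2, 1, 6, 1, 2, 7, 8, 19, 2, 3], .fnode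 852 [0, 17, 9, 1, 10, 0, 2, 3, 3, 6, 1, 13, 12], .fnode 856 [0, 4, 3, 21, 0, 3, 6, 1, 0, 7, 6, 15, 1, 9], .fnode 865 [3, 14, 11, 1, 11, 0, 1, 3, 1, 5, 1, 18, 6], .fnode 872 [0, 0, 3, 14, 9, 0, 2, 3, 6, 2, 5, 5, 18, 1, 3], .fnode 905 [8, 10, 14, 0, 0, 2, 4, 4, 5, 5, 11, 3, 0], .fnode 908 [0, 6, 6, 18, 2, 3, 3, 0, 4, 7, 6, 7, 0, 3], .fnode 914 [11, 8, 14, 0, 0, 3, 4, 1, 10, 8, 3, 0, 6], .fnode 916 [0, 0, 4, 12, 15, 1, 4, 2, 1, 8, 3, 6, 1, 3, 6], .fnode 929 [3, 1, 15, 14, 1, 4, 0, 3, 8, 1, 5, 1, 7, 1], .fnode 930 [0, 1, 9, 3, 20, 2, 3, 1, 2, 1, 8, 7, 6, 0, 0], .fnode 1051 [14, 10, 4, 3, 19, 5, 4, 7, 1, 6, 1, 9, 2, 0, 2], .fnode 1070 [14, 15, 0, 2, 13, 9, 7, 0, 11, 2, 0, 6, 2, 1, 6], .fnode 1077 [24, 3, 6, 0, 13, 4, 3, 1, 0, 14, 5, 7, 0, 6, 3], .fnode 1095 [14, 8, 8,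 4, 8, 9, 11, 7, 7, 7, 4, 0, 1, 1, 0], .fnode 1144 [10, 11, 7, 3, 5, 17, 2, 8, 8, 10, 0, 0, 0, 4, 2], .fnode 1165 [9, 15, 4, 7, 8, 5, 16, 0, 8, 3, 1, 0, 0, 13, 2], .fnode 1202 [9, 13, 4, 7, 5, 10, 12, 12, 1, 0, 0, 3, 0, 4, 1], .fnode 1226 [24, 0, 6, 3, 11, 0, 0, 3, 6, 11, 6, 8, 4, 6, 5], .fnode 1236 [17, 8, 1, 1, 13, 6, 4, 17, 3, 1, 0, 8, 6, 0, 6], .fnode 1249 [10, 15, 2, 5, 9, 5, 10, 12, 0, 1, 3, 1, 5, 8, 3], .fnode 1302 [13, 5, 3, 20, 8, 4, 5, 2, 2, 2, 1, 10, 5, 6, 9], .fnode 1321 [12, 4, 7, 18, 8, 4, 5, 3, 2, 0, 3, 9, 3, 8, 5], .fnode 1356 [16, 1, 2, 19, 12, 0, 9, 0, 0, 1, 7, 0, 3, 21, 4], .fnode 1361 [22, 1, 2, 11, 9, 3, 1, 5, 4, 0, 5, 12, 14, 8, 1], .fnode 1378 [20, 4, 1, 3, 18, 6, 3, 4, 0, 0, 5, 8, 19, 2, 1], .fnode 1411 [16, 1, 7, 13, 16, 0, 3, 0, 1, 9, 4,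 3, 3, 7, 2], .fnode 1432 [19, 0, 9, 3, 17, 5, 2, 1, 0, 5, 2, 12, 4, 6, 1], .fnode 1444 [18, 2, 8, 8, 13, 1, 4, 3, 0, 4, 3, 8, 9, 2, 1], .fnode 1564 [22, 4, 4, 3, 3, 6, 0, 2, 0, 22, 5, 18, 0, 2, 10], .fnode 1571 [20, 9, 1, 3, 7, 0, 3, 2, 0, 25, 0, 15, 3, 12, 0], .fnode 1609 [26, 4, 2, 3, 1, 4, 0, 2, 3, 8, 12, 11, 26, 2, 0], .fnode 1618 [24, 5, 1, 5, 0, 7, 2, 0, 3, 17, 1, 17, 0, 15, 8], .fnode 1636 [28, 2, 3, 3, 2, 1, 3, 2, 3, 4, 14, 12, 19, 2, 5], .fnode 1670 [26, 0, 8, 3, 2, 1, 2, 3, 4, 8, 6, 21, 5, 2, 0], .fnode 1681 [25, 1, 10, 3, 1, 1, 2, 0, 7, 5, 7, 24, 1, 1, 5], .fnode 1704 [26, 2, 1, 10, 0, 3, 2, 4, 2, 11, 1, 18, 0, 7, 2], .fnode 1797 [27, 2, 4, 1, 1, 0, 5, 12, 0, 13, 1, 2, 1, 3, 5],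
  .fnode 1802 [30, 0, 1, 4, 1, 0, 10, 3, 0, 10, 5, 6, 6, 1, 1], .fnode 1840 [29, 1, 2, 2, 3, 0, 7, 3, 3, 5, 8, 6, 4, 1, 0], .fnode 1984 [30, 1, 0, 1, 2, 1, 5, 0, 1, 15, 1, 1, 0, 0, 0], .leafA 407901468851537952, .sym 335914139441465440 783, .fnode 157 [0, 0, 4, 6, 2, 0], .fnode 158 [0, 0, 0, 1, 8, 3, 0], .fnode 167 [3, 4, 4, 4, 0], .fnode 171 [0, 2, 2, 6, 5, 0], .fnode 173 [0, 0, 1, 6, 2, 6, 0], .fnode 174 [0, 0, 0, 0, 4, 4, 7, 0], .fnode 179 [2, 0, 2, 0, 1, 2, 0, 9], .fnode 173 [0, 0, 1, 6, 2, 6, 0], .fnode 174 [0, 0, 0, 0, 4, 4, 7, 0], .fnode 179 [2, 0, 2, 0, 1, 2, 0, 9], .fnode 182 [0, 0, 2, 0, 2, 1, 1, 0, 10], .fnode 174 [0, 0, 0, 0, 4, 4, 7, 0], .fnode 171 [0, 2, 2, 6, 5, 0], .fnode 173 [0, 0, 1, 6, 2, 6, 0], .fnode 174 [0, 0, 0, 0, 4, 4, 7, 0], .fnode 179 [2,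 0, 2, 0, 1, 2, 0, 9], .fnode 182 [0, 0, 2, 0, 2, 1, 1, 0, 10], .fnode 185 [1, 1, 0, 2, 0, 2, 0, 1, 10], .fnode 188 [0, 0, 1, 0, 2, 0, 2, 0, 2, 10], .fnode 211 [3, 6, 0, 1, 2, 0, 6, 0, 0], .fnode 173 [0, 0, 1, 6, 2, 6, 0], .fnode 173 [0, 0, 1, 6, 2, 6, 0], .fnode 174 [0, 0, 0, 0, 4, 4, 7, 0], .fnode 158 [0, 0, 0, 1, 8, 3, 0], .fnode 167 [3, 4, 4, 4, 0], .fnode 171 [0, 2, 2, 6, 5, 0], .fnode 173 [0, 0, 1, 6, 2, 6, 0], .fnode 174 [0, 0, 0, 0, 4, 4, 7, 0], .fnode 179 [2, 0, 2, 0, 1, 2, 0, 9], .fnode 173 [0, 0, 1, 6, 2, 6, 0], .fnode 174 [0, 0, 0, 0, 4, 4, 7, 0], .fnode 179 [2, 0, 2, 0, 1, 2, 0, 9], .fnode 182 [0, 0, 2, 0, 2, 1, 1, 0, 10], .fnode 171 [0, 2, 2, 6, 5, 0], .fnode 173 [0, 0, 1, 6, 2, 6, 0], .fnode 173 [0, 0, 1, 6, 2, 6, 0], .fnode 174 [0, 0, 0, 0, 4, 4, 7,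 0], .fnode 179 [2, 0, 2, 0, 1, 2, 0, 9], .fnode 182 [0, 0, 2, 0, 2, 1, 1, 0, 10], .fnode 185 [1, 1, 0, 2, 0, 2, 0, 1, 10], .fnode 188 [0, 0, 1, 0, 2, 0, 2, 0, 2, 10], .fnode 211 [3, 6, 0, 1, 2, 0, 6, 0, 0], .fnode 173 [0, 0, 1, 6, 2, 6, 0], .fnode 174 [0, 0, 0, 0, 4, 4, 7, 0], .fnode 179 [2, 0, 2, 0, 1, 2, 0, 9]]

/-- a piece of the data. -/
def st3 : List Entry := [
  .fnode 182 [0, 0, 2, 0, 2, 1, 1, 0, 10], .fnode 182 [0, 0, 2, 0, 2, 1, 1, 0, 10], .sym 372998571739416577 1131, .sym 406810753316783168 615, .sym 370817140669907009 615, .sym 372998571739416608 1117, .sym 406810753316784160 603, .sym 370817140669909024 603, .sym 407867383991076896 343, .sym 406742583595862048 343, .sym 370714886088525856 343, .sym 407900403699648544 207, .sym 407865253687298080 207,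 .sym 406739388140193824 207, .sym 370710625480968224 207, .sym 407901467811350560 63, .sym 407901433485166624 63, .sym 407900334007093280 63, .sym 407865149668558880 63, .sym 406739249795270688 63, .sym 370710452809861152 63]

/-- the certificate. -/
def stream : List Entry := st0 ++ st1 ++ st2 ++ st3

set_option maxRecDepth 1000000 in
theorem c_ext : P.extras = subsK P.n (P.k - P.t) := by decide +kernel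

set_option maxHeartbeats 0 in
set_option maxRecDepth 1000000 in
theorem c_run : (go P 135 [] stream).isSome = true := by decide +kernel

set_option maxRecDepth 1000000 in
theorem c_nodup : nd P.std = true := by decide +kernel

set_option maxRecDepth 1000000 in
theorem c_lt : P.std.all (fun s => decide (s < 2 ^ P.n)) = true := by decide +kernel

theorem checked : Checked P 135 stream where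
  le := by decide
  ext := c_ext
  run := c_run
  nodup := c_nodup
  lt := c_lt
  card := by decide +kernel
  pos := by decide +kernel

end Cfsg.Agent.Helper9.Steiner.D5612
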