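import Mathlib
import Cfsg.Prelude.Def_Sporadic_a
import Cfsg.Agent.Helper9.Steiner.AutTrans
import Cfsg.Agent.Helper9.Steiner.AutSearch
import Cfsg.Agent.Helper9.Steiner.D2521H
import Cfsg.Agent.Helper9.Steiner.A2521H

set_option autoImplicit false

/-!
The standard plane of order 4 of the search `D2521H`, in which the points `0, …, 5` form a
hyperoval: every enumeration of a hyperoval is mapped to `(0, …, 5)` by an automorphism, and an
automorphism fixing `0, …, 5` is trivial.
-/

namespace Cfsg.Agent.Helper9.Steiner.Hyp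

open Cfsg Cfsg.Agent.Helper9.Steiner

/-- the parameters. -/
abbrev P : Params := D2521H.P

theorem six_le : 6 ≤ P.n := by decide

/-- the standard enumeration of the standard hyperoval. -/
def y0 : Fin 6 ↪ Fin P.n := Fin.castLEEmb six_le

theorem y0_val (i : Fin 6) : (y0 i).val = i.val := rfl

theorem mem_M : ∀ j : Fin P.n, P.mmask.testBit j.val = true ↔ j.val < 6 := by decide

theorem finOf_mmask (x : Fin 6 ↪ Fin P.n) (τ : Equiv.Perm (Fin P.n))
    (hτ : ∀ i, τ (x i) = y0 i) :
    finOf P.n P.mmask = (Finset.univ.map x).image τ := by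
  ext j
  rw [mem_finOf, mem_M, Finset.mem_image]
  constructor
  · intro hj
    refine ⟨x ⟨j.val, hj⟩, by simp, ?_⟩
    rw [hτ]
    exact Fin.ext rfl
  · rintro ⟨a, ha, rfl⟩
    rw [Finset.mem_map] at ha
    obtain ⟨i, -, rfl⟩ := ha
    rw [hτ, y0_val]
    exact i.isLt

/-- every enumeration of an independent 6-set is mapped to `(0, …, 5)` by an automorphism. -/
theorem aut_of_emb (hstd : IsSteinerSystem P.t P.k (stdSet P)) (x : Fin 6 ↪ Fin P.n)
    (hx : ∀ l ∈ stdSet P, (l ∩ Finset.univ.map x).card ≤ 2) :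
    ∃ g : Equiv.Perm (Fin P.n), g ∈ setSystemAut (stdSet P) ∧ ∀ i, g (x i) = y0 i := by
  obtain ⟨τ, hτ'⟩ := Equiv.Perm.exists_smul_eq_embedding x y0
  have hτ : ∀ i, τ (x i) = y0 i := by
    intro i
    have := congrArg (fun f : Fin 6 ↪ Fin P.n => f i) hτ'
    exact this
  have hA : ArcOK P (mapSys τ (stdSet P)) := by
    rintro b' ⟨b, hb, rfl⟩
    simp only
    rw [finOf_mmask x τ hτ, ← Finset.image_inter _ _ τ.injective,
      Finset.card_image_of_injective _ τ.injective]
    exact hx b hb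
  obtain ⟨g, hg, hgτ⟩ := aut_agree D2521H.checked hstd τ hA
  refine ⟨g, hg, fun i => ?_⟩
  rw [hgτ (x i) (Or.inr (by rw [hτ, mem_M, y0_val]; exact i.isLt)), hτ]

/-- an automorphism fixing the points `0, …, 5` is trivial. -/
theorem rigid (hstd : IsSteinerSystem P.t P.k (stdSet P)) (g : Equiv.Perm (Fin P.n))
    (hg : g ∈ setSystemAut (stdSet P)) (hfix : ∀ i : Fin 6, g (y0 i) = y0 i) : g = 1 := by
  refine rigid_of_run D2521H.checked.le D2521H.checked.lt hstd (by decide) A2521H.a_run g hg ?_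
  intro j hj
  have hj' : j.val < 6 := (mem_M j).1 hj
  have : j = y0 ⟨j.val, hj'⟩ := Fin.ext rfl
  rw [this]
  exact hfix _

end Cfsg.Agent.Helper9.Steiner.Hyp
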