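import Mathlib
import Cfsg.Agent.Helper9.Steiner.Mask

set_option autoImplicit false

/-!
More on the list `subsK n r` of the masks of the `r`-subsets of `Fin n`: it has no duplicates, and
counting the subsets with a property amounts to counting the masks.
-/

namespace Cfsg.Agent.Helper9.Steiner

theorem subsK_props : ∀ (n r m : ℕ), m ∈ subsK n r → m < 2 ^ n ∧ cnt n m = r := by
  intro n
  induction n with
  | zero =>
    intro r m hm
    cases r with
    | zero =>
      simp only [subsK, List.mem_singleton] at hm
      subst hm
      exact ⟨by simp, by simp [cnt]⟩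
    | succ r => simp [subsK] at hm
  | succ n ih =>
    intro r m hm
    cases r with
    | zero =>
      simp only [subsK, List.mem_singleton] at hm
      subst hm
      exact ⟨Nat.two_pow_pos _, cnt_zero_right _⟩
    | succ r =>
      rw [subsK, List.mem_append, List.mem_map] at hm
      rcases hm with hm | ⟨m', hm', rfl⟩
      · obtain ⟨h1, h2⟩ := ih _ _ hm
        refine ⟨lt_of_lt_of_le h1 (Nat.pow_le_pow_right (by decide) (Nat.le_succ n)), ?_⟩
        rw [cnt_succ_top, h2, testBit_ge_of_lt h1 n le_rfl]
        simp
      · obtain ⟨h1, h2⟩ := ih _ _ hm'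
        refine ⟨by rw [pow_succ]; omega, ?_⟩
        rw [cnt_succ_top]
        have hc : cnt n (m' + 2 ^ n) = cnt n m' := by
          apply cnt_congr
          intro i hi
          rw [Nat.add_comm, Nat.testBit_two_pow_add_gt hi]
        have htop : (m' + 2 ^ n).testBit n = true := by
          rw [Nat.add_comm, Nat.testBit_two_pow_add_eq, testBit_ge_of_lt h1 n le_rfl]
          rfl
        rw [hc, h2, htop]
        simp

theorem subsK_nodup : ∀ (n r : ℕ), (subsK n r).Nodup := by
  intro n
  induction n with
  | zero =>
    intro r
    cases r with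
    | zero => simp [subsK]
    | succ r => simp [subsK]
  | succ n ih =>
    intro r
    cases r with
    | zero => simp [subsK]
    | succ r =>
      rw [subsK, List.nodup_append]
      refine ⟨ih _, ?_, ?_⟩
      · exact (List.nodup_map_iff (fun a b h => by simpa using h)).2 (ih r)
      · intro a ha b hb hab
        rw [List.mem_map] at hb
        obtain ⟨m', -, rfl⟩ := hb
        have := (subsK_props _ _ _ ha).1
        omega

/-- counting the `r`-subsets of `Fin n` with a property by counting masks. -/
theorem ncard_subsets_eq {n r : ℕ} (Q : Finset (Fin n) → Prop) (q : ℕ → Bool)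
    (hq : ∀ S : Finset (Fin n), Q S ↔ q (maskOf S) = true) :
    {S : Finset (Fin n) | S.card = r ∧ Q S}.ncard = ((subsK n r).filter q).length := by
  classical
  have hnd : ((subsK n r).filter q).Nodup := (subsK_nodup n r).filter _
  have hset : {S : Finset (Fin n) | S.card = r ∧ Q S} =
      (finOf n) '' (((subsK n r).filter q).toFinset : Set ℕ) := by
    ext S
    constructor
    · rintro ⟨hc, hQ⟩
      refine ⟨maskOf S, ?_, finOf_maskOf S⟩
      rw [Finset.mem_coe, List.mem_toFinset, List.mem_filter]
      refine ⟨?_, (hq S).1 hQ⟩
      rw [← hc]; exact maskOf_mem_subsK S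
    · rintro ⟨m, hm, rfl⟩
      rw [Finset.mem_coe, List.mem_toFinset, List.mem_filter] at hm
      obtain ⟨h1, h2⟩ := subsK_props _ _ _ hm.1
      refine ⟨by rw [card_finOf]; exact h2, ?_⟩
      rw [hq, maskOf_finOf h1]
      exact hm.2
  have hinj : Set.InjOn (finOf n) (((subsK n r).filter q).toFinset : Set ℕ) := by
    intro a ha b hb hab
    rw [Finset.mem_coe, List.mem_toFinset, List.mem_filter] at ha hb
    have h1 := (subsK_props _ _ _ ha.1).1
    have h2 := (subsK_props _ _ _ hb.1).1
    rw [← maskOf_finOf h1, ← maskOf_finOf h2, hab]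
  rw [hset, Set.InjOn.ncard_image hinj, Set.ncard_coe_finset, List.toFinset_card_of_nodup hnd]

end Cfsg.Agent.Helper9.Steiner
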