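import Mathlib
import Cfsg.Prelude.Def_Sporadic_a
import Cfsg.Agent.Helper9.Steiner.Search
import Cfsg.Agent.Helper9.Steiner.SubsK
import Cfsg.Agent.Helper9.Steiner.D2521

set_option autoImplicit false

/-!
Arcs and hyperovals of the standard projective plane of order 4 (the standard system of the
search D2521): there are 2520 independent 4-sets and 168 hyperovals, and each independent 4-set
lies in exactly one hyperoval.
-/

namespace Cfsg.Agent.Helper9.Steiner.Plane4

open Cfsg Cfsg.Agent.Helper9.Steiner

/-- the lines of the standard plane. -/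
abbrev lines : List ℕ := D2521.P.std

/-- no line meets the mask in more than two points. -/
def indepM (m : ℕ) : Bool := lines.all (fun l => Nat.ble (popc24 (Nat.land l m)) 2)

/-- the points on no secant of the mask. -/
def unc (m : ℕ) : ℕ := Nat.land (Nat.xor (forb 3 m lines 0) (2 ^ 21 - 1)) (2 ^ 21 - 1)

/-- the hyperovals. -/
def hov : List ℕ := [4728, 4998, 7237, 9861, 10424, 10566, 13571, 15040, 17606, 17720, 19205, 22336, 22659, 25155, 28032, 33908, 34186, 35401, 38412, 38961, 45193, 49330, 49484, 59402, 67337, 67786, 67892, 73842, 74124, 78346, 82481, 85004, 86089, 98947, 101696, 102661, 107526, 121344, 123072, 131764, 131914, 134281, 135372, 135474, 140337, 141836, 152586, 155913, 165568, 166147, 172101, 179200, 180742, 184704, 197699, 199552, 202758, 209216, 213125, 222720, 263761, 264300, 264594, 267305, 268820, 270548, 270634, 282897, 287762, 295461, 298008, 304288, 313632, 327846, 328024, 332576, 345184, 376852, 399520, 402016, 405528, 409635, 426129, 459282, 525484, 525650, 526993, 533033, 535572, 536657, 540778,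 541076, 545298, 557272, 557350, 561824, 567392, 593955, 599328, 608416, 614424, 624658, 656920, 657445, 660576, 672544, 692244, 721169, 787203, 789696, 790661, 800256, 804870, 811328, 827404, 853002, 885120, 917577, 952832, 1003520, 1049298, 1049388, 1051921, 1052842, 1053012, 1062930, 1066516, 1067049, 1073297, 1086752, 1089571, 1098336, 1101848, 1115173, 1116696, 1120352, 1122976, 1146961, 1179750, 1180056, 1190176, 1197216, 1213458, 1253396, 1311875, 1313600, 1319430, 1323392, 1327173, 1334272, 1343753, 1380364, 1410560, 1443850, 1499136, 1507520, 1574784, 1574979, 1577990, 1581317, 1593536, 1600000, 1606154, 1638537, 1683456, 1720332, 1737024, 1772544]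

/-- the independent 4-sets. -/
def arcs4 : List ℕ := (subsK 21 4).filter indepM

set_option maxRecDepth 1000000 in
theorem c_arcs : arcs4.length = 2520 := by decide +kernel

set_option maxHeartbeats 0 in
set_option maxRecDepth 1000000 in
theorem c_ext : arcs4.all (fun m => Nat.beq (popc24 (unc m)) 2 && memB (Nat.lor m (unc m)) hov)
    = true := by decide +kernel

set_option maxRecDepth 1000000 in
theorem c_hov : hov.all (fun h => Nat.beq (popc24 h) 6 && indepM h && Nat.blt h (2 ^ 21)) = true := by
  decide +kernel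

set_option maxRecDepth 1000000 in
theorem c_hov_nd : nd hov = true := by decide +kernel

set_option maxRecDepth 1000000 in
theorem c_hov_len : hov.length = 168 := by decide +kernel

/-- independence of a set of points of the standard plane. -/
def Indep (S : Finset (Fin D2521.P.n)) : Prop := ∀ l ∈ stdSet D2521.P, (l ∩ S).card ≤ 2

theorem le24 : D2521.P.n ≤ 24 := D2521.checked.le

theorem lines_lt {l : ℕ} (hl : l ∈ lines) : l < 2 ^ D2521.P.n := by
  have := List.all_eq_true.1 D2521.checked.lt l hl
  simpa using this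

theorem indepM_iff {m : ℕ} (hm : m < 2 ^ D2521.P.n) :
    indepM m = true ↔ Indep (finOf D2521.P.n m) := by
  rw [indepM, List.all_eq_true]
  constructor
  · intro h L hL
    obtain ⟨l, hl, rfl⟩ := hL
    have := h l hl
    rw [Nat.ble_eq] at this
    have hlt : l &&& m < 2 ^ D2521.P.n := lt_of_le_of_lt Nat.and_le_right hm
    rw [← finOf_and, ← popc24_eq_card le24 hlt]
    exact this
  · intro h l hl
    rw [Nat.ble_eq]
    have hlt : l &&& m < 2 ^ D2521.P.n := lt_of_le_of_lt Nat.and_le_right hm
    change popc24 (l &&& m) ≤ 2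
    rw [popc24_eq_card le24 hlt, finOf_and]
    exact h _ ⟨l, hl, rfl⟩

theorem indep_iff_mask (S : Finset (Fin D2521.P.n)) : Indep S ↔ indepM (maskOf S) = true := by
  rw [indepM_iff (maskOf_lt S), finOf_maskOf]

/-- there are 2520 independent 4-sets. -/
theorem ncard_arcs4 : {S : Finset (Fin D2521.P.n) | S.card = 4 ∧ Indep S}.ncard = 2520 := by
  rw [ncard_subsets_eq Indep indepM indep_iff_mask]
  exact c_arcs

theorem mem_arcs4 {S : Finset (Fin D2521.P.n)} (hc : S.card = 4) (hS : Indep S) :
    maskOf S ∈ arcs4 := by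
  rw [arcs4, List.mem_filter]
  refine ⟨?_, (indep_iff_mask S).1 hS⟩
  have := maskOf_mem_subsK S
  rw [hc] at this
  exact this

theorem unc_lt (m : ℕ) : unc m < 2 ^ D2521.P.n := by
  have : unc m ≤ 2 ^ 21 - 1 := Nat.and_le_right
  have h2 : (2 : ℕ) ^ D2521.P.n = 2 ^ 21 := rfl
  rw [h2]
  have hpos : 0 < 2 ^ 21 := Nat.two_pow_pos _
  omega

theorem testBit_unc {m i : ℕ} (hi : i < 21) :
    (unc m).testBit i = !(forb 3 m lines 0).testBit i := by
  change ((forb 3 m lines 0 ^^^ (2 ^ 21 - 1)) &&& (2 ^ 21 - 1)).testBit i = _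
  rw [Nat.testBit_and, Nat.testBit_xor, Nat.testBit_two_pow_sub_one, decide_eq_true hi]
  simp

/-- a hyperoval containing an independent 4-set is determined by it. -/
theorem hyperoval_unique {S H : Finset (Fin D2521.P.n)} (hc : S.card = 4)
    (hHc : H.card = 6) (hH : Indep H) (hSH : S ⊆ H) :
    maskOf H = maskOf S ||| unc (maskOf S) := by
  have hS : Indep S := fun l hl => le_trans (Finset.card_le_card
    (Finset.inter_subset_inter_left hSH)) (hH l hl)
  have hmem := mem_arcs4 hc hS
  have hext := List.all_eq_true.1 c_ext _ hmem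
  rw [Bool.and_eq_true, Nat.beq_eq] at hext
  set m := maskOf S with hm
  set x := maskOf (H \ S) with hx
  -- the points of `H` outside `S` are on no secant of `S`
  have hsub : finOf D2521.P.n x ⊆ finOf D2521.P.n (unc m) := by
    intro i hi
    rw [hx, finOf_maskOf, Finset.mem_sdiff] at hi
    rw [mem_finOf, testBit_unc i.isLt]
    cases hf : (forb 3 m lines 0).testBit i.val with
    | false => rfl
    | true =>
      exfalso
      rcases testBit_forb 3 m i.val lines 0 hf with h0 | ⟨l, hl, hpop, hli⟩
      · rw [Nat.zero_testBit] at h0; exact Bool.false_ne_true h0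
      · have hlt : l &&& m < 2 ^ D2521.P.n := lt_of_le_of_lt Nat.and_le_right (maskOf_lt S)
        rw [popc24_eq_card le24 hlt, finOf_and, hm, finOf_maskOf] at hpop
        have h3 := hH _ ⟨l, hl, rfl⟩
        have hsub2 : insert i (finOf D2521.P.n l ∩ S) ⊆ finOf D2521.P.n l ∩ H := by
          intro j hj
          rw [Finset.mem_insert] at hj
          rcases hj with rfl | hj
          · exact Finset.mem_inter.2 ⟨mem_finOf.2 hli, hi.1⟩
          · rw [Finset.mem_inter] at hj
            exact Finset.mem_inter.2 ⟨hj.1, hSH hj.2⟩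
        have hnot : i ∉ finOf D2521.P.n l ∩ S := fun hj => hi.2 (Finset.mem_inter.1 hj).2
        have := Finset.card_le_card hsub2
        rw [Finset.card_insert_of_notMem hnot] at this
        omega
  have hxc : (finOf D2521.P.n x).card = 2 := by
    rw [hx, finOf_maskOf, Finset.card_sdiff_of_subset hSH, hHc, hc]
  have huc : (finOf D2521.P.n (unc m)).card = 2 := by
    rw [← popc24_eq_card le24 (unc_lt m)]; exact hext.1
  have heq : finOf D2521.P.n x = finOf D2521.P.n (unc m) :=
    Finset.eq_of_subset_of_card_le hsub (by rw [hxc, huc])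
  have hxu : x = unc m := finOf_injOn' (maskOf_lt _) (unc_lt m) heq
  rw [← hxu, hx, hm, ← maskOf_union]
  congr 1
  exact (Finset.union_sdiff_of_subset hSH).symm

theorem hov_props {h : ℕ} (hh : h ∈ hov) :
    h < 2 ^ D2521.P.n ∧ (finOf D2521.P.n h).card = 6 ∧ Indep (finOf D2521.P.n h) := by
  have := List.all_eq_true.1 c_hov h hh
  rw [Bool.and_eq_true, Bool.and_eq_true, Nat.beq_eq, Nat.blt_eq] at this
  obtain ⟨⟨h1, h2⟩, h3⟩ := this
  have hlt : h < 2 ^ D2521.P.n := h3
  exact ⟨hlt, by rw [← popc24_eq_card le24 hlt]; exact h1, (indepM_iff hlt).1 h2⟩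

/-- the hyperoval through an independent 4-set. -/
theorem hyperoval_exists {S : Finset (Fin D2521.P.n)} (hc : S.card = 4) (hS : Indep S) :
    (maskOf S ||| unc (maskOf S)) ∈ hov := by
  have hext := List.all_eq_true.1 c_ext _ (mem_arcs4 hc hS)
  rw [Bool.and_eq_true, memB_iff] at hext
  exact hext.2

/-- the hyperovals are the sets of the list `hov`. -/
theorem hyperovals_eq : {H : Finset (Fin D2521.P.n) | H.card = 6 ∧ Indep H} =
    (finOf D2521.P.n) '' {h | h ∈ hov} := by
  ext H
  constructor
  · rintro ⟨hHc, hH⟩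
    obtain ⟨S, hSH, hSc⟩ := Finset.exists_subset_card_eq (show 4 ≤ H.card by omega)
    have hS : Indep S := fun l hl => le_trans (Finset.card_le_card
      (Finset.inter_subset_inter_left hSH)) (hH l hl)
    refine ⟨maskOf H, ?_, finOf_maskOf H⟩
    change maskOf H ∈ hov
    rw [hyperoval_unique hSc hHc hH hSH]
    exact hyperoval_exists hSc hS
  · rintro ⟨h, hh, rfl⟩
    exact (hov_props hh).2

/-- there are 168 hyperovals. -/
theorem ncard_hyperovals : {H : Finset (Fin D2521.P.n) | H.card = 6 ∧ Indep H}.ncard = 168 := by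
  classical
  rw [hyperovals_eq]
  have hinj : Set.InjOn (finOf D2521.P.n) {h | h ∈ hov} := by
    intro a ha b hb hab
    exact finOf_injOn' (hov_props ha).1 (hov_props hb).1 hab
  rw [Set.InjOn.ncard_image hinj]
  have : {h | h ∈ hov} = ((hov.toFinset : Finset ℕ) : Set ℕ) := by
    ext h; simp
  rw [this, Set.ncard_coe_finset, List.toFinset_card_of_nodup (nodup_of_nd _ c_hov_nd), c_hov_len]

/-- each independent 4-set lies in exactly one hyperoval. -/
theorem exists_unique_hyperoval (S : Finset (Fin D2521.P.n)) (hc : S.card = 4) (hS : Indep S) :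
    ∃! H : Finset (Fin D2521.P.n), (H.card = 6 ∧ Indep H) ∧ S ⊆ H := by
  have hmem := hyperoval_exists hc hS
  obtain ⟨hlt, hcard, hind⟩ := hov_props hmem
  refine ⟨finOf D2521.P.n (maskOf S ||| unc (maskOf S)), ⟨⟨hcard, hind⟩, ?_⟩, ?_⟩
  · rw [finOf_or, finOf_maskOf]; exact Finset.subset_union_left
  · rintro H ⟨⟨hHc, hH⟩, hSH⟩
    rw [← hyperoval_unique hc hHc hH hSH, finOf_maskOf]

end Cfsg.Agent.Helper9.Steiner.Plane4
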